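import Mathlib
import Groth.Prelude.Def_EtRam

/-!
# Valuations in Artin–Schreier extensions
-/

set_option autoImplicit false
set_option linter.all false
set_option maxHeartbeats 800000

universe u

open IsLocalRing Polynomial

noncomputable section

namespace Groth.Agent.EtSol

/-- An Artin–Schreier polynomial without a root is irreducible. -/
theorem irreducible_X_pow_sub_X_sub_C {k : Type u} [Field k] {p : ℕ} [hp : Fact p.Prime] [CharP k p] {b : k}
    (h : ∀ e : k, e ^ p - e ≠ b) : Irreducible (X ^ p - X - C b : k[X]) := by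
  classical
  have hlt : (X + C b : k[X]).degree < (p : WithBot ℕ) :=
    (degree_X_add_C b).trans_lt (by exact_mod_cast hp.out.one_lt)
  have hm : (X ^ p - X - C b : k[X]).Monic := by rw [sub_sub]; exact monic_X_pow_sub hlt
  have hdeg : (X ^ p - X - C b : k[X]).natDegree = p := natDegree_eq_of_degree_eq_some (by
    rw [sub_sub, degree_sub_eq_left_of_degree_lt (by rwa [degree_X_pow]), degree_X_pow])
  have hne : (X ^ p - X - C b : k[X]) ≠ 1 := fun h1 => by
    rw [h1, natDegree_one] at hdeg; exact hp.out.ne_zero hdeg.symm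
  rw [hm.irreducible_iff_lt_natDegree_lt hne]
  rintro g hg hgd hdvd
  rw [hdeg, Finset.mem_Ioc] at hgd
  let Ω := AlgebraicClosure k
  haveI : CharP Ω p := charP_of_injective_algebraMap (algebraMap k Ω).injective p
  have hroot : ∀ x ∈ (g.map (algebraMap k Ω)).roots, x ^ p - x = algebraMap k Ω b := fun x hx => by
    obtain ⟨q, hq⟩ := hdvd
    have h0 : eval₂ (algebraMap k Ω) x g = 0 := by
      rw [eval₂_eq_eval_map]; exact (mem_roots'.1 hx).2
    have h1 := congrArg (eval₂ (algebraMap k Ω) x) hq
    rw [eval₂_mul, h0, zero_mul, eval₂_sub, eval₂_sub, eval₂_X_pow, eval₂_X, eval₂_C, sub_eq_zero] at h1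
    exact h1
  have hcard : (g.map (algebraMap k Ω)).roots.card = g.natDegree := by
    rw [← hg.natDegree_map (algebraMap k Ω)]
    exact ((IsAlgClosed.splits _).natDegree_eq_card_roots).symm
  obtain ⟨α, hα⟩ : ∃ α, α ∈ (g.map (algebraMap k Ω)).roots :=
    Multiset.card_pos_iff_exists_mem.1 (by rw [hcard]; exact hgd.1)
  have hdiff : ∀ x ∈ (g.map (algebraMap k Ω)).roots, x - α ∈ (algebraMap k Ω).fieldRange := fun x hx => by
    refine (bot_le : (⊥ : Subfield Ω) ≤ _) ((Subfield.mem_bot_iff_pow_eq_self Ω p).2 ?_)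
    rw [sub_pow_char]
    linear_combination hroot x hx - hroot α hα
  have hsum : ∀ m : Multiset Ω, (∀ x ∈ m, x - α ∈ (algebraMap k Ω).fieldRange) →
      m.sum - (Multiset.card m : Ω) * α ∈ (algebraMap k Ω).fieldRange := fun m => by
    induction m using Multiset.induction_on with
    | empty => intro _; rw [Multiset.sum_zero, Multiset.card_zero, Nat.cast_zero, zero_mul, sub_zero]; exact zero_mem _
    | cons a m ih =>
      intro hm
      rw [Multiset.sum_cons, Multiset.card_cons, Nat.cast_succ,
        show a + m.sum - ((Multiset.card m : Ω) + 1) * α = (a - α) + (m.sum - (Multiset.card m : Ω) * α) by ring]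
      exact add_mem (hm a (Multiset.mem_cons_self a m)) (ih fun x hx => hm x (Multiset.mem_cons_of_mem hx))
  have h1 := hsum _ hdiff
  rw [hcard] at h1
  have h2 : (g.map (algebraMap k Ω)).roots.sum ∈ (algebraMap k Ω).fieldRange := by
    have h3 := (IsAlgClosed.splits (g.map (algebraMap k Ω))).nextCoeff_eq_neg_sum_roots_of_monic (hg.map _)
    rw [nextCoeff_map (algebraMap k Ω).injective] at h3
    exact ⟨-g.nextCoeff, by rw [map_neg, h3, neg_neg]⟩
  have hd0 : (g.natDegree : Ω) ≠ 0 := fun h0 => by
    have := Nat.le_of_dvd hgd.1 ((CharP.cast_eq_zero_iff Ω p _).1 h0)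
    omega
  obtain ⟨e, he⟩ : α ∈ (algebraMap k Ω).fieldRange := by
    have h4 := div_mem (sub_mem h2 h1) (natCast_mem (algebraMap k Ω).fieldRange g.natDegree)
    rwa [sub_sub_cancel, mul_div_cancel_left₀ _ hd0] at h4
  refine h e ((algebraMap k Ω).injective ?_)
  rw [map_sub, map_pow, he]
  exact hroot α hα

variable {F N : Type u} [Field F] [Field N] [Algebra F N] (W : ValuationSubring N)

/-- The values of `N` are values of `F`. -/
def SameValues : Prop := ∀ y : N, y ≠ 0 → ∃ f : F, W.valuation (algebraMap F N f) = W.valuation y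

variable {W}

/-- Combinations of powers of an element with residue of degree `d`. -/
theorem exists_valuation_eq_coeff {d : ℕ} (s : W) (g : (ResidueField (W.comap (algebraMap F N)))[X]) (hg : Irreducible g)
    (hgm : g.Monic) (hgd : g.natDegree = d)
    (hs : g.eval₂ (ResidueField.map (EtRam.inclOfComap W (algebraMap F N))) (residue W s) = 0)
    (a : Fin d → F) (ha : ∃ i, a i ≠ 0) :
    ∃ i, W.valuation (∑ l, algebraMap F N (a l) * (s : N) ^ (l : ℕ)) = W.valuation (algebraMap F N (a i)) ∧
      ∀ l, W.valuation (algebraMap F N (a l)) ≤ W.valuation (algebraMap F N (a i)) := by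
  classical
  obtain ⟨i₁, hi₁⟩ := ha
  obtain ⟨i, -, hmax⟩ := Finset.exists_max_image (Finset.univ : Finset (Fin d))
    (fun l => W.valuation (algebraMap F N (a l))) ⟨i₁, Finset.mem_univ _⟩
  have hai : a i ≠ 0 := fun h0 => by
    have := hmax i₁ (Finset.mem_univ _)
    rw [h0, map_zero, map_zero, le_zero_iff, map_eq_zero, map_eq_zero] at this
    exact hi₁ this
  refine ⟨i, ?_, fun l => hmax l (Finset.mem_univ _)⟩
  let O := W.comap (algebraMap F N)
  have hb : ∀ l, a l / a i ∈ O := fun l => (W.valuation_le_one_iff _).1 (by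
    rw [map_div₀, map_div₀]; exact div_le_one_of_le₀ (hmax l (Finset.mem_univ _)) zero_le)
  let b : Fin d → O := fun l => ⟨a l / a i, hb l⟩
  let ι := EtRam.inclOfComap W (algebraMap F N)
  let y : W := ∑ l, ι (b l) * s ^ (l : ℕ)
  have hy : (∑ l, algebraMap F N (a l) * (s : N) ^ (l : ℕ)) = algebraMap F N (a i) * (y : N) := by
    simp only [y]
    push_cast
    rw [Finset.mul_sum]
    refine Finset.sum_congr rfl fun l _ => ?_
    rw [EtRam.inclOfComap_apply_coe, ← mul_assoc, ← map_mul, mul_div_cancel₀ _ hai]
  rw [hy, map_mul, (W.valuation_eq_one_iff y).1 (notMem_maximalIdeal.1 fun hym => ?_), mul_one]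
  let G : (ResidueField O)[X] := ∑ l, C (residue O (b l)) * X ^ (l : ℕ)
  have hG0 : G ≠ 0 := fun h => by
    have h1 := congrArg (fun q : (ResidueField O)[X] => q.coeff i) h
    simp only [G, finset_sum_coeff, coeff_C_mul_X_pow, coeff_zero] at h1
    rw [Finset.sum_eq_single i (fun j _ hj => if_neg fun h => hj (Fin.ext h.symm))
      (fun h => absurd (Finset.mem_univ _) h), if_pos rfl,
      show b i = 1 from Subtype.ext (div_self hai), map_one] at h1
    exact one_ne_zero h1
  have hGd : G.degree < d := by
    refine (degree_sum_le _ _).trans_lt ((Finset.sup_lt_iff (WithBot.bot_lt_coe d)).2 fun j _ => ?_)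
    exact (degree_C_mul_X_pow_le _ _).trans_lt (WithBot.coe_lt_coe.2 j.2)
  letI : Algebra (ResidueField O) (ResidueField W) := (ResidueField.map ι).toAlgebra
  have hroot : aeval (residue W s) G = 0 := by
    rw [show aeval (residue W s) G = residue W y by
      simp only [G, y, map_sum, map_mul, map_pow, aeval_C, aeval_X]; rfl]
    exact (residue_eq_zero_iff y).2 hym
  have h2 := minpoly.eq_of_irreducible_of_monic hg (show aeval (residue W s) g = 0 from hs) hgm
  have h3 := minpoly.degree_le_of_ne_zero _ (residue W s) hG0 hroot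
  rw [← h2, degree_eq_natDegree hg.ne_zero, hgd] at h3
  exact h3.not_gt hGd

/-- Residues and congruences. -/
theorem residue_map_eq_iff (x : W.comap (algebraMap F N)) (y : W) :
    ResidueField.map (EtRam.inclOfComap W (algebraMap F N)) (residue _ x) = residue W y ↔
      W.valuation (algebraMap F N x - y) < 1 := by
  rw [ResidueField.map_residue, ← sub_eq_zero, ← map_sub, residue_eq_zero_iff]
  exact W.valuation_lt_one_iff _

variable {p : ℕ} [hp : Fact p.Prime] [CharP N p] {w : N} {ξ : F} (hw : w ^ p - w = algebraMap F N ξ)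

include hw in
theorem valuation_root_le_one (hξ : W.valuation (algebraMap F N ξ) ≤ 1) : W.valuation w ≤ 1 := by
  by_contra hgt
  push Not at hgt
  have h1 : W.valuation w ^ p ≤ W.valuation w := by
    rw [← map_pow, show w ^ p = w + algebraMap F N ξ by linear_combination hw]
    exact (W.valuation.map_add _ _).trans (max_le le_rfl (hξ.trans hgt.le))
  exact h1.not_gt (lt_self_pow₀ hgt hp.out.one_lt)

include hw in
theorem valuation_root_of_one_lt (hξ : 1 < W.valuation (algebraMap F N ξ)) :
    W.valuation w ^ p = W.valuation (algebraMap F N ξ) ∧ 1 < W.valuation w := by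
  have hgt : 1 < W.valuation w := by
    by_contra hle
    push Not at hle
    refine hξ.not_ge ?_
    rw [← hw]
    exact (W.valuation.map_sub _ _).trans (max_le (by rw [map_pow]; exact pow_le_one₀ zero_le hle) hle)
  refine ⟨?_, hgt⟩
  rw [← hw, ← map_pow, W.valuation.map_sub_eq_of_lt_left]
  rw [map_pow]
  exact lt_self_pow₀ hgt hp.out.one_lt

variable (hgen : ∀ y : N, ∃ u : Fin p → F, y = ∑ i, algebraMap F N (u i) * w ^ (i : ℕ))

include hw hgen in
/-- An Artin–Schreier extension whose leading term has non `p`-th power residue keeps the values. -/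
theorem sameValues_of_leading (t γ : F) (ht : 1 < W.valuation (algebraMap F N t))
    (hγ : W.valuation (algebraMap F N γ) ≤ 1) (hnp : ∀ e : F, 1 ≤ W.valuation (algebraMap F N (γ - e ^ p)))
    (hlead : W.valuation (algebraMap F N (ξ / t ^ p - γ)) < 1) : SameValues (F := F) W := by
  haveI : CharP F p := (RingHom.charP_iff (algebraMap F N) (algebraMap F N).injective p).2 inferInstance
  have ht0 : algebraMap F N t ≠ 0 := fun h => by rw [h, map_zero] at ht; exact not_lt_zero ht
  have hγ1 : W.valuation (algebraMap F N γ) = 1 := hγ.antisymm (by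
    simpa [zero_pow hp.out.ne_zero] using hnp 0)
  have hξt : W.valuation (algebraMap F N ξ) = W.valuation (algebraMap F N t) ^ p := by
    have h1 : W.valuation (algebraMap F N (ξ / t ^ p)) = 1 := by
      rw [show ξ / t ^ p = γ + (ξ / t ^ p - γ) by ring, map_add, W.valuation.map_add_eq_of_lt_left (by rwa [hγ1]), hγ1]
    rw [map_div₀, map_pow, map_div₀, map_pow, div_eq_one_iff_eq (pow_ne_zero _ ((_root_.map_ne_zero _).2 ht0))] at h1
    exact h1
  obtain ⟨hwp, hw1⟩ := valuation_root_of_one_lt hw (hξt ▸ one_lt_pow₀ ht hp.out.ne_zero)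
  have hwt : W.valuation w = W.valuation (algebraMap F N t) :=
    (pow_left_inj₀ zero_le zero_le hp.out.ne_zero).1 (hwp.trans hξt)
  let s : W := ⟨w / algebraMap F N t, (W.valuation_le_one_iff _).1 (by
    rw [map_div₀, hwt, div_self ((_root_.map_ne_zero _).2 ht0)])⟩
  let O := W.comap (algebraMap F N)
  let γO : O := ⟨γ, (W.valuation_le_one_iff _).1 hγ⟩
  haveI : CharP W p := (RingHom.charP_iff W.subtype Subtype.val_injective p).2 inferInstance
  have hsroot : W.valuation (algebraMap F N γ - (s : N) ^ p) < 1 := by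
    have h1 : (s : N) ^ p - algebraMap F N γ = algebraMap F N (ξ / t ^ p - γ) + w / algebraMap F N t ^ p := by
      show (w / algebraMap F N t) ^ p - _ = _
      rw [map_sub, map_div₀, map_pow, ← hw, div_pow]
      ring
    rw [W.valuation.map_sub_swap, h1]
    refine (W.valuation.map_add _ _).trans_lt (max_lt hlead ?_)
    rw [map_div₀, map_pow, hwt, div_lt_one₀ (pow_pos (zero_lt_one.trans ht) p)]
    exact lt_self_pow₀ ht hp.out.one_lt
  intro y hy
  obtain ⟨u, hu⟩ := hgen y
  obtain ⟨i, hi, -⟩ := exists_valuation_eq_coeff s (X ^ p - C (residue O γO))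
    (X_pow_sub_C_irreducible_of_prime hp.out fun e he => by
      obtain ⟨⟨e, hee⟩, rfl⟩ := residue_surjective e
      refine ((hnp e).not_gt ?_)
      rw [← map_pow, ← sub_eq_zero, ← map_sub, residue_eq_zero_iff] at he
      have h1 := (W.valuation_lt_one_iff _).1 (map_nonunit (EtRam.inclOfComap W (algebraMap F N)) _ he)
      rw [map_sub, W.valuation.map_sub_swap]
      simpa using h1)
    (monic_X_pow_sub_C _ hp.out.ne_zero) natDegree_X_pow_sub_C
    (by
      rw [eval₂_sub, eval₂_X_pow, eval₂_C, sub_eq_zero, eq_comm, ← map_pow, residue_map_eq_iff]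
      exact hsroot) (fun l => u l * t ^ (l : ℕ)) (by
      by_contra h
      push Not at h
      refine hy (hu.trans (Finset.sum_eq_zero fun l _ => ?_))
      rcases mul_eq_zero.1 (h l) with h' | h'
      · rw [h', map_zero, zero_mul]
      · exact absurd ((pow_eq_zero_iff' (n := (l : ℕ))).1 h').1 (fun h0 => ht0 (by rw [h0, map_zero])))
  refine ⟨u i * t ^ (i : ℕ), hi.symm.trans (congrArg W.valuation ?_)⟩
  rw [hu]
  refine Finset.sum_congr rfl fun l _ => ?_
  show algebraMap F N (u l * t ^ (l : ℕ)) * (w / algebraMap F N t) ^ (l : ℕ) = _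
  rw [map_mul, map_pow, mul_assoc, ← mul_pow, mul_div_cancel₀ _ ht0]

include hw hgen in
/-- An Artin–Schreier extension with a residual root is approximated by the base field. -/
theorem exists_close_of_residue_root (harch : ∀ y δ : N, y ≠ 0 → W.valuation δ < 1 → ∃ k, W.valuation δ ^ k < W.valuation y)
    (hξ : W.valuation (algebraMap F N ξ) ≤ 1) {e : ResidueField (W.comap (algebraMap F N))}
    (he : e ^ p - e = residue _ ⟨ξ, (W.valuation_le_one_iff _).1 hξ⟩) (y : N) (hy : y ≠ 0) :
    ∃ f : F, W.valuation (algebraMap F N f - y) < W.valuation y := by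
  haveI : CharP F p := (RingHom.charP_iff (algebraMap F N) (algebraMap F N).injective p).2 inferInstance
  let O := W.comap (algebraMap F N)
  let ι := EtRam.inclOfComap W (algebraMap F N)
  haveI : CharP O p := (RingHom.charP_iff O.subtype Subtype.val_injective p).2 inferInstance
  have hw1 := valuation_root_le_one hw hξ
  let ξO : O := ⟨ξ, (W.valuation_le_one_iff _).1 hξ⟩
  let wW : W := ⟨w, (W.valuation_le_one_iff _).1 hw1⟩
  haveI : CharP W p := (RingHom.charP_iff W.subtype Subtype.val_injective p).2 inferInstance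
  haveI : CharP (ResidueField W) p := (CharP.charP_iff_prime_eq_zero hp.out).2 (by
    rw [← map_natCast (residue W), CharP.cast_eq_zero, map_zero])
  haveI : CharP (ResidueField O) p := (CharP.charP_iff_prime_eq_zero hp.out).2 (by
    rw [← map_natCast (residue O), CharP.cast_eq_zero, map_zero])
  have hwbar : residue W wW ^ p - residue W wW = ResidueField.map ι (residue O ξO) := by
    rw [ResidueField.map_residue, ← map_pow, ← map_sub]
    exact congrArg _ (Subtype.ext hw)
  have hfix : (residue W wW - ResidueField.map ι e) ^ p = residue W wW - ResidueField.map ι e := by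
    rw [sub_pow_char]
    rw [← he, map_sub, map_pow] at hwbar
    linear_combination hwbar
  obtain ⟨n, hn⟩ : residue W wW - ResidueField.map ι e ∈ (ResidueField.map ι).fieldRange :=
    (bot_le : (⊥ : Subfield (ResidueField W)) ≤ _) ((Subfield.mem_bot_iff_pow_eq_self _ p).2 hfix)
  obtain ⟨e₀, he₀⟩ := residue_surjective (n + e)
  have he' : residue W wW = ResidueField.map ι (residue O e₀) := by
    rw [he₀, map_add, hn, sub_add_cancel]
  have hδ : W.valuation (algebraMap F N e₀ - w) < 1 := (residue_map_eq_iff e₀ wW).1 he'.symm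
  set δ := w - algebraMap F N e₀ with hδdef
  have hδ1 : W.valuation δ < 1 := by rwa [hδdef, W.valuation.map_sub_swap]
  -- successive approximations
  have happ : ∀ k : ℕ, ∃ f : F, W.valuation (w - algebraMap F N f) ≤ W.valuation δ ^ (p ^ k) := by
    intro k
    induction k with
    | zero => exact ⟨e₀, by rw [pow_zero, pow_one]⟩
    | succ k ih =>
      obtain ⟨f, hf⟩ := ih
      refine ⟨f ^ p - ξ, ?_⟩
      rw [show w - algebraMap F N (f ^ p - ξ) = (w - algebraMap F N f) ^ p by
        rw [sub_pow_char, map_sub, map_pow, ← hw]; ring, map_pow, pow_succ, pow_mul]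
      exact pow_le_pow_left₀ zero_le hf p
  obtain ⟨u, hu⟩ := hgen y
  obtain ⟨i₀, hi₀⟩ : ∃ i, u i ≠ 0 := by
    by_contra h
    push Not at h
    exact hy (hu.trans (Finset.sum_eq_zero fun l _ => by rw [h l, map_zero, zero_mul]))
  obtain ⟨i, -, hmax⟩ := Finset.exists_max_image (Finset.univ : Finset (Fin p))
    (fun l => W.valuation (algebraMap F N (u l))) ⟨i₀, Finset.mem_univ _⟩
  have hM : (0 : W.ValueGroup) < W.valuation (algebraMap F N (u i)) :=
    (zero_lt_iff.2 ((_root_.map_ne_zero _).2 ((_root_.map_ne_zero _).2 hi₀))).trans_le (hmax i₀ (Finset.mem_univ _))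
  obtain ⟨k, hk⟩ := harch (y / algebraMap F N (u i)) δ
    (div_ne_zero hy fun h => by rw [h, map_zero] at hM; exact lt_irrefl _ hM) hδ1
  obtain ⟨f, hf⟩ := happ k
  refine ⟨∑ l, u l * f ^ (l : ℕ), ?_⟩
  have hsmall : W.valuation (w - algebraMap F N f) * W.valuation (algebraMap F N (u i)) < W.valuation y := by
    have h1 : W.valuation (w - algebraMap F N f) < W.valuation (y / algebraMap F N (u i)) :=
      (hf.trans (pow_le_pow_of_le_one zero_le hδ1.le (Nat.lt_pow_self hp.out.one_lt).le)).trans_lt hk
    rw [map_div₀, lt_div_iff₀ hM] at h1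
    exact h1
  have hf1 : W.valuation (algebraMap F N f) ≤ 1 := by
    rw [show algebraMap F N f = w - (w - algebraMap F N f) by ring]
    exact (W.valuation.map_sub _ _).trans (max_le hw1 (hf.trans (pow_le_one₀ zero_le hδ1.le)))
  conv_lhs => rw [map_sum, hu, ← Finset.sum_sub_distrib]
  refine W.valuation.map_sum_lt ((_root_.map_ne_zero _).2 hy) fun l _ => ?_
  rw [map_mul, map_pow, ← mul_sub, map_mul]
  refine lt_of_le_of_lt ?_ hsmall
  rw [mul_comm (W.valuation (w - algebraMap F N f))]
  refine mul_le_mul' (hmax l (Finset.mem_univ _)) ?_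
  rw [W.valuation.map_sub_swap w]
  rw [← (Commute.all (algebraMap F N f) w).geom_sum₂_mul, map_mul]
  refine mul_le_of_le_one_left zero_le (W.valuation.map_sum_le fun j _ => ?_)
  rw [map_mul, map_pow, map_pow]
  exact mul_le_one₀ (pow_le_one₀ zero_le hf1) zero_le (pow_le_one₀ zero_le hw1)


include hw hgen in
/-- An Artin–Schreier extension by an integral element keeps the values. -/
theorem sameValues_of_integral (harch : ∀ y δ : N, y ≠ 0 → W.valuation δ < 1 → ∃ k, W.valuation δ ^ k < W.valuation y)
    (hξ : W.valuation (algebraMap F N ξ) ≤ 1) : SameValues (F := F) W := by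
  haveI : CharP F p := (RingHom.charP_iff (algebraMap F N) (algebraMap F N).injective p).2 inferInstance
  let O := W.comap (algebraMap F N)
  let ι := EtRam.inclOfComap W (algebraMap F N)
  haveI : CharP O p := (RingHom.charP_iff O.subtype Subtype.val_injective p).2 inferInstance
  have hw1 := valuation_root_le_one hw hξ
  let ξO : O := ⟨ξ, (W.valuation_le_one_iff _).1 hξ⟩
  let wW : W := ⟨w, (W.valuation_le_one_iff _).1 hw1⟩
  haveI : CharP W p := (RingHom.charP_iff W.subtype Subtype.val_injective p).2 inferInstance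
  haveI : CharP (ResidueField W) p := (CharP.charP_iff_prime_eq_zero hp.out).2 (by
    rw [← map_natCast (residue W), CharP.cast_eq_zero, map_zero])
  haveI : CharP (ResidueField O) p := (CharP.charP_iff_prime_eq_zero hp.out).2 (by
    rw [← map_natCast (residue O), CharP.cast_eq_zero, map_zero])
  have hwbar : residue W wW ^ p - residue W wW = ResidueField.map ι (residue O ξO) := by
    rw [ResidueField.map_residue, ← map_pow, ← map_sub]
    exact congrArg _ (Subtype.ext hw)
  by_cases hroot : ∀ e : ResidueField O, e ^ p - e ≠ residue O ξO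
  · intro y hy
    obtain ⟨u, hu⟩ := hgen y
    obtain ⟨i, hi, -⟩ := exists_valuation_eq_coeff wW _ (irreducible_X_pow_sub_X_sub_C hroot)
      (by rw [sub_sub]; exact monic_X_pow_sub ((degree_X_add_C _).trans_lt (by exact_mod_cast hp.out.one_lt)))
      (natDegree_eq_of_degree_eq_some (by
        rw [sub_sub, degree_sub_eq_left_of_degree_lt (by
          rw [degree_X_pow, degree_X_add_C]; exact_mod_cast hp.out.one_lt), degree_X_pow]))
      (by rw [eval₂_sub, eval₂_sub, eval₂_X_pow, eval₂_X, eval₂_C, hwbar, sub_self]) u (by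
        by_contra h
        push Not at h
        exact hy (hu.trans (Finset.sum_eq_zero fun l _ => by rw [h l, map_zero, zero_mul])))
    exact ⟨u i, by rw [hu]; exact hi.symm⟩
  push Not at hroot
  obtain ⟨e, he⟩ := hroot
  intro y hy
  obtain ⟨f, hf⟩ := exists_close_of_residue_root hw hgen harch hξ he y hy
  refine ⟨f, ?_⟩
  rw [show algebraMap F N f = y + (algebraMap F N f - y) by ring, W.valuation.map_add_eq_of_lt_left hf]

end Groth.Agent.EtSol
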