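import Mathlib
import Groth.Prelude.Def_EtRam
import Groth.Agent.TameAbh.Core
import Groth.Agent.TameAbh.Compositum

/-!
# Every finite extension is a solution for a weakly unramified, residually separable extension
-/

set_option autoImplicit false
set_option linter.all false
set_option maxHeartbeats 1000000

universe u

open IsLocalRing
open scoped TensorProduct

noncomputable section

namespace Groth.Agent.EtSol

/-- A quotient of the base change of a geometrically reduced field extension along an algebraic
extension is geometrically reduced. -/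
theorem geometricallyReduced_of_surjective {k k' l F : Type u} [Field k] [Field k'] [Field l] [Field F]
    [Algebra k k'] [Algebra k l] [Algebra k' F] [Algebra.IsAlgebraic k k'] [Algebra.IsGeometricallyReduced k l]
    (ψ : k' ⊗[k] l →ₐ[k'] F) (hψ : Function.Surjective ψ) : Algebra.IsGeometricallyReduced k' F := by
  rw [Algebra.isGeometricallyReduced_field_iff]
  let Ω := AlgebraicClosure k'
  haveI : Algebra.IsAlgebraic k Ω := Algebra.IsAlgebraic.trans k k' Ω
  haveI : _root_.IsReduced (Ω ⊗[k] l) := inferInstance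
  let e : Ω ⊗[k'] (k' ⊗[k] l) ≃ₐ[Ω] Ω ⊗[k] l := Algebra.TensorProduct.cancelBaseChange k k' Ω Ω l
  haveI : _root_.IsReduced (Ω ⊗[k'] (k' ⊗[k] l)) := isReduced_of_injective e e.injective
  have hint : (Algebra.TensorProduct.includeRight : l →ₐ[k] Ω ⊗[k] l).toRingHom.IsIntegral := by
    intro z
    induction z using TensorProduct.induction_on with
    | zero => exact RingHom.isIntegralElem_zero _
    | tmul a b =>
      rw [show a ⊗ₜ[k] b = (a ⊗ₜ 1) * (1 ⊗ₜ b) by simp]
      refine RingHom.IsIntegralElem.mul _ ?_ (RingHom.isIntegralElem_map _)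
      obtain ⟨P, hP, hz⟩ := (Algebra.IsIntegral.isIntegral (R := k) a).map
        (Algebra.TensorProduct.includeLeft : Ω →ₐ[k] Ω ⊗[k] l)
      refine ⟨P.map (algebraMap k l), hP.map _, ?_⟩
      rw [Polynomial.eval₂_map, AlgHom.toRingHom_eq_coe, AlgHom.comp_algebraMap]
      exact hz
    | add a b ha hb => exact RingHom.IsIntegralElem.add _ ha hb
  have hv : TameAbh.IsVNR (Ω ⊗[k'] (k' ⊗[k] l)) :=
    (TameAbh.isVNR_of_integral _ hint).of_surjective e.symm.toRingHom e.symm.surjective
  refine (hv.of_surjective (Algebra.TensorProduct.map (AlgHom.id k' Ω) ψ).toRingHom ?_).isReduced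
  exact TensorProduct.map_surjective Function.surjective_id hψ

variable {A B K L : Type u} [CommRing A] [IsDomain A] [IsDiscreteValuationRing A] [CommRing B] [IsDomain B]
  [IsDiscreteValuationRing B] [Algebra A B] [IsLocalHom (algebraMap A B)]
  [Field K] [Field L] [Algebra A K] [IsFractionRing A K] [Algebra B L] [IsFractionRing B L] [Algebra K L]
  [Algebra A L] [IsScalarTower A K L] [IsScalarTower A B L]

theorem isSolution (hinj : Function.Injective (algebraMap A B)) (hw : EtRam.IsWeaklyUnramified A B)
    [Algebra.IsGeometricallyReduced (ResidueField A) (ResidueField B)]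
    (K₁ : Type u) [Field K₁] [Algebra K K₁] [FiniteDimensional K K₁] : EtRam.IsSolution B K L K₁ := by
  intro M _ _ _ _ _ _ hgen W hW
  classical
  have hfin : FiniteDimensional L M := by
    let φ : L ⊗[K] K₁ →ₐ[L] M := Algebra.TensorProduct.lift (Algebra.ofId L M) (IsScalarTower.toAlgHom K K₁ M)
      fun _ _ => mul_comm _ _
    have hs : Function.Surjective φ := by
      rw [← AlgHom.range_eq_top, eq_top_iff, ← hgen, Algebra.adjoin_le_iff]
      rintro _ ⟨z, rfl⟩
      exact ⟨1 ⊗ₜ z, (Algebra.TensorProduct.lift_tmul _ _ _ _ _).trans (by rw [map_one, one_mul]; rfl)⟩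
    exact Module.Finite.of_surjective φ.toLinearMap hs
  haveI := hfin
  haveI := TameAbh.isDVR_of_dominates (A := B) (K := L) W hW
  have hc0 : ∀ a, algebraMap K₁ M (algebraMap K K₁ (algebraMap A K a)) =
      algebraMap L M (algebraMap B L (algebraMap A B a)) := fun a => by
    rw [← IsScalarTower.algebraMap_apply K K₁ M, IsScalarTower.algebraMap_apply K L M,
      ← IsScalarTower.algebraMap_apply A K L, IsScalarTower.algebraMap_apply A B L]
  have hV : EtRam.Dominates A ((algebraMap K K₁).comp (algebraMap A K)) (W.comap (algebraMap K₁ M)) := by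
    refine (EtRamTower.dominates_comap_iff (algebraMap K₁ M) _ W).2 ?_
    rw [show (algebraMap K₁ M).comp ((algebraMap K K₁).comp (algebraMap A K)) =
      ((algebraMap L M).comp (algebraMap B L)).comp (algebraMap A B) from RingHom.ext hc0]
    exact ⟨fun a => hW.1 _, fun a ha => hW.2 _ (map_nonunit (algebraMap A B) a ha)⟩
  haveI := TameAbh.isDVR_of_dominates (A := A) (K := K) (W.comap (algebraMap K₁ M)) hV
  let V := W.comap (algebraMap K₁ M)
  letI : Algebra A V := (RingHom.codRestrict ((algebraMap K K₁).comp (algebraMap A K)) _ hV.1).toAlgebra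
  haveI : IsLocalHom (algebraMap A V) := EtRamTower.isLocalHom_codRestrict _ _ hV
  let iB : B →+* W := RingHom.codRestrict ((algebraMap L M).comp (algebraMap B L)) _ hW.1
  haveI : IsLocalHom iB := EtRamTower.isLocalHom_codRestrict _ _ hW
  let iV : V →+* W := EtRam.inclOfComap W (algebraMap K₁ M)
  have hc : iB.comp (algebraMap A B) = iV.comp (algebraMap A V) :=
    RingHom.ext fun a => Subtype.ext (hc0 a).symm
  haveI : Algebra.IsIntegral (ResidueField A) (ResidueField V) :=
    TameAbh.isIntegral_residue (A := A) (K := K) V (fun a => rfl)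
  haveI : Algebra.IsAlgebraic (ResidueField A) (ResidueField V) := Algebra.IsIntegral.isAlgebraic
  haveI : _root_.IsReduced (ResidueField B ⊗[ResidueField A] ResidueField V) :=
    isReduced_of_injective (Algebra.TensorProduct.comm (ResidueField A) (ResidueField B) (ResidueField V))
      (AlgEquiv.injective _)
  obtain ⟨π, hπ⟩ := IsDiscreteValuationRing.exists_irreducible A
  obtain ⟨π₁, hπ₁⟩ := IsDiscreteValuationRing.exists_irreducible V
  obtain ⟨v, hv, hd, -⟩ := TameAbh.exists_pow_eq (A := A) (K := K) V (fun a => rfl) π hπ π₁ hπ₁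
  have hsub : ∀ x : M, x ∈ Subfield.closure (Set.range (W.subtype.comp iB) ∪ Set.range (W.subtype.comp iV)) := by
    intro x
    have hx : x ∈ Algebra.adjoin L (Set.range (algebraMap K₁ M)) := hgen ▸ Algebra.mem_top
    induction hx using Algebra.adjoin_induction with
    | mem x hx =>
      obtain ⟨z, rfl⟩ := hx
      obtain ⟨a, b, hb, rfl⟩ := IsFractionRing.div_surjective (A := V) z
      rw [map_div₀]
      exact div_mem (Subfield.subset_closure (Or.inr ⟨a, rfl⟩)) (Subfield.subset_closure (Or.inr ⟨b, rfl⟩))
    | algebraMap r =>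
      obtain ⟨a, b, hb, rfl⟩ := IsFractionRing.div_surjective (A := B) r
      rw [map_div₀]
      exact div_mem (Subfield.subset_closure (Or.inl ⟨a, rfl⟩)) (Subfield.subset_closure (Or.inl ⟨b, rfl⟩))
    | add _ _ _ _ h h' => exact add_mem h h'
    | mul _ _ _ _ h h' => exact mul_mem h h'
  have hgenM : ∀ x : M, ∃ a ∈ Subring.closure (Set.range (W.subtype.comp iB) ∪ Set.range (W.subtype.comp iV)),
      ∃ b ∈ Subring.closure (Set.range (W.subtype.comp iB) ∪ Set.range (W.subtype.comp iV)), b ≠ 0 ∧ x * b = a := by
    intro x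
    obtain ⟨a, ha, b, hb, hab⟩ := Subfield.mem_closure_iff.1 (hsub x)
    rcases eq_or_ne b 0 with rfl | hb0
    · exact ⟨0, zero_mem _, 1, one_mem _, one_ne_zero, by rw [← hab, div_zero, zero_mul]⟩
    · exact ⟨a, ha, b, hb, hb0, by rw [← hab, div_mul_cancel₀ a hb0]⟩
  obtain ⟨hmax, y, hy, hyt⟩ := TameAbh.abhyankar (A := A) W iB iV hc (Or.inl inferInstance) hgenM
    (algebraMap A B π) (by rw [← hw, hπ.maximalIdeal_eq, Ideal.map_span, Set.image_singleton]) π₁
    hπ₁.maximalIdeal_eq (fun h => hπ₁.ne_zero (Subtype.ext ((algebraMap K₁ M).injective (by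
      rw [show ((0 : V) : K₁) = 0 from rfl, map_zero]; exact congrArg Subtype.val h))))
    1 (Ideal.ramificationIdx' (maximalIdeal A) (maximalIdeal V)) (by simp) hd π 1 v
    (by simp) (by rw [one_mul]; exact hv)
  refine ⟨?_, ?_⟩
  · show (maximalIdeal V).map iV = maximalIdeal W
    rw [hπ₁.maximalIdeal_eq, Ideal.map_span, Set.image_singleton, ← hmax]
  · letI : Algebra (ResidueField V) (ResidueField W) := (ResidueField.map iV).toAlgebra
    letI : Algebra (ResidueField A) (ResidueField W) :=
      ((ResidueField.map iV).comp (algebraMap (ResidueField A) (ResidueField V))).toAlgebra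
    haveI : IsScalarTower (ResidueField A) (ResidueField V) (ResidueField W) :=
      IsScalarTower.of_algebraMap_eq fun _ => rfl
    let fB : ResidueField B →ₐ[ResidueField A] ResidueField W :=
      { toRingHom := ResidueField.map iB
        commutes' := fun x => by
          obtain ⟨x, rfl⟩ := residue_surjective x
          exact congrArg (residue W) (RingHom.congr_fun hc x) }
    let ψ : ResidueField V ⊗[ResidueField A] ResidueField B →ₐ[ResidueField V] ResidueField W :=
      Algebra.TensorProduct.lift (Algebra.ofId _ _) fB fun _ _ => mul_comm _ _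
    refine geometricallyReduced_of_surjective ψ ?_
    have hy' : y = ResidueField.map iB (residue B 1) * (ResidueField.map iV (residue V v))⁻¹ := by
      rw [pow_one, Units.val_one] at hy
      rw [← hy, mul_inv_cancel_right₀]
      exact ((v.isUnit.map (residue V)).map _).ne_zero
    rw [← AlgHom.range_eq_top, eq_top_iff]
    intro z _
    show z ∈ ψ.toRingHom.range
    refine (?_ : Subring.closure _ ≤ ψ.toRingHom.range) (hyt ▸ Subring.mem_top z)
    rw [Subring.closure_le]
    have hV' : ∀ x, ResidueField.map iV x ∈ ψ.toRingHom.range := fun x =>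
      ⟨x ⊗ₜ 1, (Algebra.TensorProduct.lift_tmul _ _ _ x 1).trans (by rw [map_one, mul_one]; rfl)⟩
    have hB' : ∀ x, ResidueField.map iB x ∈ ψ.toRingHom.range := fun x =>
      ⟨1 ⊗ₜ x, (Algebra.TensorProduct.lift_tmul _ _ _ 1 x).trans (by rw [map_one, one_mul]; rfl)⟩
    rintro _ ((⟨x, rfl⟩ | ⟨x, rfl⟩) | rfl)
    · exact hB' x
    · exact hV' x
    · rw [hy', ← map_inv₀]
      exact mul_mem (hB' _) (hV' _)

end Groth.Agent.EtSol
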