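import Mathlib
import Groth.Prelude.Def_EtRam
import Groth.Agent.EtSol.WeaklyUnram

/-!
# Valuatively close subfields have the same ramification and residue behaviour
-/

set_option autoImplicit false
set_option linter.all false
set_option maxHeartbeats 1000000

universe u

open IsLocalRing Polynomial
open scoped TensorProduct

noncomputable section

namespace Groth.Agent.EtSol

variable {Ω : Type u} [Field Ω] (U : ValuationSubring Ω)

/-- `b` is close to `a`: both vanish or their difference is smaller than `a`. -/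
def Close (a b : Ω) : Prop := (a = 0 ∧ b = 0) ∨ U.valuation (b - a) < U.valuation a

variable {U}

theorem Close.valuation_eq {a b : Ω} (h : Close U a b) : U.valuation b = U.valuation a := by
  rcases h with ⟨rfl, rfl⟩ | h
  · rfl
  · conv_lhs => rw [show b = a + (b - a) by ring]
    exact U.valuation.map_add_eq_of_lt_left h

theorem Close.sub_lt_one {a b : Ω} (h : Close U a b) (ha : U.valuation a ≤ 1) : U.valuation (b - a) < 1 := by
  rcases h with ⟨rfl, rfl⟩ | h
  · rw [sub_zero, map_zero]; exact zero_lt_one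
  · exact h.trans_le ha

/-- Replacing a root of `X ^ p - a` by a root of `X ^ p - c X - a`, `c` small, moves combinations of powers little. -/
theorem close_sum (p : ℕ) [Fact p.Prime] [CharP Ω p] {x z a c P : Ω} (hx : x ^ p = a) (hz : z ^ p = a + c * z)
    (ha : U.valuation a ≤ 1) (hc1 : U.valuation c ≤ 1) (k : ℕ) (hP : P ≠ 0)
    (hc : U.valuation c < U.valuation P ^ (k * p)) (u : Fin p → Ω)
    (hu : ∀ i, U.valuation P ^ k * U.valuation (u i) ≤ U.valuation (∑ l, u l * x ^ (l : ℕ))) :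
    Close U (∑ l, u l * x ^ (l : ℕ)) (∑ l, u l * z ^ (l : ℕ)) := by
  have hp : p.Prime := Fact.out
  set y := ∑ l, u l * x ^ (l : ℕ) with hy
  rcases eq_or_ne y 0 with hy0 | hy0
  · refine Or.inl ⟨hy0, Finset.sum_eq_zero fun i _ => ?_⟩
    have h := hu i
    rw [hy0, map_zero, le_zero_iff, mul_eq_zero, map_eq_zero] at h
    rw [h.resolve_left (pow_ne_zero _ ((_root_.map_ne_zero _).2 hP)), zero_mul]
  have hz1 : U.valuation z ≤ 1 := by
    by_contra hgt
    push Not at hgt
    have h1 : U.valuation z ^ p ≤ U.valuation z := by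
      rw [← map_pow, hz]
      refine (U.valuation.map_add _ _).trans (max_le (ha.trans hgt.le) ?_)
      rw [map_mul]
      exact mul_le_of_le_one_left zero_le hc1
    exact h1.not_gt (lt_self_pow₀ hgt hp.one_lt)
  have hac : U.valuation (a + c * z) ≤ 1 :=
    (U.valuation.map_add _ _).trans (max_le ha (by rw [map_mul]; exact mul_le_one₀ hc1 zero_le hz1))
  have hdiff : ∀ i : ℕ, U.valuation ((a + c * z) ^ i - a ^ i) ≤ U.valuation c := by
    intro i
    induction i with
    | zero => rw [pow_zero, pow_zero, sub_self, map_zero]; exact zero_le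
    | succ i ih =>
      rw [show (a + c * z) ^ (i + 1) - a ^ (i + 1) = (a + c * z) * ((a + c * z) ^ i - a ^ i) + c * z * a ^ i by ring]
      refine (U.valuation.map_add _ _).trans (max_le ?_ ?_)
      · rw [map_mul]; exact (mul_le_of_le_one_left zero_le hac).trans ih
      · rw [map_mul, map_mul, map_pow, mul_assoc]
        exact mul_le_of_le_one_right zero_le (mul_le_one₀ hz1 zero_le (pow_le_one₀ zero_le ha))
  refine Or.inr (lt_of_pow_lt_pow_left₀ p zero_le ?_)
  rw [← map_pow, hy, ← Finset.sum_sub_distrib, sum_pow_char]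
  refine U.valuation.map_sum_lt (pow_ne_zero _ ((_root_.map_ne_zero _).2 hy0)) fun i _ => ?_
  rw [← mul_sub, mul_pow, sub_pow_char, ← pow_mul, ← pow_mul, mul_comm (i : ℕ), pow_mul, pow_mul, hx, hz, map_mul]
  rcases eq_or_ne (u i) 0 with h0 | h0
  · rw [h0, zero_pow hp.ne_zero, map_zero, zero_mul]
    exact pow_pos (zero_lt_iff.2 ((_root_.map_ne_zero _).2 hy0)) p
  calc U.valuation (u i ^ p) * U.valuation ((a + c * z) ^ (i : ℕ) - a ^ (i : ℕ))
      ≤ U.valuation (u i ^ p) * U.valuation c := by gcongr; exact hdiff _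
    _ < U.valuation (u i ^ p) * U.valuation P ^ (k * p) :=
        mul_lt_mul_of_pos_left hc (zero_lt_iff.2 ((_root_.map_ne_zero _).2 (pow_ne_zero _ h0)))
    _ = (U.valuation P ^ k * U.valuation (u i)) ^ p := by rw [map_pow, mul_pow, ← pow_mul, mul_comm]
    _ ≤ _ := by gcongr; exact hu i

variable (U)

/-- The condition on one local extension in the definition of a solution. -/
def Good {K₁ M : Type u} [Field K₁] [Field M] (W : ValuationSubring M) (f : K₁ →+* M) : Prop :=
  letI : Algebra (W.comap f) W := (EtRam.inclOfComap W f).toAlgebra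
  EtRam.IsWeaklyUnramified (W.comap f) W ∧
    @Algebra.IsGeometricallyReduced (IsLocalRing.ResidueField (W.comap f)) (IsLocalRing.ResidueField W) _ _
      (IsLocalRing.ResidueField.map (EtRam.inclOfComap W f)).toAlgebra

theorem valuation_lt_one_of_mem {W : ValuationSubring Ω} {z : W} (h : z ∈ maximalIdeal W) :
    W.valuation (z : Ω) < 1 := (W.valuation_lt_one_iff z).1 h

variable {K₂ M₂ K₃ M₃ : Type u} [Field K₂] [Field M₂] [Field K₃] [Field M₃] (ψ₂ : M₂ →+* Ω) (f₂ : K₂ →+* M₂)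
  (ψ₃ : M₃ →+* Ω) (f₃ : K₃ →+* M₃)

/-- Elements of a pulled back valuation ring are nonunits iff their images are. -/
theorem mem_maximalIdeal_comap {M : Type u} [Field M] (ψ : M →+* Ω) (z : U.comap ψ) :
    z ∈ maximalIdeal (U.comap ψ) ↔ U.valuation (ψ z) < 1 := by
  constructor
  · exact fun h => valuation_lt_one_of_mem (map_nonunit (EtRam.inclOfComap U ψ) z h)
  · exact fun h hu => h.ne ((U.valuation_eq_one_iff _).1 (hu.map (EtRam.inclOfComap U ψ)))

theorem range_residue_le {M M' : Type u} [Field M] [Field M'] (ψ : M →+* Ω) (ψ' : M' →+* Ω)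
    (h : ∀ b, ∃ b', U.valuation (ψ' b') = U.valuation (ψ b) ∧
      (U.valuation (ψ b) ≤ 1 → U.valuation (ψ' b' - ψ b) < 1)) :
    (ResidueField.map (EtRam.inclOfComap U ψ)).range ≤ (ResidueField.map (EtRam.inclOfComap U ψ')).range := by
  rintro _ ⟨x, rfl⟩
  obtain ⟨⟨b, hb⟩, rfl⟩ := residue_surjective x
  obtain ⟨b', heq, hsub⟩ := h b
  have hb1 : U.valuation (ψ b) ≤ 1 := (U.valuation_le_one_iff _).2 hb
  have hb' : b' ∈ U.comap ψ' := (U.valuation_le_one_iff _).1 (heq.trans_le hb1)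
  refine ⟨residue _ ⟨b', hb'⟩, ?_⟩
  rw [ResidueField.map_residue, ResidueField.map_residue, ← sub_eq_zero, ← map_sub, residue_eq_zero_iff]
  exact (U.valuation_lt_one_iff _).2 (hsub hb1)

theorem good_of_close
    (hM : ∀ b, ∃ b', Close U (ψ₂ b) (ψ₃ b')) (hM' : ∀ b', ∃ b, Close U (ψ₂ b) (ψ₃ b'))
    (hK : ∀ t, ∃ t', Close U (ψ₂ (f₂ t)) (ψ₃ (f₃ t'))) (hK' : ∀ t', ∃ t, Close U (ψ₂ (f₂ t)) (ψ₃ (f₃ t')))
    (hg : Good (U.comap ψ₂) f₂) : Good (U.comap ψ₃) f₃ := by
  classical
  obtain ⟨hwu, hgr⟩ := hg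
  let W₂ := U.comap ψ₂
  let W₃ := U.comap ψ₃
  refine ⟨?_, ?_⟩
  · letI : Algebra (W₂.comap f₂) W₂ := (EtRam.inclOfComap W₂ f₂).toAlgebra
    letI : Algebra (W₃.comap f₃) W₃ := (EtRam.inclOfComap W₃ f₃).toAlgebra
    show (maximalIdeal (W₃.comap f₃)).map (EtRam.inclOfComap W₃ f₃) = maximalIdeal W₃
    refine le_antisymm (Ideal.map_le_iff_le_comap.2 fun v hv => map_nonunit (EtRam.inclOfComap W₃ f₃) v hv)
      fun y hy => ?_
    have hy1 : U.valuation (ψ₃ y) < 1 := (mem_maximalIdeal_comap U ψ₃ y).1 hy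
    obtain ⟨b, hb⟩ := hM' y
    have hby : U.valuation (ψ₃ y) = U.valuation (ψ₂ b) := hb.valuation_eq
    have hbW : b ∈ W₂ := (U.valuation_le_one_iff _).1 (hby ▸ hy1.le)
    have hbm : (⟨b, hbW⟩ : W₂) ∈ (maximalIdeal (W₂.comap f₂)).map (EtRam.inclOfComap W₂ f₂) := by
      have : (maximalIdeal (W₂.comap f₂)).map (EtRam.inclOfComap W₂ f₂) = maximalIdeal W₂ := hwu
      rw [this]
      exact (mem_maximalIdeal_comap U ψ₂ _).2 (hby ▸ hy1)
    have key : ∀ w : W₂, w ∈ (maximalIdeal (W₂.comap f₂)).map (EtRam.inclOfComap W₂ f₂) →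
        ∃ t, U.valuation (ψ₂ (f₂ t)) < 1 ∧ U.valuation (ψ₂ w) ≤ U.valuation (ψ₂ (f₂ t)) := by
      intro w hw
      induction hw using Submodule.span_induction with
      | mem w hw =>
        obtain ⟨v, hv, rfl⟩ := hw
        exact ⟨v, (mem_maximalIdeal_comap U ψ₂ _).1 (map_nonunit (EtRam.inclOfComap W₂ f₂) v hv), le_rfl⟩
      | zero =>
        refine ⟨0, ?_, ?_⟩
        · rw [map_zero, map_zero, map_zero]; exact zero_lt_one
        · rw [ZeroMemClass.coe_zero, map_zero, map_zero]; exact zero_le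
      | add u v _ _ h h' =>
        obtain ⟨t, ht1, ht⟩ := h
        obtain ⟨t', ht1', ht'⟩ := h'
        rw [AddMemClass.coe_add, map_add]
        rcases le_total (U.valuation (ψ₂ (f₂ t))) (U.valuation (ψ₂ (f₂ t'))) with hle | hle
        · exact ⟨t', ht1', (U.valuation.map_add _ _).trans (max_le (ht.trans hle) ht')⟩
        · exact ⟨t, ht1, (U.valuation.map_add _ _).trans (max_le ht (ht'.trans hle))⟩
      | smul a v _ h =>
        obtain ⟨t, ht1, ht⟩ := h
        refine ⟨t, ht1, ?_⟩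
        rw [smul_eq_mul, MulMemClass.coe_mul, map_mul, map_mul]
        exact (mul_le_of_le_one_left zero_le ((U.valuation_le_one_iff _).2 a.2)).trans ht
    obtain ⟨t, ht1, ht⟩ := key _ hbm
    obtain ⟨t', ht'⟩ := hK t
    have hteq : U.valuation (ψ₃ (f₃ t')) = U.valuation (ψ₂ (f₂ t)) := ht'.valuation_eq
    rcases eq_or_ne (f₃ t') 0 with h0 | h0
    · have : U.valuation (ψ₃ y) ≤ 0 := by
        rw [hby]; refine ht.trans ?_
        rw [← hteq, h0, map_zero, map_zero]
      rw [le_zero_iff, map_eq_zero, map_eq_zero] at this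
      rw [show y = 0 from Subtype.ext this]
      exact zero_mem _
    have htV : t' ∈ W₃.comap f₃ := (U.valuation_le_one_iff _).1 (hteq.trans_le ht1.le)
    have hq : (y : M₃) / f₃ t' ∈ W₃ := (U.valuation_le_one_iff _).1 (by
      rw [map_div₀, map_div₀]
      exact div_le_one_of_le₀ (by rw [hby, hteq]; exact ht) zero_le)
    rw [show y = (⟨_, hq⟩ : W₃) * EtRam.inclOfComap W₃ f₃ ⟨t', htV⟩ from
      Subtype.ext (div_mul_cancel₀ _ h0).symm]
    refine Ideal.mul_mem_left _ _ (Ideal.mem_map_of_mem _ ?_)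
    refine (mem_maximalIdeal_comap U (ψ₃.comp f₃) ⟨t', htV⟩).2 ?_
    show U.valuation (ψ₃ (f₃ t')) < 1
    rw [hteq]; exact ht1
  · let ρ₂ := ResidueField.map (EtRam.inclOfComap U ψ₂)
    let ρ₃ := ResidueField.map (EtRam.inclOfComap U ψ₃)
    let σ₂ := ResidueField.map (EtRam.inclOfComap U (ψ₂.comp f₂))
    let σ₃ := ResidueField.map (EtRam.inclOfComap U (ψ₃.comp f₃))
    let g₂ := ResidueField.map (EtRam.inclOfComap W₂ f₂)
    let g₃ := ResidueField.map (EtRam.inclOfComap W₃ f₃)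
    have hρ : ρ₂.range = ρ₃.range := le_antisymm
      (range_residue_le U ψ₂ ψ₃ fun b => (hM b).imp fun b' h => ⟨h.valuation_eq, h.sub_lt_one⟩)
      (range_residue_le U ψ₃ ψ₂ fun b' => (hM' b').imp fun b h =>
        ⟨h.valuation_eq.symm, fun hle => by rw [U.valuation.map_sub_swap]; exact h.sub_lt_one (h.valuation_eq ▸ hle)⟩)
    have hσ : σ₂.range = σ₃.range := le_antisymm
      (range_residue_le U (ψ₂.comp f₂) (ψ₃.comp f₃) fun b => (hK b).imp fun b' h => ⟨h.valuation_eq, h.sub_lt_one⟩)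
      (range_residue_le U (ψ₃.comp f₃) (ψ₂.comp f₂) fun b' => (hK' b').imp fun b h =>
        ⟨h.valuation_eq.symm, fun hle => by
          rw [RingHom.comp_apply, RingHom.comp_apply, U.valuation.map_sub_swap]
          exact h.sub_lt_one (h.valuation_eq ▸ hle)⟩)
    let e₃ := RingEquiv.ofBijective ρ₃.rangeRestrict ⟨fun _ _ h => ρ₃.injective (congrArg Subtype.val h),
      ρ₃.rangeRestrict_surjective⟩
    let eσ := RingEquiv.ofBijective σ₃.rangeRestrict ⟨fun _ _ h => σ₃.injective (congrArg Subtype.val h),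
      σ₃.rangeRestrict_surjective⟩
    let e : ResidueField W₂ →+* ResidueField W₃ :=
      e₃.symm.toRingHom.comp (ρ₂.codRestrict ρ₃.range fun x => hρ ▸ ⟨x, rfl⟩)
    let e' : ResidueField (W₂.comap f₂) →+* ResidueField (W₃.comap f₃) :=
      eσ.symm.toRingHom.comp (σ₂.codRestrict σ₃.range fun x => hσ ▸ ⟨x, rfl⟩)
    have he : ∀ x, ρ₃ (e x) = ρ₂ x := fun x => congrArg Subtype.val (e₃.apply_symm_apply ⟨ρ₂ x, hρ ▸ ⟨x, rfl⟩⟩)
    have he' : ∀ x, σ₃ (e' x) = σ₂ x := fun x => congrArg Subtype.val (eσ.apply_symm_apply ⟨σ₂ x, hσ ▸ ⟨x, rfl⟩⟩)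
    have hg₂ : ∀ x, ρ₂ (g₂ x) = σ₂ x := fun x => by obtain ⟨x, rfl⟩ := residue_surjective x; rfl
    have hg₃ : ∀ x, ρ₃ (g₃ x) = σ₃ x := fun x => by obtain ⟨x, rfl⟩ := residue_surjective x; rfl
    have hcomm : ∀ x, e (g₂ x) = g₃ (e' x) := fun x => ρ₃.injective (by rw [he, hg₂, hg₃, he'])
    have hes : Function.Surjective e := fun y => by
      obtain ⟨x, hx⟩ : ρ₃ y ∈ ρ₂.range := hρ ▸ ⟨y, rfl⟩
      exact ⟨x, ρ₃.injective ((he x).trans hx)⟩
    have hes' : Function.Surjective e' := fun y => by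
      obtain ⟨x, hx⟩ : σ₃ y ∈ σ₂.range := hσ ▸ ⟨y, rfl⟩
      exact ⟨x, σ₃.injective ((he' x).trans hx)⟩
    letI a₁ : Algebra (ResidueField (W₂.comap f₂)) (ResidueField (W₃.comap f₃)) := e'.toAlgebra
    letI a₂ : Algebra (ResidueField (W₂.comap f₂)) (ResidueField W₂) := g₂.toAlgebra
    letI a₃ : Algebra (ResidueField (W₃.comap f₃)) (ResidueField W₃) := g₃.toAlgebra
    letI a₄ : Algebra (ResidueField (W₂.comap f₂)) (ResidueField W₃) := (g₃.comp e').toAlgebra
    haveI : IsScalarTower (ResidueField (W₂.comap f₂)) (ResidueField (W₃.comap f₃)) (ResidueField W₃) :=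
      IsScalarTower.of_algebraMap_eq fun _ => rfl
    haveI : Algebra.IsAlgebraic (ResidueField (W₂.comap f₂)) (ResidueField (W₃.comap f₃)) := ⟨fun y => by
      obtain ⟨x, rfl⟩ := hes' y
      exact isAlgebraic_algebraMap x⟩
    haveI : Algebra.IsGeometricallyReduced (ResidueField (W₂.comap f₂)) (ResidueField W₂) := hgr
    let eA : ResidueField W₂ →ₐ[ResidueField (W₂.comap f₂)] ResidueField W₃ :=
      { toRingHom := e, commutes' := fun x => hcomm x }
    let φ : ResidueField (W₃.comap f₃) ⊗[ResidueField (W₂.comap f₂)] ResidueField W₂ →ₐ[ResidueField (W₃.comap f₃)]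
        ResidueField W₃ := Algebra.TensorProduct.lift (Algebra.ofId _ _) eA fun _ _ => mul_comm _ _
    refine geometricallyReduced_of_surjective φ fun y => ?_
    obtain ⟨x, rfl⟩ := hes y
    exact ⟨1 ⊗ₜ x, (Algebra.TensorProduct.lift_tmul _ _ _ 1 x).trans (by rw [map_one, one_mul]; rfl)⟩

end Groth.Agent.EtSol
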