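import Mathlib
import Groth.Prelude.Def_EtRam
import Groth.Prelude.Def_Found
import Groth.Agent.TotRam.Main
import Groth.Agent.TameAbh.Compositum
import Groth.Agent.Nagata.Reduced

/-!
# Integral denominators and bounded coefficients in purely inseparable extensions
-/

set_option autoImplicit false
set_option linter.all false
set_option maxHeartbeats 1000000

universe u

open IsLocalRing Polynomial

noncomputable section

namespace Groth.Agent.EtSol

/-- If `h q ^ (i + 1) + ∑_{l ≤ i} c l q ^ l = 0` with `h` and the `c l` integral, then `h q` is integral. -/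
theorem isIntegral_mul_of_relation {B Q : Type u} [CommRing B] [Field Q] [Algebra B Q] (c : ℕ → B) (i : ℕ)
    (h q : Q) (hh : IsIntegral B h)
    (hrel : h * q ^ (i + 1) + ∑ l ∈ Finset.range (i + 1), algebraMap B Q (c l) * q ^ l = 0) :
    IsIntegral B (h * q) := by
  let Cl := integralClosure B Q
  refine isIntegral_trans (A := Cl) (h * q) ?_
  let g : ℕ → Cl := fun l => algebraMap B Cl (c l) * ⟨h, hh⟩ ^ (i - l)
  refine ⟨X ^ (i + 1) + ∑ l ∈ Finset.range (i + 1), C (g l) * X ^ l,
    monic_X_pow_add ((degree_sum_le _ _).trans_lt ((Finset.sup_lt_iff (WithBot.bot_lt_coe _)).2 fun l hl =>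
      (degree_C_mul_X_pow_le _ _).trans_lt (WithBot.coe_lt_coe.2 (Finset.mem_range.1 hl)))), ?_⟩
  rw [eval₂_add, eval₂_X_pow, eval₂_finsetSum]
  have h1 : ∀ l ∈ Finset.range (i + 1), eval₂ (algebraMap Cl Q) (h * q) (C (g l) * X ^ l) =
      h ^ i * (algebraMap B Q (c l) * q ^ l) := fun l hl => by
    rw [eval₂_mul, eval₂_C, eval₂_X_pow]
    show algebraMap B Q (c l) * h ^ (i - l) * (h * q) ^ l = _
    rw [mul_pow, ← Nat.sub_add_cancel (Nat.lt_succ_iff.1 (Finset.mem_range.1 hl)), pow_add]
    simp only [Nat.add_sub_cancel]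
    ring
  rw [Finset.sum_congr rfl h1, ← Finset.mul_sum]
  linear_combination h ^ i * hrel

/-- An element of a valuation ring is a quotient of integral elements with unit denominator. -/
theorem exists_unit_denominator {B Q : Type u} [CommRing B] [IsDomain B] [IsDiscreteValuationRing B]
    [Field Q] [Algebra B Q] (hinj : Function.Injective (algebraMap B Q)) {W : ValuationSubring Q}
    (hW : EtRam.Dominates B (algebraMap B Q) W) {q : Q} (hq : q ∈ W) (halg : IsAlgebraic B q) :
    ∃ s : Q, IsIntegral B s ∧ W.valuation s = 1 ∧ IsIntegral B (s * q) := by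
  classical
  letI : NormalizedGCDMonoid B := Classical.arbitrary _
  obtain ⟨g₀, hg₀, hg₀q⟩ := halg
  set g := g₀.primPart with hgdef
  have hgq : aeval q g = 0 := eval₂_primPart_eq_zero hinj hg₀ hg₀q
  by_contra hno
  push Not at hno
  have hle : ∀ z : Q, IsIntegral B z → W.valuation z ≤ 1 := fun z hz =>
    (W.valuation_le_one_iff z).2 (TotRam.mem_of_isIntegral W hW hz)
  -- downward induction on the Horner terms
  suffices key : ∀ d i, i + d = g.natDegree → ∃ h : Q, IsIntegral B h ∧
      h * q ^ i + ∑ l ∈ Finset.range i, algebraMap B Q (g.coeff l) * q ^ l = 0 ∧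
      W.valuation h < 1 ∧ ∀ l, i ≤ l → W.valuation (algebraMap B Q (g.coeff l)) < 1 by
    obtain ⟨-, -, -, -, hall⟩ := key g.natDegree 0 (Nat.zero_add _)
    refine TameAbh.exists_coeff_unit (g₀.isPrimitive_primPart) fun l => (IsLocalRing.mem_maximalIdeal _).2 fun hu => ?_
    have h1 : W.valuation (algebraMap B Q (g.coeff l)) < 1 := hall l (Nat.zero_le l)
    obtain ⟨v, hv⟩ := hu.exists_right_inv
    have h2 : W.valuation (algebraMap B Q (g.coeff l)) * W.valuation (algebraMap B Q v) = 1 := by
      rw [← map_mul, ← map_mul, hv, map_one, map_one]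
    exact (mul_lt_one_of_nonneg_of_lt_one_left zero_le h1 (hle _ isIntegral_algebraMap)).ne h2
  have htop : ∀ (i : ℕ) (h : Q), IsIntegral B h →
      h * q ^ (i + 1) + ∑ l ∈ Finset.range (i + 1), algebraMap B Q (g.coeff l) * q ^ l = 0 → W.valuation h < 1 :=
    fun i h hh hrel => (hle h hh).lt_of_ne fun h1 =>
      hno h hh h1 (isIntegral_mul_of_relation g.coeff i h q hh hrel)
  intro d
  induction d with
  | zero =>
    intro i hi
    rw [add_zero] at hi
    subst hi
    have hrel : algebraMap B Q (g.coeff g.natDegree) * q ^ g.natDegree +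
        ∑ l ∈ Finset.range g.natDegree, algebraMap B Q (g.coeff l) * q ^ l = 0 := by
      rw [← hgq, aeval_eq_sum_range, Finset.sum_range_succ, add_comm]
      simp only [Algebra.smul_def]
    have hlt : W.valuation (algebraMap B Q (g.coeff g.natDegree)) < 1 := by
      rcases Nat.eq_zero_or_pos g.natDegree with h0 | hpos
      · rw [h0] at hrel ⊢
        simp only [Finset.range_zero, Finset.sum_empty, pow_zero, mul_one, add_zero] at hrel
        rw [hrel, map_zero]
        exact zero_lt_one
      · obtain ⟨m, hm⟩ : ∃ m, g.natDegree = m + 1 := ⟨_, (Nat.succ_pred_eq_of_pos hpos).symm⟩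
        rw [hm] at hrel ⊢
        exact htop m _ isIntegral_algebraMap hrel
    refine ⟨_, isIntegral_algebraMap, hrel, hlt, fun l hl => ?_⟩
    rcases hl.eq_or_lt with rfl | hl
    · exact hlt
    · rw [coeff_eq_zero_of_natDegree_lt hl, map_zero, map_zero]; exact zero_lt_one
  | succ d ih =>
    intro i hi
    obtain ⟨h, hh, hrel, hlt, hall⟩ := ih (i + 1) (by omega)
    let h' := h * q + algebraMap B Q (g.coeff i)
    have hh' : IsIntegral B h' := (isIntegral_mul_of_relation g.coeff i h q hh hrel).add isIntegral_algebraMap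
    have hrel' : h' * q ^ i + ∑ l ∈ Finset.range i, algebraMap B Q (g.coeff l) * q ^ l = 0 := by
      rw [Finset.sum_range_succ] at hrel
      linear_combination hrel
    have hlt' : W.valuation h' < 1 := by
      rcases Nat.eq_zero_or_pos i with h0 | hpos
      · subst h0
        simp only [Finset.range_zero, Finset.sum_empty, pow_zero, mul_one, add_zero] at hrel'
        rw [hrel', map_zero]
        exact zero_lt_one
      · obtain ⟨m, rfl⟩ : ∃ m, i = m + 1 := ⟨_, (Nat.succ_pred_eq_of_pos hpos).symm⟩
        exact htop m _ hh' hrel'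
    refine ⟨h', hh', hrel', hlt', fun l hl => ?_⟩
    rcases hl.eq_or_lt with rfl | hl
    · rw [show algebraMap B Q (g.coeff i) = h' - h * q by ring]
      refine (W.valuation.map_sub _ _).trans_lt (max_lt hlt' ?_)
      rw [map_mul]
      exact mul_lt_one_of_nonneg_of_lt_one_left zero_le hlt ((W.valuation_le_one_iff q).2 hq)
    · exact hall l hl

variable {B L Q R : Type u} [CommRing B] [IsDomain B] [IsDiscreteValuationRing B] [Field L] [Algebra B L]
  [IsFractionRing B L] [Field Q] [Algebra L Q] [Algebra B Q] [IsScalarTower B L Q] [FiniteDimensional L Q]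
  [CommRing R]

/-- Coefficients with respect to the powers of `x` have bounded denominators (Nagata case). -/
theorem exists_denominator_bound (hB : CAlg.IsNagata B) {π : B} (hπ : Irreducible π) (p : ℕ) (hp : 0 < p)
    (j : R →+* Q) (x : Q) (hL : ∀ l : L, ∃ r, j r = algebraMap L Q l) (hpow : ∀ q : Q, ∃ r, j r = q ^ p)
    (hspan : ∀ q : Q, ∃ u : Fin p → R, q = ∑ i, j (u i) * x ^ (i : ℕ))
    (hli : ∀ u : Fin p → R, ∑ i, j (u i) * x ^ (i : ℕ) = 0 → ∀ i, j (u i) = 0) :
    ∃ k : ℕ, ∀ W : ValuationSubring Q, EtRam.Dominates B (algebraMap B Q) W → ∀ (u : Fin p → R) (i : Fin p),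
      W.valuation (algebraMap B Q π) ^ k * W.valuation (j (u i)) ≤ W.valuation (∑ l, j (u l) * x ^ (l : ℕ)) := by
  classical
  have hinj : Function.Injective (algebraMap B Q) := by
    rw [IsScalarTower.algebraMap_eq B L Q]
    exact (algebraMap L Q).injective.comp (IsFractionRing.injective B L)
  have halg : ∀ q : Q, IsAlgebraic B q := fun q =>
    (IsFractionRing.isAlgebraic_iff B L Q).2 (Algebra.IsAlgebraic.isAlgebraic q)
  haveI : IsNoetherianRing B := hB.1
  haveI : Algebra.EssFiniteType B L := Algebra.EssFiniteType.of_isLocalization L (nonZeroDivisors B)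
  haveI : Algebra.EssFiniteType B Q := Algebra.EssFiniteType.comp B L Q
  haveI : Module.Finite B (integralClosure B Q) := Nagata.finite_closure_reduced hB
  obtain ⟨G, hG⟩ := Module.Finite.fg_top (R := B) (M := integralClosure B Q)
  choose co hco using fun b : integralClosure B Q => hspan (b : Q)
  -- clear the denominators of the coefficients of the generators
  have hden : ∀ q : Q, ∃ n : ℕ, IsIntegral B (algebraMap B Q π ^ n * q) := fun q => by
    obtain ⟨d, hd0, hd⟩ := (halg q).exists_integral_multiple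
    obtain ⟨n, v, rfl⟩ := IsDiscreteValuationRing.eq_unit_mul_pow_irreducible hd0 hπ
    refine ⟨n, ?_⟩
    have := hd.smul ((v⁻¹ : Bˣ) : B)
    rwa [smul_smul, ← mul_assoc, Units.inv_mul, one_mul, Algebra.smul_def, map_pow] at this
  choose nn hnn using hden
  let k₀ := G.sup fun b => Finset.univ.sup fun i : Fin p => nn (j (co b i))
  refine ⟨k₀ + 1, fun W hW => ?_⟩
  have hW' : EtRam.Dominates B ((algebraMap L Q).comp (algebraMap B L)) W := by
    rwa [← IsScalarTower.algebraMap_eq]
  haveI := TameAbh.isDVR_of_dominates (A := B) (K := L) W hW'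
  have hle : ∀ z : Q, IsIntegral B z → W.valuation z ≤ 1 := fun z hz =>
    (W.valuation_le_one_iff z).2 (TotRam.mem_of_isIntegral W hW hz)
  set P := W.valuation (algebraMap B Q π) with hPdef
  have hP1 : P < 1 := hW.2 π hπ.not_isUnit
  have hP0 : P ≠ 0 := (_root_.map_ne_zero _).2 ((map_ne_zero_iff _ hinj).2 hπ.ne_zero)
  have hgen : ∀ b ∈ G, ∀ i, P ^ k₀ * W.valuation (j (co b i)) ≤ 1 := by
    intro b hb i
    have h1 := hle _ (hnn (j (co b i)))
    rw [map_mul, map_pow] at h1
    refine le_trans ?_ h1
    gcongr ?_ * _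
    exact pow_le_pow_of_le_one zero_le hP1.le ((Finset.le_sup (f := fun i : Fin p => nn (j (co b i)))
      (Finset.mem_univ i)).trans (Finset.le_sup (f := fun b => Finset.univ.sup fun i : Fin p => nn (j (co b i))) hb))
  -- integral elements of the valuation ring
  have hint : ∀ u : Fin p → R, W.valuation (∑ l, j (u l) * x ^ (l : ℕ)) ≤ 1 → ∀ i,
      P ^ k₀ * W.valuation (j (u i)) ≤ 1 := by
    intro u hu i
    set y := ∑ l, j (u l) * x ^ (l : ℕ) with hy
    obtain ⟨s, hs, hs1, hsy⟩ := exists_unit_denominator hinj hW ((W.valuation_le_one_iff y).1 hu) (halg y)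
    obtain ⟨t, ht⟩ := hpow s
    have hc : IsIntegral B (j t * y) := by
      rw [ht, show s ^ p = s ^ (p - 1) * s by rw [← pow_succ, Nat.sub_add_cancel hp], mul_assoc]
      exact (hs.pow _).mul hsy
    obtain ⟨β, -, hβ⟩ := Submodule.mem_span_finset.1
      (show (⟨_, hc⟩ : integralClosure B Q) ∈ Submodule.span B (G : Set (integralClosure B Q)) by
        rw [hG]; exact Submodule.mem_top)
    choose rb hrb using fun b : integralClosure B Q => hL (algebraMap B L (β b))
    have hcoef : j (t * u i - ∑ b ∈ G, rb b * co b i) = 0 := by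
      refine hli (fun i => t * u i - ∑ b ∈ G, rb b * co b i) ?_ i
      have h1 : j t * y = ∑ b ∈ G, algebraMap B Q (β b) * (b : Q) := by
        have h := congrArg (fun z : integralClosure B Q => (z : Q)) hβ
        simp only [AddSubmonoidClass.coe_finsetSum, SetLike.val_smul, Algebra.smul_def] at h
        exact h.symm
      simp only [map_sub, map_sum, map_mul, sub_mul, Finset.sum_sub_distrib, Finset.sum_mul]
      rw [sub_eq_zero]
      calc ∑ l, j t * j (u l) * x ^ (l : ℕ) = j t * y := by
            rw [hy, Finset.mul_sum]; exact Finset.sum_congr rfl fun l _ => mul_assoc _ _ _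
        _ = _ := by
            rw [h1, Finset.sum_comm]
            refine Finset.sum_congr rfl fun b _ => ?_
            conv_lhs => rw [hco b, Finset.mul_sum]
            refine Finset.sum_congr rfl fun l _ => ?_
            rw [hrb, ← IsScalarTower.algebraMap_apply, mul_assoc]
    rw [map_sub, sub_eq_zero, map_mul, map_sum] at hcoef
    have ht1 : W.valuation (j t) = 1 := by rw [ht, map_pow, hs1, one_pow]
    calc P ^ k₀ * W.valuation (j (u i)) = W.valuation (algebraMap B Q π ^ k₀ * (j t * j (u i))) := by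
          rw [map_mul, map_mul, map_pow, ht1, one_mul]
      _ ≤ 1 := by
          rw [hcoef, Finset.mul_sum]
          refine W.valuation.map_sum_le fun b hb => ?_
          rw [map_mul, map_mul, map_pow, map_mul, hrb, ← IsScalarTower.algebraMap_apply, ← mul_assoc, mul_right_comm]
          exact mul_le_one₀ (hgen b hb i) zero_le (hle _ isIntegral_algebraMap)
  -- scaling
  intro u i
  set y := ∑ l, j (u l) * x ^ (l : ℕ) with hy
  rcases eq_or_ne y 0 with hy0 | hy0
  · rw [hy0, hli u hy0 i, map_zero, mul_zero]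
  obtain ⟨ρ, hρ⟩ := IsDiscreteValuationRing.exists_irreducible W
  obtain ⟨a, b, hb, hab⟩ := IsFractionRing.div_surjective (A := W) y
  have hb0 : b ≠ 0 := nonZeroDivisors.ne_zero hb
  have ha0 : a ≠ 0 := fun h => hy0 (by rw [← hab, h, map_zero, zero_div])
  have hπW : (⟨_, hW.1 π⟩ : W) ≠ 0 := fun h => (map_ne_zero_iff _ hinj).2 hπ.ne_zero (congrArg Subtype.val h)
  obtain ⟨e, vπ, hvπ⟩ := IsDiscreteValuationRing.eq_unit_mul_pow_irreducible hπW hρ
  obtain ⟨na, va, hva⟩ := IsDiscreteValuationRing.eq_unit_mul_pow_irreducible ha0 hρ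
  obtain ⟨nb, vb, hvb⟩ := IsDiscreteValuationRing.eq_unit_mul_pow_irreducible hb0 hρ
  set T := W.valuation (ρ : Q) with hTdef
  have hunit : ∀ v : Wˣ, W.valuation ((v : W) : Q) = 1 := fun v => (W.valuation_eq_one_iff _).1 v.isUnit
  have hval : ∀ (v : Wˣ) (n : ℕ), W.valuation (((v : W) * ρ ^ n : W) : Q) = T ^ n := fun v n => by
    rw [MulMemClass.coe_mul, SubmonoidClass.coe_pow, map_mul, hunit, one_mul, map_pow]
  have hT0 : T ≠ 0 := (_root_.map_ne_zero _).2 fun h => hρ.ne_zero (Subtype.ext h)
  have hT1 : T < 1 := (W.valuation_lt_one_iff ρ).1 hρ.not_isUnit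
  have hPT : P = T ^ e := by rw [← hval vπ e, ← hvπ]
  have he : 0 < e := Nat.pos_of_ne_zero fun h => hP1.ne (by rw [hPT, h, pow_zero])
  have hyT : W.valuation y = T ^ na / T ^ nb := by
    rw [← hab, map_div₀, ← hval va na, ← hval vb nb, ← hva, ← hvb]
    rfl
  let n := (nb * e + na - nb) / e
  obtain ⟨r, hr⟩ := hL (algebraMap B L π ^ nb / algebraMap B L π ^ n)
  have hrv : W.valuation (j r) = P ^ nb / P ^ n := by
    rw [hr, hPdef, IsScalarTower.algebraMap_apply B L Q]
    simp only [map_div₀, map_pow]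
  have hnbe : nb ≤ nb * e + na := (Nat.le_mul_of_pos_right nb he).trans (Nat.le_add_right _ _)
  have hscaled : W.valuation (j r) * W.valuation y = T ^ ((nb * e + na - nb) % e) := by
    rw [hrv, hyT, hPT, ← pow_mul, ← pow_mul, div_mul_div_comm, ← pow_add, ← pow_add, div_eq_iff (pow_ne_zero _ hT0),
      ← pow_add]
    congr 1
    have := Nat.mod_add_div (nb * e + na - nb) e
    simp only [n]
    rw [mul_comm e nb]
    omega
  have h1 := hint (fun l => r * u l) (by
    simp only [map_mul, mul_assoc, ← Finset.mul_sum]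
    rw [← hy, hscaled]
    exact pow_le_one₀ zero_le hT1.le) i
  rw [map_mul, map_mul] at h1
  have hr0 : (0 : W.ValueGroup) < W.valuation (j r) := zero_lt_iff.2 (by
    rw [hrv]; exact div_ne_zero (pow_ne_zero _ hP0) (pow_ne_zero _ hP0))
  refine le_of_mul_le_mul_left ?_ hr0
  calc W.valuation (j r) * (P ^ (k₀ + 1) * W.valuation (j (u i)))
      = P * (P ^ k₀ * (W.valuation (j r) * W.valuation (j (u i)))) := by rw [pow_succ]; ac_rfl
    _ ≤ P * 1 := by gcongr
    _ ≤ W.valuation (j r) * W.valuation y := by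
        rw [mul_one, hscaled, hPT]
        exact pow_le_pow_of_le_one zero_le hT1.le (Nat.mod_lt _ he).le

end Groth.Agent.EtSol
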