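import Mathlib
import Groth.Prelude.Def_EtRam
import Groth.Agent.EtSol.Close
import Groth.Agent.EtSol.Denominators
import Groth.Agent.TotRam.Solution
import Groth.Agent.TotRam.PInsepMain

/-!
# A purely inseparable step of a solution can be replaced by a separable one
-/

set_option autoImplicit false
set_option linter.all false
set_option maxHeartbeats 2000000

universe u

open IsLocalRing Polynomial
open scoped TensorProduct

noncomputable section

namespace Groth.Agent.EtSol

/-- Reduction of a polynomial expression modulo a monic equation of degree `p`. -/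
theorem exists_coeff_fin {R S : Type u} [CommRing R] [Nontrivial R] [CommRing S] (j : R →+* S) (f : R[X])
    (hf : f.Monic) (p : ℕ) (hp : 0 < p) (hdeg : f.natDegree = p) (z : S) (hz : f.eval₂ j z = 0) (P : R[X]) :
    ∃ u : Fin p → R, P.eval₂ j z = ∑ i, j (u i) * z ^ (i : ℕ) := by
  refine ⟨fun i => (P %ₘ f).coeff i, ?_⟩
  have h1 : P.eval₂ j z = (P %ₘ f).eval₂ j z := by
    conv_lhs => rw [← modByMonic_add_div P f]
    rw [eval₂_add, eval₂_mul, hz, zero_mul, add_zero]
  have h2 : (P %ₘ f).natDegree < p :=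
    hdeg ▸ natDegree_modByMonic_lt P hf (fun h => by rw [h, natDegree_one] at hdeg; omega)
  rw [h1, eval₂_eq_sum_range' j h2, Finset.sum_range]

/-- A valuation ring of a field is the trace of a valuation ring of any extension field. -/
theorem exists_comap_eq {M Ω : Type u} [Field M] [Field Ω] (f : M →+* Ω) (W : ValuationSubring M) :
    ∃ U : ValuationSubring Ω, U.comap f = W := by
  obtain ⟨U, hU⟩ := TotRam.exists_dominates W Ω (f.comp W.subtype) (f.injective.comp Subtype.val_injective)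
  refine ⟨U, SetLike.ext fun m => ⟨fun hm => ?_, fun hm => hU.1 ⟨m, hm⟩⟩⟩
  rcases W.mem_or_inv_mem m with h | h
  · exact h
  by_contra hW
  have hm0 : m ≠ 0 := fun h0 => hW (h0 ▸ W.zero_mem)
  have hnu : (⟨m⁻¹, h⟩ : W) ∈ maximalIdeal W := fun hu => hW (by
    obtain ⟨v, hv⟩ := hu.exists_right_inv
    have h2 : m⁻¹ * (v : M) = 1 := congrArg Subtype.val hv
    rw [inv_mul_eq_iff_eq_mul₀ hm0, mul_one] at h2
    exact h2 ▸ v.2)
  have h1 := hU.2 _ hnu
  have h2 : U.valuation (f m) * U.valuation (f m⁻¹) = 1 := by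
    rw [← map_mul, ← map_mul, mul_inv_cancel₀ hm0, map_one, map_one]
  refine (mul_lt_one_of_nonneg_of_lt_one_right ?_ zero_le h1).ne h2
  exact (U.valuation_le_one_iff _).2 hm

theorem exists_separable_solution (p : ℕ) (hp : p.Prime) (A B K L : Type u) [CommRing A] [IsDomain A]
    [IsDiscreteValuationRing A] [CommRing B] [IsDomain B] [IsDiscreteValuationRing B] [Algebra A B]
    (hinj : Function.Injective (algebraMap A B)) [IsLocalHom (algebraMap A B)]
    [Field K] [Field L] [Algebra A K] [IsFractionRing A K] [Algebra B L] [IsFractionRing B L] [Algebra K L]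
    [Algebra A L] [IsScalarTower A K L] [IsScalarTower A B L] [CharP K p] [Algebra.IsGeometricallyReduced K L]
    (hB : CAlg.IsNagata B) (K₁ K₂ : Type u) [Field K₁] [Field K₂] [Algebra K K₁] [Algebra K K₂] [Algebra K₁ K₂]
    [IsScalarTower K K₁ K₂] [FiniteDimensional K K₁] [FiniteDimensional K₁ K₂]
    (hsol : EtRam.IsSolution B K L K₂) [IsPurelyInseparable K₁ K₂] (hdeg : Module.finrank K₁ K₂ = p) :
    ∃ (K₃ : Type u) (_ : Field K₃) (_ : Algebra K K₃) (_ : Algebra K₁ K₃) (_ : IsScalarTower K K₁ K₃),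
      FiniteDimensional K₁ K₃ ∧ Algebra.IsSeparable K₁ K₃ ∧ EtRam.IsSolution B K L K₃ := by
  classical
  haveI := Fact.mk hp
  obtain ⟨hchar1, hpow2⟩ := TotRam.pow_mem_range_of_finrank_prime K₁ K₂ hp hdeg
  haveI := hchar1
  haveI : CharP K₂ p := charP_of_injective_algebraMap (algebraMap K₁ K₂).injective p
  haveI : CharP L p := charP_of_injective_algebraMap (algebraMap K L).injective p
  haveI : FiniteDimensional K K₂ := Module.Finite.trans K₁ K₂
  letI : Algebra A K₁ := ((algebraMap K K₁).comp (algebraMap A K)).toAlgebra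
  haveI : IsScalarTower A K K₁ := IsScalarTower.of_algebraMap_eq fun _ => rfl
  -- an integral radicand
  obtain ⟨x₀, hx₀⟩ : ∃ x : K₂, x ∉ (algebraMap K₁ K₂).range := by
    by_contra h
    push Not at h
    have h1 : Module.finrank K₁ K₁ = Module.finrank K₁ K₂ := LinearEquiv.finrank_eq
      (LinearEquiv.ofBijective (Algebra.linearMap K₁ K₂) ⟨(algebraMap K₁ K₂).injective, h⟩)
    rw [Module.finrank_self, hdeg] at h1
    exact hp.one_lt.ne' h1.symm
  obtain ⟨a₀, ha₀⟩ := hpow2 x₀
  obtain ⟨d, hd0, hd⟩ := ((IsFractionRing.isAlgebraic_iff A K K₁).2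
    (Algebra.IsAlgebraic.isAlgebraic a₀)).exists_integral_multiple
  let dK : K₁ := algebraMap A K₁ d
  have hinjA : Function.Injective (algebraMap A K₁) := by
    rw [IsScalarTower.algebraMap_eq A K K₁]
    exact (algebraMap K K₁).injective.comp (IsFractionRing.injective A K)
  have hdK : dK ≠ 0 := (map_ne_zero_iff _ hinjA).2 hd0
  let a : K₁ := dK ^ p * a₀
  let x : K₂ := algebraMap K₁ K₂ dK * x₀
  have hxa : x ^ p = algebraMap K₁ K₂ a := by
    simp only [x, a]
    rw [mul_pow, map_mul, map_pow, ha₀]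
  have hxK : x ∉ (algebraMap K₁ K₂).range := by
    rintro ⟨r, hr⟩
    refine hx₀ ⟨dK⁻¹ * r, ?_⟩
    rw [map_mul, hr, ← mul_assoc, ← map_mul, inv_mul_cancel₀ hdK, map_one, one_mul]
  have haint : IsIntegral A a := by
    rw [show a = dK ^ (p - 1) * (d • a₀) by
      simp only [a]
      rw [Algebra.smul_def, ← mul_assoc, ← pow_succ, Nat.sub_add_cancel hp.one_le]]
    exact (isIntegral_algebraMap.pow _).mul hd
  have haroot : ∀ r : K₁, r ^ p ≠ a := fun r hr => hxK ⟨r, by
    refine frobenius_inj K₂ p ?_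
    show _ ^ p = x ^ p
    rw [← map_pow, hr, hxa]⟩
  have hgen2 : ∀ t : K₂, ∃ P : K₁[X], P.eval₂ (algebraMap K₁ K₂) x = t := fun t => by
    haveI := IntermediateField.isSimpleOrder_of_finrank_prime K₁ K₂ (by rw [hdeg]; exact hp)
    have htop : IntermediateField.adjoin K₁ {x} = ⊤ := (eq_bot_or_eq_top _).resolve_left fun h =>
      hxK (IntermediateField.mem_bot.1 (h ▸ IntermediateField.mem_adjoin_simple_self K₁ x))
    have h : t ∈ (IntermediateField.adjoin K₁ {x}).toSubalgebra := by rw [htop]; trivial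
    rw [IntermediateField.adjoin_simple_toSubalgebra_of_isAlgebraic (Algebra.IsAlgebraic.isAlgebraic x),
      Algebra.adjoin_singleton_eq_range_aeval] at h
    exact h
  clear_value a
  -- a functional separating `1` and `x`
  obtain ⟨f₀, hf₀x, hf₀⟩ := Submodule.exists_dual_map_eq_bot_of_notMem (x := x)
    (p := Submodule.span K₁ {(1 : K₂)}) (by
      rw [Submodule.mem_span_singleton]
      rintro ⟨r, hr⟩
      exact hxK ⟨r, by rw [← hr, Algebra.smul_def, mul_one]⟩) inferInstance
  let f : K₂ →ₗ[K₁] K₁ := (f₀ x)⁻¹ • f₀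
  have hf1 : f 1 = 0 := by
    have h1 : f₀ 1 = 0 := by
      have : f₀ 1 ∈ (Submodule.span K₁ {(1 : K₂)}).map f₀ :=
        Submodule.mem_map_of_mem (Submodule.mem_span_singleton_self 1)
      rwa [hf₀, Submodule.mem_bot] at this
    simp only [f, LinearMap.smul_apply, h1, smul_zero]
  have hfx : f x = 1 := by simp only [f, LinearMap.smul_apply, smul_eq_mul]; exact inv_mul_cancel₀ hf₀x
  -- the tensor products
  let R := L ⊗[K] K₁
  let T := L ⊗[K] K₂
  let ι : R →ₐ[L] T := Algebra.TensorProduct.map (AlgHom.id L L) (IsScalarTower.toAlgHom K K₁ K₂)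
  have hι : ∀ (l : L) (r : K₁), ι (l ⊗ₜ r) = l ⊗ₜ algebraMap K₁ K₂ r := fun l r => rfl
  let xT : T := 1 ⊗ₜ x
  haveI : Nontrivial T :=
    (Algebra.TensorProduct.includeRight_injective (R := K) (A := L) (B := K₂) (algebraMap K L).injective).nontrivial
  haveI : Nontrivial R :=
    (Algebra.TensorProduct.includeRight_injective (R := K) (A := L) (B := K₁) (algebraMap K L).injective).nontrivial
  haveI : CharP T p := charP_of_injective_algebraMap (algebraMap L T).injective p
  haveI : _root_.IsReduced T :=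
    isReduced_of_injective (Algebra.TensorProduct.comm K L K₂) (AlgEquiv.injective _)
  have hTint : (algebraMap L T).IsIntegral := fun t => Algebra.IsIntegral.isIntegral (R := L) t
  have hvnr := TameAbh.isVNR_of_integral (algebraMap L T) hTint
  haveI : IsArtinianRing T := IsArtinianRing.of_finite L T
  let g : T →ₗ[K] R := (f.restrictScalars K).lTensor L
  have hg0 : ∀ u : R, g (ι u) = 0 := fun u => by
    induction u using TensorProduct.induction_on with
    | zero => rw [map_zero, map_zero]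
    | tmul l r =>
      rw [hι]
      show l ⊗ₜ[K] f (algebraMap K₁ K₂ r) = 0
      rw [show algebraMap K₁ K₂ r = r • (1 : K₂) by rw [Algebra.smul_def, mul_one], map_smul, hf1, smul_zero,
        TensorProduct.tmul_zero]
    | add u v hu hv => rw [map_add, map_add, hu, hv, add_zero]
  have hg1 : ∀ u : R, g (ι u * xT) = u := fun u => by
    induction u using TensorProduct.induction_on with
    | zero => rw [map_zero, zero_mul, map_zero]
    | tmul l r =>
      rw [hι]
      show g ((l ⊗ₜ algebraMap K₁ K₂ r) * (1 ⊗ₜ x)) = _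
      rw [Algebra.TensorProduct.tmul_mul_tmul, mul_one]
      show l ⊗ₜ[K] f (algebraMap K₁ K₂ r * x) = _
      rw [← Algebra.smul_def, map_smul, hfx, smul_eq_mul, mul_one]
    | add u v hu hv => rw [map_add, add_mul, map_add, hu, hv]
  have hTp : ∀ t : T, ∃ r, ι r = t ^ p := fun t => by
    induction t using TensorProduct.induction_on with
    | zero => exact ⟨0, by rw [map_zero, zero_pow hp.ne_zero]⟩
    | tmul l k =>
      obtain ⟨r, hr⟩ := hpow2 k
      exact ⟨(l ^ p) ⊗ₜ r, by rw [hι, hr, Algebra.TensorProduct.tmul_pow]⟩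
    | add u v hu hv =>
      obtain ⟨ru, hu⟩ := hu
      obtain ⟨rv, hv⟩ := hv
      exact ⟨ru + rv, by rw [map_add, hu, hv, add_pow_char]⟩
  have hTeval : ∀ t : T, ∃ P : R[X], P.eval₂ ι.toRingHom xT = t := fun t => by
    induction t using TensorProduct.induction_on with
    | zero => exact ⟨0, eval₂_zero _ _⟩
    | tmul l k =>
      obtain ⟨P, rfl⟩ := hgen2 k
      refine ⟨C (l ⊗ₜ 1) * P.map (Algebra.TensorProduct.includeRight : K₁ →ₐ[K] R).toRingHom, ?_⟩
      rw [eval₂_mul, eval₂_C, eval₂_map]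
      have h1 : ι.toRingHom.comp (Algebra.TensorProduct.includeRight : K₁ →ₐ[K] R).toRingHom =
          (Algebra.TensorProduct.includeRight : K₂ →ₐ[K] T).toRingHom.comp (algebraMap K₁ K₂) :=
        RingHom.ext fun r => hι 1 r
      rw [h1, show xT = (Algebra.TensorProduct.includeRight : K₂ →ₐ[K] T).toRingHom x from rfl, ← hom_eval₂]
      show (l ⊗ₜ algebraMap K₁ K₂ 1) * (1 ⊗ₜ _) = _
      rw [map_one, Algebra.TensorProduct.tmul_mul_tmul, mul_one, one_mul]
    | add u v hu hv =>
      obtain ⟨P, hu⟩ := hu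
      obtain ⟨P', hv⟩ := hv
      exact ⟨P + P', by rw [eval₂_add, hu, hv]⟩
  -- the bound for each factor
  obtain ⟨πA, hπA⟩ := IsDiscreteValuationRing.exists_irreducible A
  obtain ⟨πB, hπB⟩ := IsDiscreteValuationRing.exists_irreducible B
  have hbd : ∀ P : MaximalSpectrum T, ∃ k : ℕ,
      letI := Ideal.Quotient.field P.asIdeal
      ∀ W : ValuationSubring (T ⧸ P.asIdeal), EtRam.Dominates B (algebraMap B (T ⧸ P.asIdeal)) W →
        ∀ (u : Fin p → R) (i : Fin p),
        W.valuation (algebraMap B (T ⧸ P.asIdeal) πB) ^ k * W.valuation (Ideal.Quotient.mk P.asIdeal (ι (u i))) ≤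
          W.valuation (∑ l, Ideal.Quotient.mk P.asIdeal (ι (u l)) * Ideal.Quotient.mk P.asIdeal xT ^ (l : ℕ)) := by
    rintro ⟨P, hPmax⟩
    haveI := hPmax
    letI := Ideal.Quotient.field P
    let Q := T ⧸ P
    haveI : IsScalarTower B L Q := inferInstance
    haveI : FiniteDimensional L Q := Module.Finite.of_surjective (Ideal.Quotient.mkₐ L P).toLinearMap
      Ideal.Quotient.mk_surjective
    haveI : CharP Q p := charP_of_injective_algebraMap (algebraMap L Q).injective p
    let j : R →ₐ[L] Q := (Ideal.Quotient.mkₐ L P).comp ι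
    let xQ : Q := Ideal.Quotient.mk P xT
    let F : IntermediateField L Q := j.range.toIntermediateField fun y hy =>
      j.range.inv_mem_of_algebraic (x := ⟨y, hy⟩) (Algebra.IsAlgebraic.isAlgebraic (R := L) y)
    have hxQ : ∀ r, j r ≠ xQ := by
      intro r hr
      have he : xT - ι r ∈ P := by
        rw [← Ideal.Quotient.eq]
        exact hr.symm
      obtain ⟨w, hw⟩ := hvnr (xT - ι r)
      let e := (xT - ι r) * w
      have hee : IsIdempotentElem (1 - e) := IsIdempotentElem.one_sub (show e * e = e by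
        simp only [e]; linear_combination -w * hw)
      have he1 : (1 - e) * (xT - ι r) = 0 := by simp only [e]; linear_combination hw
      obtain ⟨d', hd'⟩ := hTp (1 - e)
      rw [← Nat.sub_add_cancel hp.one_le, hee.pow_succ_eq] at hd'
      have h0 : g (ι d' * xT - ι (d' * r)) = 0 := by
        rw [map_mul, ← mul_sub, hd', he1, map_zero]
      rw [map_sub, hg1, hg0, sub_zero] at h0
      rw [h0, map_zero, eq_comm, sub_eq_zero] at hd'
      exact hPmax.ne_top ((Ideal.eq_top_iff_one _).2 (hd' ▸ P.mul_mem_right w he))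
    let aF : F := ⟨j (1 ⊗ₜ a), _, rfl⟩
    have hxQp : xQ ^ p = algebraMap F Q aF := by
      show Ideal.Quotient.mk P xT ^ p = Ideal.Quotient.mk P (ι (1 ⊗ₜ a))
      rw [← map_pow, hι, Algebra.TensorProduct.tmul_pow, one_pow, hxa]
    have hmin : minpoly F xQ = X ^ p - C aF :=
      (minpoly.eq_of_irreducible_of_monic (X_pow_sub_C_irreducible_of_prime hp fun e he => by
          obtain ⟨r, hr⟩ := e.2
          refine hxQ r (frobenius_inj Q p ?_)
          show j r ^ p = xQ ^ p
          rw [hxQp, ← he]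
          show j r ^ p = (e : Q) ^ p
          rw [← hr]
          rfl)
        (by simp only [map_sub, map_pow, aeval_X, aeval_C, hxQp, sub_self])
        (monic_X_pow_sub_C _ hp.ne_zero)).symm
    refine exists_denominator_bound (B := B) (L := L) hB hπB p hp.pos j.toRingHom xQ
      (fun l => ⟨l ⊗ₜ 1, ?_⟩) (fun q => ?_) (fun q => ?_) (fun u hu i => ?_)
    · exact j.commutes l
    · obtain ⟨t, rfl⟩ := Ideal.Quotient.mk_surjective q
      obtain ⟨r, hr⟩ := hTp t
      exact ⟨r, (congrArg (Ideal.Quotient.mk P) hr).trans (map_pow _ _ _)⟩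
    · obtain ⟨t, rfl⟩ := Ideal.Quotient.mk_surjective q
      obtain ⟨P', rfl⟩ := hTeval t
      rw [hom_eval₂]
      exact exists_coeff_fin _ (X ^ p - C (1 ⊗ₜ a)) (monic_X_pow_sub_C _ hp.ne_zero) p hp.pos natDegree_X_pow_sub_C xQ
        (by
          rw [eval₂_sub, eval₂_X_pow, eval₂_C, sub_eq_zero, hxQp]
          rfl) P'
    · have h := linearIndependent_pow (K := F) xQ
      rw [hmin, natDegree_X_pow_sub_C] at h
      have h2 := Fintype.linearIndependent_iff.1 h (fun l => (⟨j (u l), _, rfl⟩ : F)) (by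
        simp only [Algebra.smul_def]; exact hu) i
      exact congrArg Subtype.val h2
  choose kk hkk using hbd
  haveI : Fintype (MaximalSpectrum T) := Fintype.ofFinite _
  let k := Finset.univ.sup kk
  let c : K₁ := algebraMap A K₁ (πA ^ (k * p + 1))
  have hc0 : c ≠ 0 :=
    (map_ne_zero_iff _ hinjA).2 (pow_ne_zero _ hπA.ne_zero)
  -- the separable extension
  let f₃ : K₁[X] := X ^ p - (C c * X + C a)
  have hf₃lt : (C c * X + C a).degree < (p : WithBot ℕ) :=
    (degree_linear_le).trans_lt (by exact_mod_cast hp.one_lt)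
  have hf₃m : f₃.Monic := monic_X_pow_sub hf₃lt
  have hf₃d : f₃.degree = p := by
    simp only [f₃]
    rw [degree_sub_eq_left_of_degree_lt (by rwa [degree_X_pow]), degree_X_pow]
  obtain ⟨z, hz⟩ := IsAlgClosed.exists_aeval_eq_zero (AlgebraicClosure K₁) f₃ (by
    rw [hf₃d]; exact_mod_cast hp.ne_zero)
  have hf₃s : f₃.Separable := by
    refine ⟨0, C (-c⁻¹), ?_⟩
    simp only [f₃, derivative_sub, derivative_X_pow, derivative_add, derivative_C_mul, derivative_X, derivative_C,
      CharP.cast_eq_zero, map_zero, zero_mul, mul_one, add_zero, zero_sub, zero_add]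
    rw [← map_neg, ← map_mul, ← map_one C]
    congr 1
    field_simp
  let K₃ := IntermediateField.adjoin K₁ ({z} : Set (AlgebraicClosure K₁))
  haveI hK₃fin : FiniteDimensional K₁ K₃ :=
    IntermediateField.adjoin.finiteDimensional (Algebra.IsIntegral.isIntegral z)
  haveI hK₃sep : Algebra.IsSeparable K₁ K₃ := (IntermediateField.isSeparable_adjoin_simple_iff_isSeparable _ _).2
    (hf₃s.of_dvd (minpoly.dvd K₁ z hz))
  let zg : K₃ := IntermediateField.AdjoinSimple.gen K₁ z
  have hgen3 : ∀ t : K₃, ∃ P : K₁[X], P.eval₂ (algebraMap K₁ K₃) zg = t := fun t => by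
    have h : (t : AlgebraicClosure K₁) ∈ (IntermediateField.adjoin K₁ ({z} : Set (AlgebraicClosure K₁))).toSubalgebra := t.2
    rw [IntermediateField.adjoin_simple_toSubalgebra_of_isAlgebraic (Algebra.IsAlgebraic.isAlgebraic z),
      Algebra.adjoin_singleton_eq_range_aeval] at h
    obtain ⟨P, hP⟩ := h
    refine ⟨P, Subtype.ext ?_⟩
    rw [← hP]
    exact (aeval_algHom_apply (IntermediateField.val K₃) zg P).symm
  have hzg : zg ^ p = algebraMap K₁ K₃ a + algebraMap K₁ K₃ c * zg := by
    apply Subtype.ext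
    have h := hz
    simp only [f₃, map_sub, map_add, map_mul, map_pow, aeval_X, aeval_C, sub_eq_zero] at h
    show z ^ p = _
    rw [h, add_comm]
    rfl
  refine ⟨K₃, inferInstance, inferInstance, inferInstance, inferInstance, hK₃fin, hK₃sep, ?_⟩
  intro M _ _ _ _ _ _ hgenM W hW
  letI : Algebra K₁ M := ((algebraMap K₃ M).comp (algebraMap K₁ K₃)).toAlgebra
  haveI : IsScalarTower K₁ K₃ M := IsScalarTower.of_algebraMap_eq fun _ => rfl
  haveI : IsScalarTower K K₁ M := IsScalarTower.of_algebraMap_eq fun r => by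
    rw [IsScalarTower.algebraMap_apply K₁ K₃ M, ← IsScalarTower.algebraMap_apply K K₁ K₃,
      ← IsScalarTower.algebraMap_apply K K₃ M]
  let Ω := AlgebraicClosure M
  haveI : CharP M p := charP_of_injective_algebraMap (algebraMap L M).injective p
  haveI : CharP Ω p := charP_of_injective_algebraMap (algebraMap M Ω).injective p
  obtain ⟨U, rfl⟩ := exists_comap_eq (algebraMap M Ω) W
  let σ : K₂ →ₐ[K₁] Ω := IsAlgClosed.lift
  let φ : T →ₐ[L] Ω := Algebra.TensorProduct.lift (Algebra.ofId L Ω) (σ.restrictScalars K) fun _ _ => mul_comm _ _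
  let jM : R →ₐ[L] M := Algebra.TensorProduct.lift (Algebra.ofId L M) (IsScalarTower.toAlgHom K K₁ M)
    fun _ _ => mul_comm _ _
  have hφι : ∀ u, φ (ι u) = algebraMap M Ω (jM u) := fun u => by
    induction u using TensorProduct.induction_on with
    | zero => simp only [map_zero]
    | tmul l r =>
      rw [hι]
      show algebraMap L Ω l * σ (algebraMap K₁ K₂ r) = algebraMap M Ω (algebraMap L M l * algebraMap K₁ M r)
      rw [σ.commutes, map_mul, ← IsScalarTower.algebraMap_apply, ← IsScalarTower.algebraMap_apply]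
    | add u v hu hv => simp only [map_add, hu, hv]
  have hφx : φ xT = σ x := (Algebra.TensorProduct.lift_tmul _ _ _ 1 x).trans (by rw [map_one, one_mul]; rfl)
  haveI : (RingHom.ker φ).IsPrime := RingHom.ker_isPrime φ
  let P : MaximalSpectrum T := ⟨RingHom.ker φ, IsArtinianRing.isMaximal_of_isPrime _⟩
  haveI := P.2
  letI := Ideal.Quotient.field P.asIdeal
  let Q := T ⧸ P.asIdeal
  let ψ : Q →+* Ω := Ideal.Quotient.lift P.asIdeal φ.toRingHom fun t ht => ht
  have hψ : ∀ t, ψ (Ideal.Quotient.mk P.asIdeal t) = φ t := fun t => rfl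
  letI : Algebra K₂ Q := ((Ideal.Quotient.mk P.asIdeal).comp
    (Algebra.TensorProduct.includeRight : K₂ →ₐ[K] T).toRingHom).toAlgebra
  haveI : IsScalarTower K L Q := inferInstance
  haveI : IsScalarTower B L Q := inferInstance
  haveI : IsScalarTower K K₂ Q := IsScalarTower.of_algebraMap_eq fun r =>
    (congrArg (Ideal.Quotient.mk P.asIdeal)
      ((Algebra.TensorProduct.includeRight : K₂ →ₐ[K] T).commutes r)).symm
  have hgenQ : Algebra.adjoin L (Set.range (algebraMap K₂ Q)) = ⊤ := by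
    refine eq_top_iff.2 fun q _ => ?_
    obtain ⟨t, rfl⟩ := Ideal.Quotient.mk_surjective q
    clear ‹Ideal.Quotient.mk P.asIdeal t ∈ ⊤›
    induction t using TensorProduct.induction_on with
    | zero => rw [map_zero]; exact zero_mem _
    | tmul l r =>
      rw [show l ⊗ₜ[K] r = algebraMap L T l * (1 ⊗ₜ r) by
        rw [Algebra.TensorProduct.algebraMap_apply, Algebra.TensorProduct.tmul_mul_tmul, mul_one, one_mul]; rfl,
        map_mul]
      exact mul_mem (Subalgebra.algebraMap_mem _ l) (Algebra.subset_adjoin ⟨r, rfl⟩)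
    | add u v hu hv => rw [map_add]; exact add_mem hu hv
  have hBΩ : ∀ b, ψ (algebraMap B Q b) = algebraMap M Ω (algebraMap L M (algebraMap B L b)) := fun b => by
    rw [IsScalarTower.algebraMap_apply B L Q, ← IsScalarTower.algebraMap_apply L M Ω]
    exact φ.commutes _
  have hBU : EtRam.Dominates B ((algebraMap M Ω).comp ((algebraMap L M).comp (algebraMap B L))) U :=
    (EtRamTower.dominates_comap_iff (algebraMap M Ω) _ U).1 hW
  have hW₂ : EtRam.Dominates B (algebraMap B Q) (U.comap ψ) := by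
    refine (EtRamTower.dominates_comap_iff ψ _ U).2 ?_
    rwa [show ψ.comp (algebraMap B Q) = (algebraMap M Ω).comp ((algebraMap L M).comp (algebraMap B L)) from
      RingHom.ext hBΩ]
  have hgood : Good (U.comap ψ) (algebraMap K₂ Q) := hsol Q hgenQ (U.comap ψ) (by
    rwa [← IsScalarTower.algebraMap_eq])
  -- the valuation of the data
  set Pv := ψ (algebraMap B Q πB) with hPv
  have hPv0 : Pv ≠ 0 := by
    rw [hPv, hBΩ]
    exact (_root_.map_ne_zero _).2 ((_root_.map_ne_zero _).2 ((map_ne_zero_iff _ (IsFractionRing.injective B L)).2 hπB.ne_zero))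
  have hPv1 : U.valuation Pv < 1 := by rw [hPv, hBΩ]; exact hBU.2 _ hπB.not_isUnit
  have hAΩ : ∀ r : A, algebraMap K₁ Ω (algebraMap A K₁ r) = ψ (algebraMap B Q (algebraMap A B r)) := fun r => by
    rw [hBΩ, ← IsScalarTower.algebraMap_apply A B L, IsScalarTower.algebraMap_apply A K L,
      ← IsScalarTower.algebraMap_apply K L M, IsScalarTower.algebraMap_apply K₁ M Ω]
    congr 1
    exact (IsScalarTower.algebraMap_apply K K₁ M _).symm
  have hAU : ∀ r : A, U.valuation (algebraMap K₁ Ω (algebraMap A K₁ r)) ≤ 1 := fun r => by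
    rw [hAΩ, hBΩ]; exact (U.valuation_le_one_iff _).2 (hBU.1 _)
  have ha1 : U.valuation (algebraMap K₁ Ω a) ≤ 1 := by
    obtain ⟨G, hG, hGa⟩ := haint
    by_contra hgt
    push Not at hgt
    have hG0 := congrArg (algebraMap K₁ Ω) hGa
    rw [map_zero, hom_eval₂, hG.as_sum, eval₂_add, eval₂_X_pow, eval₂_finsetSum, add_eq_zero_iff_eq_neg] at hG0
    have hlt : U.valuation (-∑ i ∈ Finset.range G.natDegree,
        eval₂ ((algebraMap K₁ Ω).comp (algebraMap A K₁)) (algebraMap K₁ Ω a) (C (G.coeff i) * X ^ i)) <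
        U.valuation (algebraMap K₁ Ω a) ^ G.natDegree := by
      rw [Valuation.map_neg]
      refine U.valuation.map_sum_lt (pow_ne_zero _ (ne_zero_of_lt hgt)) fun i hi => ?_
      rw [eval₂_mul, eval₂_C, eval₂_X_pow, map_mul, map_pow]
      exact (mul_le_of_le_one_left zero_le (hAU _)).trans_lt (pow_lt_pow_right₀ hgt (Finset.mem_range.1 hi))
    rw [← hG0, map_pow] at hlt
    exact lt_irrefl _ hlt
  have hclt : U.valuation (algebraMap K₁ Ω c) < U.valuation Pv ^ (k * p) := by
    simp only [c]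
    rw [map_pow, map_pow, map_pow]
    refine (pow_le_pow_left₀ zero_le ?_ _).trans_lt
      (pow_lt_pow_right_of_lt_one₀ (zero_lt_iff.2 ((_root_.map_ne_zero _).2 hPv0)) hPv1 (Nat.lt_succ_self _))
    have hmem : algebraMap A B πA ∈ maximalIdeal B := map_nonunit _ _ hπA.not_isUnit
    rw [hπB.maximalIdeal_eq, Ideal.mem_span_singleton] at hmem
    obtain ⟨e, he⟩ := hmem
    rw [hAΩ, he, map_mul, map_mul, map_mul, ← hPv]
    exact mul_le_of_le_one_right zero_le (by rw [hBΩ]; exact (U.valuation_le_one_iff _).2 (hBU.1 _))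
  let zM : M := algebraMap K₃ M zg
  have hzM : zM ^ p = algebraMap K₁ M a + algebraMap K₁ M c * zM := by
    simp only [zM]
    rw [← map_pow, hzg, map_add, map_mul]
    rfl
  have hzΩ : algebraMap M Ω zM ^ p = algebraMap K₁ Ω a + algebraMap K₁ Ω c * algebraMap M Ω zM := by
    rw [← map_pow, hzM, map_add, map_mul, ← IsScalarTower.algebraMap_apply, ← IsScalarTower.algebraMap_apply]
  have hxΩ : σ x ^ p = algebraMap K₁ Ω a := by rw [← map_pow, hxa, σ.commutes]
  let E₂ : (Fin p → R) → Q := fun u => ∑ i, Ideal.Quotient.mk P.asIdeal (ι (u i)) *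
    Ideal.Quotient.mk P.asIdeal xT ^ (i : ℕ)
  let E₃ : (Fin p → R) → M := fun u => ∑ i, jM (u i) * zM ^ (i : ℕ)
  have hclose : ∀ u, Close U (ψ (E₂ u)) (algebraMap M Ω (E₃ u)) := by
    intro u
    have h2 : ψ (E₂ u) = ∑ i, φ (ι (u i)) * σ x ^ (i : ℕ) := by
      simp only [E₂, map_sum, map_mul, map_pow, hψ, hφx]
    have h3 : algebraMap M Ω (E₃ u) = ∑ i, φ (ι (u i)) * algebraMap M Ω zM ^ (i : ℕ) := by
      simp only [E₃, map_sum, map_mul, map_pow, hφι]
    rw [h2, h3]
    refine close_sum (U := U) p hxΩ hzΩ ha1 (hclt.le.trans (pow_le_one₀ zero_le hPv1.le)) k hPv0 hclt _ fun i => ?_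
    have hb := hkk P (U.comap ψ) hW₂ u i
    have htr : ∀ q r : Q, (U.comap ψ).valuation q ≤ (U.comap ψ).valuation r →
        U.valuation (ψ q) ≤ U.valuation (ψ r) := fun q r h => by
      rcases eq_or_ne r 0 with rfl | hr
      · rw [map_zero, le_zero_iff, map_eq_zero] at h
        rw [h]
      have h1 : q / r ∈ U.comap ψ := ((U.comap ψ).valuation_le_one_iff _).1 (by
        rw [map_div₀]; exact div_le_one_of_le₀ h zero_le)
      have h2 : U.valuation (ψ (q / r)) ≤ 1 := (U.valuation_le_one_iff _).2 h1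
      rw [map_div₀, map_div₀, div_le_one₀ (zero_lt_iff.2 ((_root_.map_ne_zero _).2 ((_root_.map_ne_zero _).2 hr)))] at h2
      exact h2
    rw [← map_pow, ← map_mul] at hb
    have hb' := htr _ _ hb
    rw [map_mul, map_pow, map_mul, map_pow, ← hPv, hψ] at hb'
    refine le_trans ?_ (hb'.trans_eq (congrArg U.valuation h2))
    gcongr ?_ * _
    exact pow_le_pow_of_le_one zero_le hPv1.le (Finset.le_sup (Finset.mem_univ P))
  have hQ : ∀ q : Q, ∃ u, E₂ u = q := fun q => by
    obtain ⟨t, rfl⟩ := Ideal.Quotient.mk_surjective q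
    obtain ⟨P', rfl⟩ := hTeval t
    rw [hom_eval₂]
    obtain ⟨u, hu⟩ := exists_coeff_fin ((Ideal.Quotient.mk P.asIdeal).comp ι.toRingHom) (X ^ p - C (1 ⊗ₜ a))
      (monic_X_pow_sub_C _ hp.ne_zero) p hp.pos natDegree_X_pow_sub_C _ (by
        rw [eval₂_sub, eval₂_X_pow, eval₂_C, sub_eq_zero]
        show Ideal.Quotient.mk P.asIdeal xT ^ p = Ideal.Quotient.mk P.asIdeal (ι (1 ⊗ₜ a))
        rw [← map_pow, hι, Algebra.TensorProduct.tmul_pow, one_pow, hxa]) P'
    exact ⟨u, hu.symm⟩
  have hjr : ∀ r : K₁, jM (1 ⊗ₜ r) = algebraMap K₁ M r := fun r =>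
    (Algebra.TensorProduct.lift_tmul (Algebra.ofId L M) (IsScalarTower.toAlgHom K K₁ M)
      (fun _ _ => mul_comm _ _) 1 r).trans (by rw [map_one, one_mul]; rfl)
  have hM : ∀ y : M, ∃ u, E₃ u = y := fun y => by
    have hy : y ∈ Algebra.adjoin L (Set.range (algebraMap K₃ M)) := hgenM ▸ Algebra.mem_top
    have hev : ∃ P' : R[X], P'.eval₂ jM.toRingHom zM = y := by
      induction hy using Algebra.adjoin_induction with
      | mem y hy =>
        obtain ⟨t, rfl⟩ := hy
        obtain ⟨P', rfl⟩ := hgen3 t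
        refine ⟨P'.map (Algebra.TensorProduct.includeRight : K₁ →ₐ[K] R).toRingHom, ?_⟩
        rw [eval₂_map, hom_eval₂]
        congr 1
        exact RingHom.ext fun r => hjr r
      | algebraMap l => exact ⟨C (l ⊗ₜ 1), by rw [eval₂_C]; exact jM.commutes l⟩
      | add _ _ _ _ h h' =>
        obtain ⟨P', h⟩ := h
        obtain ⟨P'', h'⟩ := h'
        exact ⟨P' + P'', by rw [eval₂_add, h, h']⟩
      | mul _ _ _ _ h h' =>
        obtain ⟨P', h⟩ := h
        obtain ⟨P'', h'⟩ := h'
        exact ⟨P' * P'', by rw [eval₂_mul, h, h']⟩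
    obtain ⟨P', rfl⟩ := hev
    obtain ⟨u, hu⟩ := exists_coeff_fin jM.toRingHom (f₃.map (Algebra.TensorProduct.includeRight : K₁ →ₐ[K] R).toRingHom)
      (hf₃m.map _) p hp.pos (by rw [hf₃m.natDegree_map]; exact natDegree_eq_of_degree_eq_some hf₃d) zM (by
        rw [eval₂_map, show jM.toRingHom.comp (Algebra.TensorProduct.includeRight : K₁ →ₐ[K] R).toRingHom =
          algebraMap K₁ M from RingHom.ext fun r => hjr r]
        simp only [f₃, eval₂_sub, eval₂_X_pow, eval₂_add, eval₂_mul, eval₂_C, eval₂_X, hzM]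
        ring) P'
    exact ⟨u, hu.symm⟩
  have hK2 : ∀ u : Fin p → K₁, E₂ (fun i => 1 ⊗ₜ u i) =
      algebraMap K₂ Q (∑ i, algebraMap K₁ K₂ (u i) * x ^ (i : ℕ)) := fun u => by
    simp only [E₂, map_sum, map_mul, map_pow]
    rfl
  have hK3 : ∀ u : Fin p → K₁, E₃ (fun i => 1 ⊗ₜ u i) =
      algebraMap K₃ M (∑ i, algebraMap K₁ K₃ (u i) * zg ^ (i : ℕ)) := fun u => by
    simp only [E₃, map_sum, map_mul, map_pow]
    refine Finset.sum_congr rfl fun i _ => congrArg (· * _) ?_
    exact hjr (u i)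
  show Good (U.comap (algebraMap M Ω)) (algebraMap K₃ M)
  refine good_of_close U ψ (algebraMap K₂ Q) (algebraMap M Ω) (algebraMap K₃ M)
    (fun q => ?_) (fun y => ?_) (fun t => ?_) (fun t => ?_) hgood
  · obtain ⟨u, rfl⟩ := hQ q
    exact ⟨_, hclose u⟩
  · obtain ⟨u, rfl⟩ := hM y
    exact ⟨_, hclose u⟩
  · obtain ⟨P', rfl⟩ := hgen2 t
    obtain ⟨u, hu⟩ := exists_coeff_fin (algebraMap K₁ K₂) (X ^ p - C a) (monic_X_pow_sub_C _ hp.ne_zero) p hp.pos
      natDegree_X_pow_sub_C x (by rw [eval₂_sub, eval₂_X_pow, eval₂_C, hxa, sub_self]) P'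
    refine ⟨∑ i, algebraMap K₁ K₃ (u i) * zg ^ (i : ℕ), ?_⟩
    rw [hu, ← hK2, ← hK3]
    exact hclose _
  · obtain ⟨P', rfl⟩ := hgen3 t
    obtain ⟨u, hu⟩ := exists_coeff_fin (algebraMap K₁ K₃) f₃ hf₃m p hp.pos (natDegree_eq_of_degree_eq_some hf₃d) zg (by
      simp only [f₃, eval₂_sub, eval₂_X_pow, eval₂_add, eval₂_mul, eval₂_C, eval₂_X, hzg]
      ring) P'
    refine ⟨∑ i, algebraMap K₁ K₂ (u i) * x ^ (i : ℕ), ?_⟩
    rw [hu, ← hK2, ← hK3]
    exact hclose _

end Groth.Agent.EtSol
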