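import Mathlib
import Groth.Prelude.Def_EtRam
import Groth.Agent.TotRam.Solution

/-!
# An element whose valuation is a root of that of a uniformizer
-/

set_option autoImplicit false
set_option linter.all false
set_option maxHeartbeats 800000

universe u

open IsLocalRing Polynomial

noncomputable section

namespace Groth.Agent.EtSol

variable {A K N : Type u} [CommRing A] [IsDomain A] [IsDiscreteValuationRing A] [Field K] [Algebra A K]
  [IsFractionRing A K] [Field N] [Algebra K N] [Algebra A N] [IsScalarTower A K N]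
  {π : A} (hπ : Irreducible π) {W : ValuationSubring N} (hW : EtRam.Dominates A (algebraMap A N) W)
  {ω : N} {Q : ℕ} (hQ : 0 < Q) (hω : W.valuation ω ^ Q = W.valuation (algebraMap A N π))

include hπ hW hQ hω in
theorem root_ne_zero (hinj : Function.Injective (algebraMap A N)) : ω ≠ 0 := by
  intro h
  rw [h, map_zero, zero_pow hQ.ne', eq_comm, map_eq_zero, map_eq_zero_iff _ hinj] at hω
  exact hπ.ne_zero hω

include hπ hW hQ hω in
theorem root_val_ne_zero (hinj : Function.Injective (algebraMap A N)) : W.valuation ω ≠ 0 :=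
  (_root_.map_ne_zero _).2 (root_ne_zero hπ hW hQ hω hinj)

include hπ hW hQ hω in
theorem root_lt_one : W.valuation ω < 1 := by
  by_contra h
  exact (hW.2 π hπ.not_isUnit).not_ge (hω ▸ one_le_pow₀ (not_lt.1 h))

include hπ hW hQ hω in
/-- The valuation of a term is an integral power of that of the root, in the residue class of its index. -/
theorem exists_valuation_term (r : K) (hr : r ≠ 0) (i : ℕ) :
    ∃ m : ℤ, W.valuation (r • ω ^ i) = W.valuation ω ^ ((Q : ℤ) * m + i) := by
  have hT : W.valuation ω ≠ 0 := (_root_.map_ne_zero _).2 (root_ne_zero hπ hW hQ hω (by rw [IsScalarTower.algebraMap_eq A K N]; exact (algebraMap K N).injective.comp (IsFractionRing.injective A K)))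
  obtain ⟨a, b, hb, rfl⟩ := IsFractionRing.div_surjective (A := A) r
  have ha0 : a ≠ 0 := fun h => hr (by rw [h, map_zero, zero_div])
  have hb0 : b ≠ 0 := nonZeroDivisors.ne_zero hb
  obtain ⟨na, ua, rfl⟩ := IsDiscreteValuationRing.eq_unit_mul_pow_irreducible ha0 hπ
  obtain ⟨nb, ub, rfl⟩ := IsDiscreteValuationRing.eq_unit_mul_pow_irreducible hb0 hπ
  refine ⟨(na : ℤ) - nb, ?_⟩
  rw [Algebra.smul_def, map_mul, map_pow, map_div₀, map_div₀, ← IsScalarTower.algebraMap_apply,
    ← IsScalarTower.algebraMap_apply, map_mul, map_mul, map_mul, map_mul, map_pow, map_pow, map_pow, map_pow,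
    TotRam.valuation_unit W hW ua.isUnit, TotRam.valuation_unit W hW ub.isUnit, one_mul, one_mul, ← hω, ← pow_mul,
    ← pow_mul, zpow_add₀ hT, mul_sub, zpow_sub₀ hT, ← Nat.cast_mul, ← Nat.cast_mul, zpow_natCast, zpow_natCast,
    zpow_natCast]

include hπ hW hQ hω in
/-- A nonzero combination of the powers of the root has the valuation of a power of the root. -/
theorem exists_valuation_sum (r : Fin Q → K) (hne : ∃ i, r i ≠ 0) :
    ∃ n : ℤ, W.valuation (∑ i, r i • ω ^ (i : ℕ)) = W.valuation ω ^ n := by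
  classical
  have hT : W.valuation ω ≠ 0 := (_root_.map_ne_zero _).2 (root_ne_zero hπ hW hQ hω (by rw [IsScalarTower.algebraMap_eq A K N]; exact (algebraMap K N).injective.comp (IsFractionRing.injective A K)))
  let S := Finset.univ.filter fun i => r i ≠ 0
  obtain ⟨i₀, hi₀⟩ := hne
  choose! m hm using fun (i : Fin Q) (hi : i ∈ S) =>
    exists_valuation_term hπ hW hQ hω (r i) (Finset.mem_filter.1 hi).2 i
  obtain ⟨i₁, hi₁, hmin⟩ := S.exists_min_image (fun i => (Q : ℤ) * m i + (i : ℕ)) ⟨i₀, by simp [S, hi₀]⟩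
  refine ⟨(Q : ℤ) * m i₁ + (i₁ : ℕ), ?_⟩
  rw [← Finset.sum_subset (Finset.subset_univ S) (fun i _ hi => by
    rw [show r i = 0 by simpa [S] using hi, zero_smul]), Valuation.map_sum_eq_of_lt _ hi₁ ?_, hm i₁ hi₁]
  intro i hi
  rw [Finset.mem_sdiff, Finset.mem_singleton] at hi
  rw [hm i hi.1, hm i₁ hi₁]
  refine zpow_lt_zpow_right_of_lt_one₀ (zero_lt_iff.2 hT) (root_lt_one hπ hW hQ hω)
    ((hmin i hi.1).lt_of_ne fun he => hi.2 (Fin.ext ?_))
  have h1 := congrArg (· % (Q : ℤ)) he
  simp only [Int.mul_add_emod_self_left] at h1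
  rw [Int.emod_eq_of_lt (by omega) (by omega), Int.emod_eq_of_lt (by omega) (by omega)] at h1
  omega

include hπ hW hQ hω in
/-- Powers of the root are independent. -/
theorem linearIndependent_pow_root : LinearIndependent K fun i : Fin Q => ω ^ (i : ℕ) := by
  refine Fintype.linearIndependent_iff.2 fun r hr i => ?_
  by_contra hi
  obtain ⟨n, hn⟩ := exists_valuation_sum hπ hW hQ hω r ⟨i, hi⟩
  rw [hr, map_zero] at hn
  exact zpow_ne_zero n ((_root_.map_ne_zero _).2 (root_ne_zero hπ hW hQ hω (by rw [IsScalarTower.algebraMap_eq A K N]; exact (algebraMap K N).injective.comp (IsFractionRing.injective A K)))) hn.symm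

include hπ hW hQ hω in
/-- An integral combination of the powers of the root is congruent to its constant term. -/
theorem exists_residue (r : Fin Q → K) (hy : ∑ i, r i • ω ^ (i : ℕ) ∈ W) :
    ∃ a : A, W.valuation ((∑ i, r i • ω ^ (i : ℕ)) - algebraMap A N a) < 1 := by
  classical
  choose a ha using TotRam.coeff_mem (K := K) hπ ω W hW hω r hy
  refine ⟨a ⟨0, hQ⟩, ?_⟩
  rw [← Finset.add_sum_erase Finset.univ _ (Finset.mem_univ (⟨0, hQ⟩ : Fin Q)), pow_zero, ← ha, algebraMap_smul,
    ← Algebra.algebraMap_eq_smul_one, add_sub_cancel_left]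
  refine Valuation.map_sum_lt _ one_ne_zero fun i hi => ?_
  rw [← ha, algebraMap_smul, Algebra.smul_def, map_mul, map_pow]
  exact mul_lt_one_of_nonneg_of_lt_one_right ((W.valuation_le_one_iff _).2 (hW.1 _)) zero_le
    (pow_lt_one₀ zero_le (root_lt_one hπ hW hQ hω) fun h0 => (Finset.mem_erase.1 hi).1 (Fin.ext h0))

/-- A criterion for total ramification. -/
theorem totallyRamified_of_root {A K N : Type u} [CommRing A] [IsDomain A] [IsDiscreteValuationRing A] [Field K]
    [Algebra A K] [IsFractionRing A K] [Field N] [Algebra K N] [FiniteDimensional K N] [Algebra A N]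
    [IsScalarTower A K N] {π : A} (hπ : Irreducible π) {ω : N} {Q : ℕ} (hQ : 0 < Q)
    (hdim : Module.finrank K N ≤ Q)
    (hω : ∀ W : ValuationSubring N, EtRam.Dominates A (algebraMap A N) W →
      W.valuation ω ^ Q = W.valuation (algebraMap A N π)) :
    EtRam.IsTotallyRamified A (algebraMap A N) ∧ Module.finrank K N = Q ∧
      ∀ y : N, ∃ r : Fin Q → K, y = ∑ i, r i • ω ^ (i : ℕ) := by
  classical
  haveI : Nonempty (Fin Q) := ⟨⟨0, hQ⟩⟩
  obtain ⟨W, hW⟩ := TotRam.exists_dominates A N (algebraMap A N) (by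
    rw [IsScalarTower.algebraMap_eq A K N]; exact (algebraMap K N).injective.comp (IsFractionRing.injective A K))
  have hli := linearIndependent_pow_root (K := K) hπ hW hQ (hω W hW)
  have hfr : Module.finrank K N = Q :=
    le_antisymm hdim (by simpa using hli.fintype_card_le_finrank)
  have hsp := hli.span_eq_top_of_card_eq_finrank (by rw [Fintype.card_fin, hfr])
  have hspan : ∀ y : N, ∃ r : Fin Q → K, y = ∑ i, r i • ω ^ (i : ℕ) := fun y => by
    obtain ⟨r, hr⟩ := (Submodule.mem_span_range_iff_exists_fun K).1 (hsp.ge (Submodule.mem_top (x := y)))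
    exact ⟨r, hr.symm⟩
  refine ⟨⟨⟨W, hW⟩, ?_, fun V h z => ?_⟩, hfr, hspan⟩
  · have hmono : ∀ V V', EtRam.Dominates A (algebraMap A N) V → EtRam.Dominates A (algebraMap A N) V' → V ≤ V' := by
      intro V V' h h' y hy
      obtain ⟨r, rfl⟩ := hspan y
      choose a ha using TotRam.coeff_mem hπ ω V h (hω V h) r hy
      have hω' : ω ∈ V' := (V'.valuation_le_one_iff ω).1 (root_lt_one hπ h' hQ (hω V' h')).le
      refine sum_mem fun i _ => ?_
      rw [← ha, algebraMap_smul, Algebra.smul_def]
      exact mul_mem (h'.1 _) (pow_mem hω' _)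
    exact fun V V' h h' => le_antisymm (hmono V V' h h') (hmono V' V h' h)
  · obtain ⟨⟨y, hy⟩, rfl⟩ := IsLocalRing.residue_surjective z
    obtain ⟨r, rfl⟩ := hspan y
    obtain ⟨a, ha⟩ := exists_residue hπ h hQ (hω V h) r hy
    refine ⟨a, ?_⟩
    show IsLocalRing.residue V _ = IsLocalRing.residue V _
    rw [← sub_eq_zero, ← map_sub, IsLocalRing.residue_eq_zero_iff, V.valuation_lt_one_iff]
    push_cast
    rw [Valuation.map_sub_swap]
    exact ha

end Groth.Agent.EtSol
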