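import Mathlib
import Groth.Prelude.Def_EtRam
import Groth.Agent.EtSol.ASValue
import Groth.Agent.EtSol.RamCriterion
import Groth.Agent.EtSol.PInsepSolution
import Groth.Agent.TotRam.PInsep

/-!
# Ramification of Artin–Schreier extensions over a discrete valuation ring
-/

set_option autoImplicit false
set_option linter.all false
set_option maxHeartbeats 1000000

universe u

open IsLocalRing Polynomial

noncomputable section

namespace Groth.Agent.EtSol

variable {A K L : Type u} [CommRing A] [IsDomain A] [IsDiscreteValuationRing A] [Field K] [Algebra A K]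
  [IsFractionRing A K] [Field L] [Algebra K L] [Algebra A L] [IsScalarTower A K L] {p : ℕ} [hp : Fact p.Prime]

theorem arch_of_dvr {W : ValuationSubring L} [IsDiscreteValuationRing W] (v δ : L) (hv : v ≠ 0)
    (hδ : W.valuation δ < 1) : ∃ k, W.valuation δ ^ k < W.valuation v := by
  obtain ⟨ρ, hρ⟩ := IsDiscreteValuationRing.exists_irreducible W
  obtain ⟨c, d, hd, rfl⟩ := IsFractionRing.div_surjective (A := W) v
  have hc0 : c ≠ 0 := fun h => hv (by rw [h, map_zero, zero_div])
  obtain ⟨k, u, rfl⟩ := IsDiscreteValuationRing.eq_unit_mul_pow_irreducible hc0 hρ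
  refine ⟨k + 1, ?_⟩
  have hδρ : W.valuation δ ≤ W.valuation (ρ : L) := by
    let δW : W := ⟨δ, (W.valuation_le_one_iff δ).1 hδ.le⟩
    have hmem : δW ∈ maximalIdeal W := (W.valuation_lt_one_iff δW).2 hδ
    rw [hρ.maximalIdeal_eq, Ideal.mem_span_singleton] at hmem
    obtain ⟨e, he⟩ := hmem
    rw [show δ = (ρ : L) * (e : L) from congrArg Subtype.val he, map_mul]
    exact mul_le_of_le_one_right zero_le ((W.valuation_le_one_iff _).2 e.2)
  have hρ0 : (0 : W.ValueGroup) < W.valuation (ρ : L) :=
    zero_lt_iff.2 ((_root_.map_ne_zero _).2 fun h => hρ.ne_zero (Subtype.ext h))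
  have hρ1 : W.valuation (ρ : L) < 1 := (W.valuation_lt_one_iff ρ).1 hρ.not_isUnit
  refine (pow_le_pow_left₀ zero_le hδρ _).trans_lt ((pow_lt_pow_right_of_lt_one₀ hρ0 hρ1 k.lt_succ_self).trans_le ?_)
  rw [map_div₀]
  show _ ≤ W.valuation (((u : W) * ρ ^ k : W) : L) / W.valuation (d : L)
  rw [MulMemClass.coe_mul, SubmonoidClass.coe_pow, map_mul, map_pow, (W.valuation_eq_one_iff _).1 u.isUnit, one_mul,
    le_div_iff₀ (zero_lt_iff.2 ((_root_.map_ne_zero _).2 fun h => nonZeroDivisors.ne_zero hd (Subtype.ext h)))]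
  exact mul_le_of_le_one_right zero_le ((W.valuation_le_one_iff _).2 d.2)

/-- Coefficients in a family with independent residues are integral, and small with the element. -/
theorem inertial_coeff {V : ValuationSubring L} (hV : EtRam.Dominates A (algebraMap A L) V) (s : V)
    (g : (ResidueField (V.comap (algebraMap K L)))[X]) (hg : Irreducible g) (hgm : g.Monic) (hgd : g.natDegree = p)
    (hs : g.eval₂ (ResidueField.map (EtRam.inclOfComap V (algebraMap K L))) (residue V s) = 0) (a : Fin p → K) :
    (V.valuation (∑ l, algebraMap K L (a l) * (s : L) ^ (l : ℕ)) ≤ 1 → ∀ l, ∃ r : A, algebraMap A K r = a l) ∧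
    (V.valuation (∑ l, algebraMap K L (a l) * (s : L) ^ (l : ℕ)) < 1 →
      ∀ l, ∃ r : A, r ∈ maximalIdeal A ∧ algebraMap A K r = a l) ∧
    (∑ l, algebraMap K L (a l) * (s : L) ^ (l : ℕ) = 0 → ∀ l, a l = 0) := by
  by_cases ha : ∃ i, a i ≠ 0
  swap
  · push Not at ha
    exact ⟨fun _ l => ⟨0, by rw [ha l, map_zero]⟩, fun _ l => ⟨0, zero_mem _, by rw [ha l, map_zero]⟩, fun _ l => ha l⟩
  obtain ⟨i, hi, hmax⟩ := exists_valuation_eq_coeff s g hg hgm hgd hs a ha
  refine ⟨fun h l => TotRam.exists_of_valuation_le hV (a l) ((hmax l).trans (hi ▸ h)), fun h l => ?_, fun h l => ?_⟩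
  · obtain ⟨r, hr⟩ := TotRam.exists_of_valuation_le hV (a l) ((hmax l).trans (hi ▸ h.le))
    refine ⟨r, ?_, hr⟩
    by_contra hu
    have h1 := TotRam.valuation_unit V hV (notMem_maximalIdeal.1 hu)
    rw [IsScalarTower.algebraMap_apply A K L, hr] at h1
    exact ((hmax l).trans_lt (hi ▸ h)).ne h1
  · rw [h, map_zero, eq_comm, map_eq_zero] at hi
    have h2 := hmax l
    rw [hi, map_zero, le_zero_iff, map_eq_zero, map_eq_zero] at h2
    exact h2

variable [FiniteDimensional K L]

/-- The structure of a dominating valuation ring with inertia of full degree. -/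
theorem inertial_structure {π : A} (hπ : Irreducible π) (hdim : Module.finrank K L ≤ p)
    {V : ValuationSubring L} (hV : EtRam.Dominates A (algebraMap A L) V) (s : V)
    (g : (ResidueField (V.comap (algebraMap K L)))[X]) (hg : Irreducible g) (hgm : g.Monic) (hgd : g.natDegree = p)
    (hs : g.eval₂ (ResidueField.map (EtRam.inclOfComap V (algebraMap K L))) (residue V s) = 0) :
    Module.finrank K L = p ∧ (∀ y, y ∈ V ↔ ∃ a : Fin p → A, y = ∑ l, algebraMap A L (a l) * (s : L) ^ (l : ℕ)) ∧
      letI : Algebra A V := (RingHom.codRestrict (algebraMap A L) V hV.1).toAlgebra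
      ∀ [IsLocalHom (algebraMap A V)], EtRam.IsWeaklyUnramified A V ∧
        Module.finrank (ResidueField A) (ResidueField V) = p ∧
        ∀ x : ResidueField V, ∃ a : Fin p → ResidueField A,
          x = ∑ l, algebraMap (ResidueField A) (ResidueField V) (a l) * residue V s ^ (l : ℕ) := by
  classical
  haveI : Nonempty (Fin p) := ⟨⟨0, hp.out.pos⟩⟩
  have hco := inertial_coeff hV s g hg hgm hgd hs
  have hli : LinearIndependent K fun l : Fin p => (s : L) ^ (l : ℕ) :=
    Fintype.linearIndependent_iff.2 fun a ha => (hco a).2.2 (by simpa only [Algebra.smul_def] using ha)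
  have hfr : Module.finrank K L = p := le_antisymm hdim (by simpa using hli.fintype_card_le_finrank)
  have hsp := hli.span_eq_top_of_card_eq_finrank (by rw [Fintype.card_fin, hfr])
  have hspan : ∀ y : L, ∃ a : Fin p → K, y = ∑ l, algebraMap K L (a l) * (s : L) ^ (l : ℕ) := fun y => by
    obtain ⟨a, ha⟩ := (Submodule.mem_span_range_iff_exists_fun K).1 (hsp.ge (Submodule.mem_top (x := y)))
    exact ⟨a, by simpa only [Algebra.smul_def] using ha.symm⟩
  have hmem : ∀ y, y ∈ V ↔ ∃ a : Fin p → A, y = ∑ l, algebraMap A L (a l) * (s : L) ^ (l : ℕ) := fun y => by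
    refine ⟨fun hy => ?_, ?_⟩
    · obtain ⟨a, rfl⟩ := hspan y
      choose r hr using (hco a).1 ((V.valuation_le_one_iff _).2 hy)
      exact ⟨r, Finset.sum_congr rfl fun l _ => by rw [IsScalarTower.algebraMap_apply A K L, hr]⟩
    · rintro ⟨a, rfl⟩
      exact sum_mem fun l _ => mul_mem (hV.1 _) (pow_mem s.2 _)
  refine ⟨hfr, hmem, ?_⟩
  letI : Algebra A V := (RingHom.codRestrict (algebraMap A L) V hV.1).toAlgebra
  intro _
  refine ⟨?_, ?_⟩
  · show (maximalIdeal A).map (algebraMap A V) = maximalIdeal V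
    refine le_antisymm (Ideal.map_le_iff_le_comap.2 fun r hr => map_nonunit _ r hr) fun y hy => ?_
    obtain ⟨a, ha⟩ := hspan (y : L)
    choose r hrm hr using (hco a).2.1 (ha ▸ (V.valuation_lt_one_iff y).1 hy)
    rw [show y = ∑ l, algebraMap A V (r l) * s ^ (l : ℕ) from Subtype.ext (by
      rw [ha]; push_cast
      exact Finset.sum_congr rfl fun l _ => by
        rw [← hr, ← IsScalarTower.algebraMap_apply A K L]; rfl)]
    exact Ideal.sum_mem _ fun l _ => Ideal.mul_mem_right _ _ (Ideal.mem_map_of_mem _ (hrm l))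
  · have hgen : ∀ x : ResidueField V, ∃ a : Fin p → ResidueField A,
        x = ∑ l, algebraMap (ResidueField A) (ResidueField V) (a l) * residue V s ^ (l : ℕ) := fun x => by
      obtain ⟨⟨y, hy⟩, rfl⟩ := residue_surjective x
      obtain ⟨a, rfl⟩ := (hmem y).1 hy
      refine ⟨fun l => residue A (a l), ?_⟩
      rw [show (⟨∑ l, algebraMap A L (a l) * (s : L) ^ (l : ℕ), hy⟩ : V) = ∑ l, algebraMap A V (a l) * s ^ (l : ℕ) from
        Subtype.ext (by push_cast; rfl)]
      simp only [map_sum, map_mul, map_pow]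
      rfl
    refine ⟨?_, hgen⟩
    have hli' : LinearIndependent (ResidueField A) fun l : Fin p => residue V s ^ (l : ℕ) := by
      refine Fintype.linearIndependent_iff.2 fun a ha l => ?_
      choose r hr using fun l => residue_surjective (a l)
      have hsum : residue V (∑ l, algebraMap A V (r l) * s ^ (l : ℕ)) = 0 := by
        rw [← ha]
        simp only [map_sum, map_mul, map_pow, Algebra.smul_def, ← hr]
        rfl
      rw [residue_eq_zero_iff] at hsum
      have hlt := (V.valuation_lt_one_iff _).1 hsum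
      obtain ⟨r', hr'm, hr'⟩ := (hco fun l => algebraMap A K (r l)).2.1 (by
        refine lt_of_eq_of_lt (congrArg V.valuation ?_) hlt
        push_cast
        exact Finset.sum_congr rfl fun l _ => by rw [← IsScalarTower.algebraMap_apply A K L]; rfl) l
      rw [IsFractionRing.injective A K hr'] at hr'm
      rw [← hr, residue_eq_zero_iff]
      exact hr'm
    have hsp' : ⊤ ≤ Submodule.span (ResidueField A) (Set.range fun l : Fin p => residue V s ^ (l : ℕ)) := fun x _ => by
      obtain ⟨a, rfl⟩ := hgen x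
      refine Submodule.sum_mem _ fun l _ => ?_
      rw [← Algebra.smul_def]
      exact Submodule.smul_mem _ _ (Submodule.subset_span ⟨l, rfl⟩)
    rw [Module.finrank_eq_card_basis (Module.Basis.mk hli' hsp'), Fintype.card_fin]

variable [CharP K p] {π : A} {ξ : K} {z : L}

theorem charP_base (A K L : Type u) [CommRing A] [IsDomain A] [Field K] [Algebra A K] [IsFractionRing A K] [Field L]
    [Algebra K L] (p : ℕ) [CharP K p] : CharP A p ∧ CharP L p :=
  ⟨(RingHom.charP_iff (algebraMap A K) (IsFractionRing.injective A K) p).2 inferInstance,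
    charP_of_injective_algebraMap (algebraMap K L).injective p⟩

variable (hπ : Irreducible π) (hz : z ^ p - z = algebraMap K L ξ)
  (hgen : ∀ y : L, ∃ u : Fin p → K, y = ∑ i, algebraMap K L (u i) * z ^ (i : ℕ)) (hdim : Module.finrank K L ≤ p)

include hπ hz hdim in
theorem totallyRamified_case (n : ℕ) (a : Aˣ) (hn : 0 < n) (hpn : ¬ p ∣ n)
    (hξ : ξ * algebraMap A K π ^ n = algebraMap A K a) :
    EtRam.IsTotallyRamified A (algebraMap A L) ∧ Module.finrank K L = p := by
  obtain ⟨-, hcL⟩ := charP_base A K L p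
  haveI := hcL
  obtain ⟨w, -, hw⟩ : ∃ w < p, n * w % p = 1 :=
    Nat.exists_mul_mod_eq_one_of_coprime ((hp.out.coprime_iff_not_dvd.2 hpn).symm) hp.out.one_lt
  obtain ⟨htr, hfr, -⟩ := totallyRamified_of_root (K := K) hπ hp.out.pos hdim
    (ω := (z ^ w * algebraMap A L π ^ (n * w / p))⁻¹) fun W hW => by
    have hπ0 : algebraMap A L π ≠ 0 := by
      rw [IsScalarTower.algebraMap_apply A K L]
      exact (_root_.map_ne_zero _).2 ((map_ne_zero_iff _ (IsFractionRing.injective A K)).2 hπ.ne_zero)
    set T := W.valuation (algebraMap A L π) with hT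
    have hT0 : T ≠ 0 := (_root_.map_ne_zero _).2 hπ0
    have hT1 : T < 1 := hW.2 π hπ.not_isUnit
    have hξv : W.valuation (algebraMap K L ξ) = T⁻¹ ^ n := by
      have h := congrArg (fun x => W.valuation (algebraMap K L x)) hξ
      simp only [map_mul, map_pow, ← IsScalarTower.algebraMap_apply, TotRam.valuation_unit W hW a.isUnit] at h
      rw [inv_pow]
      exact eq_inv_of_mul_eq_one_left h
    have hzv : W.valuation z ^ p = T⁻¹ ^ n := by
      rw [← hξv]
      exact (valuation_root_of_one_lt hz (hξv ▸ one_lt_pow₀ ((one_lt_inv₀ (zero_lt_iff.2 hT0)).2 hT1) hn.ne')).1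
    rw [map_inv₀, map_mul, map_pow, map_pow, inv_pow, mul_pow, ← pow_mul, mul_comm w p, pow_mul, hzv, ← pow_mul,
      inv_pow, ← pow_mul]
    have hdiv := Nat.mod_add_div (n * w) p
    rw [hw] at hdiv
    have hexp : T ^ (n * w) = T * T ^ (n * w / p * p) := by
      rw [← pow_succ']; congr 1; rw [mul_comm (n * w / p) p]; omega
    rw [← hT, hexp, mul_inv_rev, inv_inv]
    field_simp
  exact ⟨htr, hfr⟩

include hπ hz hdim in
theorem inseparable_case (n : ℕ) (a : A) (hn : 0 < n) (hpn : p ∣ n) (ha : ∀ r : A, residue A a ≠ residue A r ^ p)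
    (hξ : ξ * algebraMap A K π ^ n = algebraMap A K a) :
    (∃ V : ValuationSubring L, EtRam.Dominates A (algebraMap A L) V) ∧
      (∀ V V' : ValuationSubring L, EtRam.Dominates A (algebraMap A L) V → EtRam.Dominates A (algebraMap A L) V' → V = V') ∧
      ∀ (V : ValuationSubring L) (h : EtRam.Dominates A (algebraMap A L) V),
        letI : Algebra A V := (RingHom.codRestrict (algebraMap A L) V h.1).toAlgebra
        ∀ [IsLocalHom (algebraMap A V)],
          EtRam.IsWeaklyUnramified A V ∧ IsPurelyInseparable (ResidueField A) (ResidueField V) ∧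
            Module.finrank (ResidueField A) (ResidueField V) = p := by
  classical
  obtain ⟨hcA, hcL⟩ := charP_base A K L p
  haveI := hcA
  haveI := hcL
  haveI : CharP (ResidueField A) p := (CharP.charP_iff_prime_eq_zero hp.out).2 (by
    rw [← map_natCast (residue A), CharP.cast_eq_zero, map_zero])
  obtain ⟨e, rfl⟩ := hpn
  have he : 0 < e := Nat.pos_of_mul_pos_left hn
  have hinj : Function.Injective (algebraMap A L) := by
    rw [IsScalarTower.algebraMap_eq A K L]; exact (algebraMap K L).injective.comp (IsFractionRing.injective A K)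
  have hπ0 : algebraMap A L π ≠ 0 := (map_ne_zero_iff _ hinj).2 hπ.ne_zero
  let s₀ : L := z * algebraMap A L π ^ e
  have key : ∀ V : ValuationSubring L, EtRam.Dominates A (algebraMap A L) V →
      ∃ (hsV : s₀ ∈ V) (g : (ResidueField (V.comap (algebraMap K L)))[X]), Irreducible g ∧ g.Monic ∧ g.natDegree = p ∧
        g.eval₂ (ResidueField.map (EtRam.inclOfComap V (algebraMap K L))) (residue V ⟨s₀, hsV⟩) = 0 ∧
        V.valuation (algebraMap A L a - s₀ ^ p) < 1 := by
    intro V hV
    set T := V.valuation (algebraMap A L π) with hT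
    have hT0 : T ≠ 0 := (_root_.map_ne_zero _).2 hπ0
    have hT1 : T < 1 := hV.2 π hπ.not_isUnit
    have ha1 : V.valuation (algebraMap A L a) = 1 := TotRam.valuation_unit V hV (notMem_maximalIdeal.1 fun hm =>
      ha 0 (by rw [map_zero, zero_pow hp.out.ne_zero, (residue_eq_zero_iff a).2 hm]))
    have hξL : algebraMap K L ξ * algebraMap A L π ^ (p * e) = algebraMap A L a := by
      rw [IsScalarTower.algebraMap_apply A K L, ← map_pow, ← map_mul, hξ, ← IsScalarTower.algebraMap_apply]
    have hξv : V.valuation (algebraMap K L ξ) = T⁻¹ ^ (p * e) := by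
      have h := congrArg V.valuation hξL
      rw [map_mul, map_pow, ha1] at h
      rw [inv_pow]
      exact eq_inv_of_mul_eq_one_left h
    have hzv : V.valuation z = T⁻¹ ^ e := by
      refine (pow_left_inj₀ zero_le zero_le hp.out.ne_zero).1 ?_
      rw [(valuation_root_of_one_lt hz (hξv ▸ one_lt_pow₀ ((one_lt_inv₀ (zero_lt_iff.2 hT0)).2 hT1) hn.ne')).1, hξv,
        ← pow_mul, mul_comm e p]
    have hs1 : V.valuation s₀ ≤ 1 := by
      simp only [s₀]
      rw [map_mul, map_pow, hzv, ← hT, ← mul_pow, inv_mul_cancel₀ hT0, one_pow]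
    have hsa : V.valuation (algebraMap A L a - s₀ ^ p) < 1 := by
      rw [show algebraMap A L a - s₀ ^ p = -(z * algebraMap A L π ^ (p * e)) by
        simp only [s₀]; rw [← hξL, ← hz, mul_pow, ← pow_mul, mul_comm e p]; ring,
        Valuation.map_neg, map_mul, map_pow, hzv, ← hT, inv_pow,
        show p * e = e + (p - 1) * e by rw [Nat.sub_one_mul, Nat.add_sub_cancel' (Nat.le_mul_of_pos_left e hp.out.pos)],
        pow_add, ← mul_assoc, inv_mul_cancel₀ (pow_ne_zero _ hT0), one_mul]
      exact pow_lt_one₀ zero_le hT1 (Nat.mul_ne_zero (by have := hp.out.two_le; omega) he.ne')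
    have hsV : s₀ ∈ V := (V.valuation_le_one_iff _).1 hs1
    let O := V.comap (algebraMap K L)
    have haO : algebraMap A K a ∈ O := by
      show algebraMap K L (algebraMap A K a) ∈ V
      rw [← IsScalarTower.algebraMap_apply]; exact hV.1 a
    refine ⟨hsV, X ^ p - C (residue O ⟨_, haO⟩), X_pow_sub_C_irreducible_of_prime hp.out fun b hb => ?_,
      monic_X_pow_sub_C _ hp.out.ne_zero, natDegree_X_pow_sub_C, ?_, hsa⟩
    · obtain ⟨⟨b, hbO⟩, rfl⟩ := residue_surjective b
      obtain ⟨b', rfl⟩ := TotRam.exists_of_valuation_le hV b ((V.valuation_le_one_iff _).2 hbO)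
      rw [← map_pow, ← sub_eq_zero, ← map_sub, residue_eq_zero_iff] at hb
      have h1 := (V.valuation_lt_one_iff _).1 (map_nonunit (EtRam.inclOfComap V (algebraMap K L)) _ hb)
      refine ha b' ?_
      rw [← map_pow, eq_comm, ← sub_eq_zero, ← map_sub, residue_eq_zero_iff]
      by_contra hu
      refine h1.ne ?_
      rw [← TotRam.valuation_unit V hV (notMem_maximalIdeal.1 hu)]
      show V.valuation (algebraMap K L (algebraMap A K b' ^ p - algebraMap A K a)) =
        V.valuation (algebraMap A L (b' ^ p - a))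
      rw [IsScalarTower.algebraMap_apply A K L, map_sub (algebraMap A K), map_pow (algebraMap A K)]
    · rw [eval₂_sub, eval₂_X_pow, eval₂_C, sub_eq_zero, eq_comm, ← map_pow, residue_map_eq_iff]
      show V.valuation (algebraMap K L (algebraMap A K a) - s₀ ^ p) < 1
      rw [← IsScalarTower.algebraMap_apply]; exact hsa
  refine ⟨TotRam.exists_dominates A L _ hinj, fun V V' hV hV' => ?_, fun V hV => ?_⟩
  · obtain ⟨hsV, g, hg, hgm, hgd, hs, -⟩ := key V hV
    obtain ⟨hsV', g', hg', hgm', hgd', hs', -⟩ := key V' hV'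
    obtain ⟨-, hmem, -⟩ := inertial_structure hπ hdim hV ⟨s₀, hsV⟩ g hg hgm hgd hs
    obtain ⟨-, hmem', -⟩ := inertial_structure hπ hdim hV' ⟨s₀, hsV'⟩ g' hg' hgm' hgd' hs'
    exact SetLike.ext fun y => (hmem y).trans (hmem' y).symm
  · letI : Algebra A V := (RingHom.codRestrict (algebraMap A L) V hV.1).toAlgebra
    intro _
    obtain ⟨hsV, g, hg, hgm, hgd, hs, hsa⟩ := key V hV
    obtain ⟨-, -, hstr⟩ := inertial_structure hπ hdim hV ⟨s₀, hsV⟩ g hg hgm hgd hs
    obtain ⟨hwu, hfr, hres⟩ := hstr
    haveI : CharP (ResidueField V) p :=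
      charP_of_injective_algebraMap (algebraMap (ResidueField A) (ResidueField V)).injective p
    refine ⟨hwu, (isPurelyInseparable_iff_pow_mem (ResidueField A) p).2 fun x => ⟨1, ?_⟩, hfr⟩
    rw [pow_one]
    obtain ⟨c, rfl⟩ := hres x
    rw [sum_pow_char]
    refine sum_mem fun l _ => ?_
    rw [mul_pow, ← map_pow, ← pow_mul, mul_comm (l : ℕ), pow_mul]
    refine mul_mem ⟨_, rfl⟩ (pow_mem (show residue V ⟨s₀, hsV⟩ ^ p ∈
      (algebraMap (ResidueField A) (ResidueField V)).range from ⟨residue A a, ?_⟩) _)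
    rw [← map_pow, show algebraMap (ResidueField A) (ResidueField V) (residue A a) = residue V (algebraMap A V a) from rfl,
      ← sub_eq_zero, ← map_sub, residue_eq_zero_iff]
    exact (V.valuation_lt_one_iff _).2 hsa

include hπ hz hgen hdim in
theorem unramified_case (a : A) (hξ : algebraMap A K a = ξ) (hfr : Module.finrank K L = p) :
    EtRam.IsUnramifiedExt A (algebraMap A L) := by
  classical
  obtain ⟨hcA, hcL⟩ := charP_base A K L p
  haveI := hcA
  haveI := hcL
  intro V hV
  letI : Algebra A V := (RingHom.codRestrict (algebraMap A L) V hV.1).toAlgebra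
  intro _
  have hV' : EtRam.Dominates A ((algebraMap K L).comp (algebraMap A K)) V := by
    rwa [← IsScalarTower.algebraMap_eq]
  haveI := TameAbh.isDVR_of_dominates (A := A) (K := K) V hV'
  let O := V.comap (algebraMap K L)
  let ι := EtRam.inclOfComap V (algebraMap K L)
  haveI : CharP (ResidueField A) p := (CharP.charP_iff_prime_eq_zero hp.out).2 (by
    rw [← map_natCast (residue A), CharP.cast_eq_zero, map_zero])
  haveI : CharP O p := (RingHom.charP_iff O.subtype Subtype.val_injective p).2 inferInstance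
  haveI : CharP (ResidueField O) p := (CharP.charP_iff_prime_eq_zero hp.out).2 (by
    rw [← map_natCast (residue O), CharP.cast_eq_zero, map_zero])
  haveI : CharP (ResidueField V) p :=
    charP_of_injective_algebraMap (algebraMap (ResidueField A) (ResidueField V)).injective p
  have hξ1 : V.valuation (algebraMap K L ξ) ≤ 1 := by
    rw [← hξ, ← IsScalarTower.algebraMap_apply]; exact (V.valuation_le_one_iff _).2 (hV.1 a)
  have hz1 := valuation_root_le_one hz hξ1
  let zV : V := ⟨z, (V.valuation_le_one_iff _).1 hz1⟩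
  let ξO : O := ⟨ξ, (V.valuation_le_one_iff _).1 hξ1⟩
  by_cases hroot : ∀ b : ResidueField O, b ^ p - b ≠ residue O ξO
  · have hlt : (X + C (residue O ξO) : (ResidueField O)[X]).degree < (p : WithBot ℕ) :=
      (degree_X_add_C _).trans_lt (by exact_mod_cast hp.out.one_lt)
    obtain ⟨-, -, hstr⟩ := inertial_structure hπ hdim hV zV _ (irreducible_X_pow_sub_X_sub_C hroot)
      (by rw [sub_sub]; exact monic_X_pow_sub hlt)
      (natDegree_eq_of_degree_eq_some (by
        rw [sub_sub, degree_sub_eq_left_of_degree_lt (by rwa [degree_X_pow]), degree_X_pow]))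
      (by
        rw [eval₂_sub, eval₂_sub, eval₂_X_pow, eval₂_X, eval₂_C, sub_eq_zero, eq_comm, ← map_pow, ← map_sub,
          residue_map_eq_iff]
        show V.valuation (algebraMap K L ξ - (z ^ p - z)) < 1
        rw [hz, sub_self, map_zero]; exact zero_lt_one)
    obtain ⟨hwu, -, hres⟩ := hstr
    refine ⟨hwu, ?_⟩
    have hsep : IsSeparable (ResidueField A) (residue V zV) := by
      refine (show (X ^ p - (X + C (residue A a)) : (ResidueField A)[X]).Separable from ⟨0, C (-1), by
        simp [derivative_X_pow, CharP.cast_eq_zero]⟩).of_dvd (minpoly.dvd _ _ ?_)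
      · simp only [map_sub, map_add, map_pow, aeval_X, aeval_C]
        rw [show algebraMap (ResidueField A) (ResidueField V) (residue A a) = residue V (algebraMap A V a) from rfl,
          ← map_pow, ← map_add, ← map_sub, residue_eq_zero_iff]
        rw [show zV ^ p - (zV + algebraMap A V a) = 0 from Subtype.ext (by
          show z ^ p - (z + algebraMap A L a) = 0
          rw [IsScalarTower.algebraMap_apply A K L, hξ, ← hz]; ring)]
        exact zero_mem _
    rw [← separableClosure.eq_top_iff, eq_top_iff]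
    intro x _
    obtain ⟨c, rfl⟩ := hres x
    exact sum_mem fun l _ => mul_mem (IntermediateField.algebraMap_mem _ _)
      (pow_mem (mem_separableClosure_iff.2 hsep) _)
  · push Not at hroot
    obtain ⟨b, hb⟩ := hroot
    have hclose := exists_close_of_residue_root hz hgen (fun v δ hv hδ => arch_of_dvr v δ hv hδ) hξ1 hb
    have hA : ∀ (y : L), y ≠ 0 → V.valuation y ≤ 1 → ∃ r : A, V.valuation (algebraMap A L r - y) < V.valuation y := by
      intro y hy hy1
      obtain ⟨f, hf⟩ := hclose y hy
      have hfv : V.valuation (algebraMap K L f) = V.valuation y := by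
        rw [show algebraMap K L f = y + (algebraMap K L f - y) by ring, V.valuation.map_add_eq_of_lt_left hf]
      obtain ⟨r, rfl⟩ := TotRam.exists_of_valuation_le hV f (hfv.trans_le hy1)
      exact ⟨r, by rwa [IsScalarTower.algebraMap_apply A K L]⟩
    refine ⟨?_, ?_⟩
    · show (maximalIdeal A).map (algebraMap A V) = maximalIdeal V
      refine le_antisymm (Ideal.map_le_iff_le_comap.2 fun r hr => map_nonunit _ r hr) fun y hy => ?_
      rcases eq_or_ne y 0 with rfl | hy0
      · exact zero_mem _
      have hy1 := (V.valuation_lt_one_iff y).1 hy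
      obtain ⟨r, hr⟩ := hA y (fun h => hy0 (Subtype.ext h)) hy1.le
      have hrv : V.valuation (algebraMap A L r) = V.valuation (y : L) := by
        rw [show algebraMap A L r = (y : L) + (algebraMap A L r - y) by ring, V.valuation.map_add_eq_of_lt_left hr]
      have hrm : r ∈ maximalIdeal A := by
        by_contra hu
        exact hy1.ne (hrv ▸ TotRam.valuation_unit V hV (notMem_maximalIdeal.1 hu))
      have hr0 : algebraMap A L r ≠ 0 := fun h => hy0 (Subtype.ext (by
        rw [h, map_zero, eq_comm, map_eq_zero] at hrv; exact hrv))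
      have hq : (y : L) / algebraMap A L r ∈ V := (V.valuation_le_one_iff _).1 (by
        rw [map_div₀, hrv, div_self ((_root_.map_ne_zero _).2 fun h => hy0 (Subtype.ext h))])
      rw [show y = (⟨_, hq⟩ : V) * algebraMap A V r from Subtype.ext (div_mul_cancel₀ _ hr0).symm]
      exact Ideal.mul_mem_left _ _ (Ideal.mem_map_of_mem _ hrm)
    · refine ⟨fun x => ?_⟩
      obtain ⟨y, rfl⟩ := residue_surjective x
      by_cases hy0 : y = 0
      · rw [hy0, map_zero]; exact (map_zero (algebraMap (ResidueField A) (ResidueField V))) ▸ isSeparable_algebraMap _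
      obtain ⟨r, hr⟩ := hA y (fun h => hy0 (Subtype.ext h)) ((V.valuation_le_one_iff _).2 y.2)
      rw [show residue V y = algebraMap (ResidueField A) (ResidueField V) (residue A r) from by
        rw [show algebraMap (ResidueField A) (ResidueField V) (residue A r) = residue V (algebraMap A V r) from rfl,
          eq_comm, ← sub_eq_zero, ← map_sub, residue_eq_zero_iff]
        exact (V.valuation_lt_one_iff _).2 (hr.trans_le ((V.valuation_le_one_iff _).2 y.2))]
      exact isSeparable_algebraMap _

/-- Every constant is equivalent to an integral one or one with a well-behaved pole. -/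
theorem exists_reduced_base {A K : Type u} [CommRing A] [IsDomain A] [IsDiscreteValuationRing A] [Field K]
    [Algebra A K] [IsFractionRing A K] {p : ℕ} [hp : Fact p.Prime] [CharP K p] {π : A} (hπ : Irreducible π) (ξ : K) :
    ∃ y ξ' : K, ξ = y ^ p - y + ξ' ∧ ((∃ a : A, algebraMap A K a = ξ') ∨
      (∃ (n : ℕ) (a : Aˣ), 0 < n ∧ ¬ p ∣ n ∧ ξ' * algebraMap A K π ^ n = algebraMap A K a) ∨
      ∃ (n : ℕ) (a : A), 0 < n ∧ p ∣ n ∧ (∀ r : A, residue A a ≠ residue A r ^ p) ∧
        ξ' * algebraMap A K π ^ n = algebraMap A K a) := by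
  classical
  have hπ0 : algebraMap A K π ≠ 0 := (map_ne_zero_iff _ (IsFractionRing.injective A K)).2 hπ.ne_zero
  suffices h : ∀ (n : ℕ) (ξ : K) (a : A), ξ * algebraMap A K π ^ n = algebraMap A K a → ∃ y ξ' : K,
      ξ = y ^ p - y + ξ' ∧ ((∃ a : A, algebraMap A K a = ξ') ∨
      (∃ (n : ℕ) (a : Aˣ), 0 < n ∧ ¬ p ∣ n ∧ ξ' * algebraMap A K π ^ n = algebraMap A K a) ∨
      ∃ (n : ℕ) (a : A), 0 < n ∧ p ∣ n ∧ (∀ r : A, residue A a ≠ residue A r ^ p) ∧
        ξ' * algebraMap A K π ^ n = algebraMap A K a) by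
    obtain ⟨a, b, hb, rfl⟩ := IsFractionRing.div_surjective (A := A) ξ
    obtain ⟨t, u, hu⟩ := IsDiscreteValuationRing.eq_unit_mul_pow_irreducible (nonZeroDivisors.ne_zero hb) hπ
    refine h t _ (a * ↑u⁻¹) ?_
    rw [hu, map_mul, map_mul, map_pow, map_units_inv]
    have hu0 : algebraMap A K (u : A) ≠ 0 := (u.isUnit.map (algebraMap A K)).ne_zero
    field_simp
  intro n
  induction n using Nat.strong_induction_on with
  | _ n ih =>
  intro ξ a hξ
  rcases n with _ | n
  · exact ⟨0, ξ, by rw [zero_pow hp.out.ne_zero, sub_zero, zero_add], Or.inl ⟨a, by rw [← hξ, pow_zero, mul_one]⟩⟩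
  have hdown : ∀ (ξ : K) (d : A), ξ * algebraMap A K π ^ (n + 1) = algebraMap A K (π * d) →
      ξ * algebraMap A K π ^ n = algebraMap A K d := fun ξ d h => mul_right_cancel₀ hπ0 (by
    rw [mul_assoc, ← pow_succ, h, map_mul, mul_comm])
  by_cases hu : IsUnit a
  swap
  · have hm : a ∈ maximalIdeal A := hu
    rw [hπ.maximalIdeal_eq, Ideal.mem_span_singleton] at hm
    obtain ⟨d, rfl⟩ := hm
    exact ih n n.lt_succ_self ξ d (hdown ξ d hξ)
  by_cases hdvd : p ∣ n + 1
  swap
  · exact ⟨0, ξ, by rw [zero_pow hp.out.ne_zero, sub_zero, zero_add],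
      Or.inr (Or.inl ⟨n + 1, hu.unit, n.succ_pos, hdvd, hξ⟩)⟩
  by_cases hr : ∀ r : A, residue A a ≠ residue A r ^ p
  · exact ⟨0, ξ, by rw [zero_pow hp.out.ne_zero, sub_zero, zero_add],
      Or.inr (Or.inr ⟨n + 1, a, n.succ_pos, hdvd, hr, hξ⟩)⟩
  push Not at hr
  obtain ⟨r, hr⟩ := hr
  rw [← map_pow, ← sub_eq_zero, ← map_sub, residue_eq_zero_iff, hπ.maximalIdeal_eq, Ideal.mem_span_singleton] at hr
  obtain ⟨d, hd⟩ := hr
  obtain ⟨e, he⟩ := hdvd
  have hem : e ≤ n := by
    have : 2 * e ≤ n + 1 := he ▸ Nat.mul_le_mul_right e hp.out.two_le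
    omega
  let y₀ := algebraMap A K r / algebraMap A K π ^ e
  obtain ⟨y, ξ', hy, hc⟩ := ih n n.lt_succ_self (ξ - (y₀ ^ p - y₀)) (d + r * π ^ (n - e)) (by
    refine hdown _ _ ?_
    rw [mul_add, ← hd, map_add, map_sub, ← hξ]
    simp only [y₀, map_mul, map_pow]
    rw [div_pow, ← pow_mul, mul_comm e p, ← he, show algebraMap A K π ^ (n + 1) =
      algebraMap A K π * algebraMap A K π ^ (n - e) * algebraMap A K π ^ e by
        rw [← pow_succ', ← pow_add]; congr 1; omega]
    field_simp
    ring)
  exact ⟨y + y₀, ξ', by rw [add_pow_char]; linear_combination hy, hc⟩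

end Groth.Agent.EtSol
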