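import Mathlib
import Groth.Prelude.Def_EtRam
import Groth.Agent.EtSol.RamCriterion
import Groth.Agent.EtSol.Close
import Groth.Agent.S7157

/-!
# The totally ramified extension used for degree `p` steps in characteristic `p`
-/

set_option autoImplicit false
set_option linter.all false
set_option maxHeartbeats 1000000

universe u

open IsLocalRing Polynomial

noncomputable section

namespace Groth.Agent.EtSol

/-- An element with `x ^ q = π + π ^ (n + 2) β` and its negative powers. -/
theorem root_facts {A N : Type u} [CommRing A] [IsLocalRing A] [Field N] [Algebra A N] {W : ValuationSubring N}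
    (hW : EtRam.Dominates A (algebraMap A N) W) {π : A} (hπ : π ∈ maximalIdeal A) (hπ0 : algebraMap A N π ≠ 0)
    {x β : N} {q n : ℕ} (hβ : W.valuation β ≤ 1) (hx : x ^ q = algebraMap A N π + algebraMap A N π ^ (n + 2) * β) :
    W.valuation x ^ q = W.valuation (algebraMap A N π) ∧
      ∀ j ≤ n, W.valuation (1 / algebraMap A N π ^ j - 1 / (x ^ q) ^ j) ≤ 1 := by
  set P := algebraMap A N π with hP
  set u := 1 + P ^ (n + 1) * β with hu
  have hPlt : W.valuation P < 1 := hW.2 π hπ
  have hd : W.valuation (P ^ (n + 1) * β) < 1 := by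
    rw [map_mul, map_pow]
    exact mul_lt_one_of_nonneg_of_lt_one_left zero_le (pow_lt_one₀ zero_le hPlt (by omega)) hβ
  have hu1 : W.valuation u = 1 := by rw [hu, W.valuation.map_add_eq_of_lt_left (by rwa [map_one]), map_one]
  have hu0 : u ≠ 0 := fun h => by rw [h, map_zero] at hu1; exact zero_ne_one hu1
  have hxu : x ^ q = P * u := by rw [hx, hu]; ring
  refine ⟨by rw [← map_pow, hxu, map_mul, hu1, mul_one], fun j hj => ?_⟩
  rw [hxu, mul_pow, show 1 / P ^ j - 1 / (P ^ j * u ^ j) = (u ^ j - 1) / (P ^ j * u ^ j) by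
    field_simp, map_div₀, map_mul, map_pow, map_pow, hu1, one_pow, mul_one]
  refine div_le_one_of_le₀ ?_ zero_le
  have h1 : W.valuation (u ^ j - 1) ≤ W.valuation (u - 1) := by
    rw [← geom_sum_mul, map_mul]
    exact mul_le_of_le_one_left zero_le (W.valuation.map_sum_le fun i _ => by rw [map_pow, hu1, one_pow])
  refine h1.trans ?_
  rw [hu, add_sub_cancel_left, map_mul, map_pow]
  exact (mul_le_of_le_one_right zero_le hβ).trans (pow_le_pow_of_le_one zero_le hPlt.le (by omega))

/-- Comparisons pass from a pulled back valuation ring. -/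
theorem valuation_le_of_comap {M N : Type u} [Field M] [Field N] (U : ValuationSubring N) (f : M →+* N) {a b : M}
    (h : (U.comap f).valuation a ≤ (U.comap f).valuation b) : U.valuation (f a) ≤ U.valuation (f b) := by
  rcases eq_or_ne b 0 with rfl | hb
  · rw [map_zero, le_zero_iff, map_eq_zero] at h
    rw [h]
  have h1 : a / b ∈ U.comap f := ((U.comap f).valuation_le_one_iff _).1 (by
    rw [map_div₀]; exact div_le_one_of_le₀ h zero_le)
  have h2 : U.valuation (f (a / b)) ≤ 1 := (U.valuation_le_one_iff _).2 h1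
  rw [map_div₀, map_div₀, div_le_one₀ (zero_lt_iff.2 ((_root_.map_ne_zero _).2 ((_root_.map_ne_zero _).2 hb)))] at h2
  exact h2

theorem valuation_eq_of_comap {M N : Type u} [Field M] [Field N] (U : ValuationSubring N) (f : M →+* N) {a b : M}
    (h : (U.comap f).valuation a = (U.comap f).valuation b) : U.valuation (f a) = U.valuation (f b) :=
  le_antisymm (valuation_le_of_comap U f h.le) (valuation_le_of_comap U f h.ge)

theorem dominates_comap' {A M N : Type u} [CommRing A] [IsLocalRing A] [Field M] [Field N] (U : ValuationSubring N)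
    (f : M →+* N) (g : A →+* M) (h : EtRam.Dominates A (f.comp g) U) : EtRam.Dominates A g (U.comap f) :=
  ⟨h.1, fun a ha => valuation_lt_one_of_mem (z := ⟨g a, h.1 a⟩)
    ((mem_maximalIdeal_comap U f ⟨g a, h.1 a⟩).2 (h.2 a ha))⟩

variable {A K : Type u} [CommRing A] [IsDomain A] [IsDiscreteValuationRing A] [Field K] [Algebra A K]
  [IsFractionRing A K] {π : A} (hπ : Irreducible π) {p : ℕ} [hp : Fact p.Prime] [CharP K p]

include hπ hp in
/-- Reduction of the pole of an Artin–Schreier constant in a totally ramified extension. -/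
theorem exists_reduced {Kq : Type u} [Field Kq] [Algebra K Kq] [Algebra A Kq] [IsScalarTower A K Kq]
    (hperf : ∀ a : A, ∃ r : A, a - r ^ p ∈ maximalIdeal A) {V : ValuationSubring Kq}
    (hV : EtRam.Dominates A (algebraMap A Kq) V) {x : Kq} {q : ℕ} (hq : 0 < q)
    (hx : V.valuation x ^ q = V.valuation (algebraMap A Kq π)) (hspan : ∀ y : Kq, ∃ r : Fin q → K, y = ∑ i, r i • x ^ (i : ℕ))
    (m : ℕ) : ∀ c : Kq, V.valuation c ≤ (V.valuation x)⁻¹ ^ m → ∃ y c' : Kq, c = y ^ p - y + c' ∧
      (V.valuation c' ≤ 1 ∨ ∃ n₀ : ℕ, ¬ p ∣ n₀ ∧ V.valuation c' = (V.valuation x)⁻¹ ^ n₀) := by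
  classical
  haveI : CharP Kq p := charP_of_injective_algebraMap (algebraMap K Kq).injective p
  set T := V.valuation x
  have hinj : Function.Injective (algebraMap A Kq) := by
    rw [IsScalarTower.algebraMap_eq A K Kq]
    exact (algebraMap K Kq).injective.comp (IsFractionRing.injective A K)
  have hT0 : T ≠ 0 := root_val_ne_zero hπ hV hq hx hinj
  have hT1 : T < 1 := root_lt_one hπ hV hq hx
  have hTpos : (0 : V.ValueGroup) < T := zero_lt_iff.2 hT0
  have hval : ∀ c : Kq, c ≠ 0 → ∃ l : ℤ, V.valuation c = T ^ l := fun c hc => by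
    obtain ⟨r, rfl⟩ := hspan c
    refine exists_valuation_sum hπ hV hq hx r ?_
    by_contra h
    push Not at h
    exact hc (Finset.sum_eq_zero fun i _ => by rw [h i, zero_smul])
  induction m using Nat.strong_induction_on with
  | _ m ih =>
  intro c hc
  rcases m with _ | m
  · exact ⟨0, c, by rw [zero_pow hp.out.ne_zero, sub_zero, zero_add], Or.inl (by simpa using hc)⟩
  by_cases hle : V.valuation c ≤ T⁻¹ ^ m
  · exact ih m (Nat.lt_succ_self m) c hle
  push Not at hle
  obtain ⟨l, hl⟩ := hval c (fun h => by rw [h, map_zero] at hle; exact not_lt_zero hle)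
  have hl' : V.valuation c = T⁻¹ ^ (m + 1) := by
    rw [hl] at hle hc ⊢
    rw [inv_pow, ← zpow_natCast, ← zpow_neg] at hle hc ⊢
    have h1 : l < -(m : ℤ) := (zpow_lt_zpow_iff_right_of_lt_one₀ hTpos hT1).1 hle
    have h2 : -((m + 1 : ℕ) : ℤ) ≤ l := (zpow_le_zpow_iff_right_of_lt_one₀ hTpos hT1).1 hc
    rw [show l = -((m + 1 : ℕ) : ℤ) by omega]
  by_cases hdvd : p ∣ m + 1
  swap
  · exact ⟨0, c, by rw [zero_pow hp.out.ne_zero, sub_zero, zero_add], Or.inr ⟨m + 1, hdvd, hl'⟩⟩
  obtain ⟨e, he⟩ := hdvd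
  have hu : V.valuation (c * x ^ (m + 1)) = 1 := by
    rw [map_mul, map_pow, hl', ← mul_pow, inv_mul_cancel₀ hT0, one_pow]
  obtain ⟨r₀, hr₀⟩ := hspan (c * x ^ (m + 1))
  obtain ⟨a, ha⟩ := exists_residue hπ hV hq hx r₀ (hr₀ ▸ (V.valuation_le_one_iff _).1 hu.le)
  rw [← hr₀] at ha
  obtain ⟨r, hr⟩ := hperf a
  have hdiff : V.valuation (c * x ^ (m + 1) - algebraMap A Kq r ^ p) < 1 := by
    rw [show c * x ^ (m + 1) - algebraMap A Kq r ^ p =
      (c * x ^ (m + 1) - algebraMap A Kq a) + algebraMap A Kq (a - r ^ p) by rw [map_sub, map_pow]; ring]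
    exact (V.valuation.map_add _ _).trans_lt (max_lt ha (hV.2 _ hr))
  have hdiff' : V.valuation (c * x ^ (m + 1) - algebraMap A Kq r ^ p) ≤ T := by
    rcases eq_or_ne (c * x ^ (m + 1) - algebraMap A Kq r ^ p) 0 with h0 | h0
    · rw [h0, map_zero]; exact zero_le
    obtain ⟨k, hk⟩ := hval _ h0
    rw [hk] at hdiff ⊢
    have h1 : (0 : ℤ) < k := (zpow_lt_zpow_iff_right_of_lt_one₀ hTpos hT1).1 (by rwa [zpow_zero])
    calc T ^ k ≤ T ^ (1 : ℤ) := (zpow_le_zpow_iff_right_of_lt_one₀ hTpos hT1).2 h1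
      _ = T := zpow_one T
  have hx0 : x ≠ 0 := root_ne_zero hπ hV hq hx hinj
  let y₀ := algebraMap A Kq r / x ^ e
  have hem : e ≤ m := by
    have : 2 * e ≤ m + 1 := he ▸ Nat.mul_le_mul_right e hp.out.two_le
    omega
  obtain ⟨y, c', hy, hc'⟩ := ih m (Nat.lt_succ_self m) (c - (y₀ ^ p - y₀)) (by
    have hy₀ : c - (y₀ ^ p - y₀) = (c * x ^ (m + 1) - algebraMap A Kq r ^ p) / x ^ (m + 1) + y₀ := by
      simp only [y₀]
      rw [div_pow, ← pow_mul, mul_comm e p, ← he]
      field_simp
      ring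
    rw [hy₀]
    refine (V.valuation.map_add _ _).trans (max_le ?_ ?_)
    · rw [map_div₀, map_pow, inv_pow, div_le_iff₀ (pow_pos hTpos _)]
      refine hdiff'.trans_eq ?_
      show T = (T ^ m)⁻¹ * T ^ (m + 1)
      rw [pow_succ, ← mul_assoc, inv_mul_cancel₀ (pow_ne_zero _ hT0), one_mul]
    · rw [map_div₀, map_pow, div_eq_mul_inv, ← inv_pow]
      exact (mul_le_of_le_one_left zero_le ((V.valuation_le_one_iff _).2 (hV.1 r))).trans
        (pow_le_pow_right₀ ((one_le_inv₀ hTpos).2 hT1.le) hem))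
  exact ⟨y + y₀, c', by rw [add_pow_char]; linear_combination hy, hc'⟩

include hπ hp in
/-- The extension killing the base part and extracting `p`-power roots of the uniformizer. -/
theorem exists_extension (hperf : ∀ a : A, ∃ r : A, a - r ^ p ∈ maximalIdeal A) (k n : ℕ) (a : A) :
    ∃ (K₁ : Type u) (_ : Field K₁) (_ : Algebra K K₁) (_ : Algebra A K₁) (_ : IsScalarTower A K K₁)
      (_ : FiniteDimensional K K₁) (_ : Algebra.IsSeparable K K₁) (Q : ℕ) (ω x y : K₁),
      0 < Q ∧ Module.finrank K K₁ ≤ Q ∧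
      ∀ V : ValuationSubring K₁, EtRam.Dominates A (algebraMap A K₁) V →
        V.valuation ω ^ Q = V.valuation (algebraMap A K₁ π) ∧
        V.valuation x ^ (p ^ k) = V.valuation (algebraMap A K₁ π) ∧
        (∀ j ≤ n, V.valuation (1 / algebraMap A K₁ π ^ j - 1 / (x ^ (p ^ k)) ^ j) ≤ 1) ∧
        V.valuation (algebraMap A K₁ a / algebraMap A K₁ π ^ n - (y ^ p - y)) ≤ 1 := by
  classical
  haveI : CharP A p := (RingHom.charP_iff (algebraMap A K) (IsFractionRing.injective A K) p).2 inferInstance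
  haveI : CharP (ResidueField A) p := (CharP.charP_iff_prime_eq_zero hp.out).2 (by
    rw [← map_natCast (residue A), CharP.cast_eq_zero, map_zero])
  obtain ⟨Kq, _, _, _, _, hdeg, hsep, htr, x, β, -, -, hβ, -, hxq, -⟩ := S7157.result p hp.out A K π
    ((IsDiscreteValuationRing.irreducible_iff_uniformizer π).1 hπ) (n + 2) (by omega) k
  haveI := hsep
  have hq : 0 < p ^ k := pow_pos hp.out.pos k
  haveI : FiniteDimensional K Kq := FiniteDimensional.of_finrank_pos (hdeg ▸ hq)
  haveI : CharP Kq p := charP_of_injective_algebraMap (algebraMap K Kq).injective p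
  have hinjq : Function.Injective (algebraMap A Kq) := by
    rw [IsScalarTower.algebraMap_eq A K Kq]
    exact (algebraMap K Kq).injective.comp (IsFractionRing.injective A K)
  have hπq : algebraMap A Kq π ≠ 0 := (map_ne_zero_iff _ hinjq).2 hπ.ne_zero
  have hfacts := fun (W : ValuationSubring Kq) (hW : EtRam.Dominates A (algebraMap A Kq) W) =>
    root_facts hW (π := π) hπ.not_isUnit hπq (n := n)
      ((W.valuation_le_one_iff β).2 (TotRam.mem_of_isIntegral W hW hβ)) hxq
  obtain ⟨-, -, hspan⟩ := totallyRamified_of_root (K := K) hπ hq hdeg.le fun W hW => (hfacts W hW).1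
  obtain ⟨⟨V, hV⟩, huniq, -⟩ := htr
  set c := algebraMap A Kq a / algebraMap A Kq π ^ n with hcdef
  have hcle : V.valuation c ≤ (V.valuation x)⁻¹ ^ (p ^ k * n) := by
    rw [hcdef, map_div₀, map_pow, pow_mul, inv_pow, (hfacts V hV).1, inv_pow, div_eq_mul_inv]
    exact mul_le_of_le_one_left zero_le ((V.valuation_le_one_iff _).2 (hV.1 a))
  obtain ⟨y, c', hy, hc'⟩ := exists_reduced hπ hperf hV hq (hfacts V hV).1 hspan _ c hcle
  rcases hc' with hc' | ⟨n₀, hn₀, hc'⟩
  · refine ⟨Kq, inferInstance, inferInstance, inferInstance, inferInstance, inferInstance, hsep, p ^ k, x, x, y,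
      hq, hdeg.le, fun W hW => ⟨(hfacts W hW).1, (hfacts W hW).1, (hfacts W hW).2, ?_⟩⟩
    rw [huniq W V hW hV, ← hcdef, hy, add_sub_cancel_left]
    exact hc'
  -- the Artin–Schreier extension
  let f : Kq[X] := X ^ p - (X + C c')
  have hlt : (X + C c' : Kq[X]).degree < (p : WithBot ℕ) :=
    (degree_X_add_C c').trans_lt (by exact_mod_cast hp.out.one_lt)
  have hfm : f.Monic := monic_X_pow_sub hlt
  have hfd : f.degree = p := by
    rw [degree_sub_eq_left_of_degree_lt (by rwa [degree_X_pow]), degree_X_pow]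
  obtain ⟨v, hv⟩ := IsAlgClosed.exists_aeval_eq_zero (AlgebraicClosure Kq) f (by
    rw [hfd]; exact_mod_cast hp.out.ne_zero)
  have hfs : f.Separable := ⟨0, C (-1), by
    simp [f, derivative_X_pow, CharP.cast_eq_zero]⟩
  let K₁ := IntermediateField.adjoin Kq ({v} : Set (AlgebraicClosure Kq))
  haveI : FiniteDimensional Kq K₁ := IntermediateField.adjoin.finiteDimensional (Algebra.IsIntegral.isIntegral v)
  haveI : Algebra.IsSeparable Kq K₁ := (IntermediateField.isSeparable_adjoin_simple_iff_isSeparable _ _).2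
    (hfs.of_dvd (minpoly.dvd Kq v hv))
  have hdim₁ : Module.finrank Kq K₁ ≤ p := by
    show Module.finrank Kq (IntermediateField.adjoin Kq ({v} : Set (AlgebraicClosure Kq))) ≤ p
    rw [IntermediateField.adjoin.finrank (Algebra.IsIntegral.isIntegral v)]
    exact (natDegree_le_natDegree (minpoly.min Kq v hfm hv)).trans_eq (natDegree_eq_of_degree_eq_some hfd)
  haveI : Algebra.IsSeparable K K₁ := Algebra.IsSeparable.trans K Kq K₁
  haveI : FiniteDimensional K K₁ := Module.Finite.trans Kq K₁
  letI : Algebra A K₁ := ((algebraMap Kq K₁).comp (algebraMap A Kq)).toAlgebra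
  haveI : IsScalarTower A Kq K₁ := IsScalarTower.of_algebraMap_eq fun _ => rfl
  haveI : IsScalarTower A K K₁ := IsScalarTower.of_algebraMap_eq fun r => by
    rw [IsScalarTower.algebraMap_apply A Kq K₁, IsScalarTower.algebraMap_apply A K Kq,
      ← IsScalarTower.algebraMap_apply K Kq K₁]
  let vg : K₁ := IntermediateField.AdjoinSimple.gen Kq v
  have hvg : vg ^ p - vg = algebraMap Kq K₁ c' := by
    apply Subtype.ext
    have h := hv
    simp only [f, map_sub, map_add, map_pow, aeval_X, aeval_C] at h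
    show v ^ p - v = algebraMap Kq (AlgebraicClosure Kq) c'
    linear_combination h
  obtain ⟨w, -, hw⟩ : ∃ w < p, n₀ * w % p = 1 :=
    Nat.exists_mul_mod_eq_one_of_coprime ((hp.out.coprime_iff_not_dvd.2 hn₀).symm) hp.out.one_lt
  refine ⟨K₁, inferInstance, inferInstance, inferInstance, inferInstance, inferInstance, inferInstance, p ^ k * p,
    (vg ^ w * algebraMap Kq K₁ x ^ (n₀ * w / p))⁻¹, algebraMap Kq K₁ x, algebraMap Kq K₁ y + vg,
    Nat.mul_pos hq hp.out.pos, ?_, fun W hW => ?_⟩
  · rw [← Module.finrank_mul_finrank K Kq K₁, hdeg]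
    exact Nat.mul_le_mul_left _ hdim₁
  have hWq : EtRam.Dominates A (algebraMap A Kq) (W.comap (algebraMap Kq K₁)) :=
    dominates_comap' W (algebraMap Kq K₁) _ hW
  have hxv : W.valuation (algebraMap Kq K₁ x) ^ (p ^ k) = W.valuation (algebraMap A K₁ π) := by
    have := valuation_eq_of_comap W (algebraMap Kq K₁) (a := x ^ (p ^ k)) (b := algebraMap A Kq π)
      (by rw [map_pow]; exact (hfacts _ hWq).1)
    rwa [map_pow, map_pow] at this
  refine ⟨?_, hxv, fun j hj => ?_, ?_⟩
  · have hc1 : W.valuation (algebraMap Kq K₁ c') = (W.valuation (algebraMap Kq K₁ x))⁻¹ ^ n₀ := by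
      have := valuation_eq_of_comap W (algebraMap Kq K₁) (a := c') (b := x⁻¹ ^ n₀) (by
        rw [map_pow, map_inv₀, huniq _ V hWq hV]; exact hc')
      rwa [map_pow, map_pow, map_inv₀, map_inv₀] at this
    set T := W.valuation (algebraMap Kq K₁ x) with hTdef
    have hT0 : T ≠ 0 := fun h => by
      rw [h, zero_pow hq.ne', eq_comm, map_eq_zero] at hxv
      exact hπq ((map_eq_zero (algebraMap Kq K₁)).1 hxv)
    have hT1 : T < 1 := by
      by_contra h
      exact (hW.2 π hπ.not_isUnit).not_ge (hxv ▸ one_le_pow₀ (not_lt.1 h))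
    have hn₀0 : n₀ ≠ 0 := fun h => hn₀ (h ▸ dvd_zero p)
    have hvp : W.valuation vg ^ p = T⁻¹ ^ n₀ := by
      have h1 : 1 < W.valuation (algebraMap Kq K₁ c') := by
        rw [hc1]; exact one_lt_pow₀ ((one_lt_inv₀ (zero_lt_iff.2 hT0)).2 hT1) hn₀0
      have hgt : 1 < W.valuation vg := by
        by_contra hle
        push Not at hle
        refine h1.not_ge ?_
        rw [← hvg]
        exact (W.valuation.map_sub _ _).trans (max_le (by rw [map_pow]; exact pow_le_one₀ zero_le hle) hle)
      rw [← hc1, ← hvg, ← map_pow, W.valuation.map_sub_eq_of_lt_left]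
      rw [map_pow]
      exact lt_self_pow₀ hgt hp.out.one_lt
    rw [← hxv, map_inv₀, map_mul, map_pow, map_pow, mul_comm (p ^ k), pow_mul, ← hTdef]
    congr 1
    rw [inv_pow, mul_pow, ← pow_mul, mul_comm w p, pow_mul, hvp, ← pow_mul, inv_pow, ← pow_mul]
    have hdiv := Nat.mod_add_div (n₀ * w) p
    rw [hw] at hdiv
    have hexp : T ^ (n₀ * w) = T * T ^ (n₀ * w / p * p) := by
      rw [← pow_succ']; congr 1; rw [mul_comm (n₀ * w / p) p]; omega
    rw [hexp, mul_inv_rev, inv_inv]
    field_simp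
  · have := valuation_le_of_comap W (algebraMap Kq K₁)
      (a := 1 / algebraMap A Kq π ^ j - 1 / (x ^ p ^ k) ^ j) (b := 1) (by rw [map_one]; exact (hfacts _ hWq).2 j hj)
    rw [map_one, map_one, map_sub, map_div₀, map_div₀, map_one, map_pow, map_pow, map_pow] at this
    exact this
  · have : algebraMap A K₁ a / algebraMap A K₁ π ^ n = algebraMap Kq K₁ c := by
      rw [hcdef, map_div₀, map_pow]; rfl
    have e : algebraMap A K₁ a / algebraMap A K₁ π ^ n -
        ((algebraMap Kq K₁ y + vg) ^ p - (algebraMap Kq K₁ y + vg)) = 0 := by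
      haveI hchar : CharP K₁ p := charP_of_injective_algebraMap (algebraMap Kq K₁).injective p
      rw [this, hy, add_pow_char]
      simp only [map_add, map_sub, map_pow]
      rw [← hvg]
      ring
    rw [e, map_zero]
    exact zero_le

end Groth.Agent.EtSol
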