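import Mathlib
import Groth.Prelude.Def_EtRam
import Groth.Agent.EtSol.ASCases

/-!
# The Artin–Schreier trichotomy
-/

set_option autoImplicit false
set_option linter.all false
set_option maxHeartbeats 1000000

universe u

open IsLocalRing Polynomial

noncomputable section

namespace Groth.Agent.EtSol

theorem artinSchreier_cases (p : ℕ) (hp : p.Prime) (A K L : Type u) [CommRing A] [IsDomain A]
    [IsDiscreteValuationRing A] [Field K] [Algebra A K] [IsFractionRing A K] [Field L] [Algebra K L] [Algebra A L]
    [IsScalarTower A K L] [CharP K p] (π : A) (hπ : IsLocalRing.maximalIdeal A = Ideal.span {π})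
    (ξ : K) (z : L) (hz : z ^ p - z = algebraMap K L ξ) (hgen : IntermediateField.adjoin K {z} = ⊤) :
    let g : A →+* L := algebraMap A L
    let case1 : Prop := Module.finrank K L = 1
    let case2 : Prop := EtRam.IsUnramifiedExt A g ∧ Module.finrank K L = p
    let case3 : Prop := EtRam.IsTotallyRamified A g ∧ Module.finrank K L = p
    let case4 : Prop := (∃ V : ValuationSubring L, EtRam.Dominates A g V) ∧
      (∀ V V' : ValuationSubring L, EtRam.Dominates A g V → EtRam.Dominates A g V' → V = V') ∧
      ∀ (V : ValuationSubring L) (h : EtRam.Dominates A g V),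
        letI : Algebra A V := (RingHom.codRestrict g V h.1).toAlgebra
        ∀ [IsLocalHom (algebraMap A V)],
          EtRam.IsWeaklyUnramified A V ∧
            IsPurelyInseparable (IsLocalRing.ResidueField A) (IsLocalRing.ResidueField V) ∧
            Module.finrank (IsLocalRing.ResidueField A) (IsLocalRing.ResidueField V) = p
    IsGalois K L ∧ (case1 ∨ case2 ∨ case3 ∨ case4) ∧
      ((∃ a : A, algebraMap A K a = ξ) → case1 ∨ case2) ∧
      (∀ (n : ℕ) (a : Aˣ), 0 < n → ¬ p ∣ n → ξ * algebraMap A K π ^ n = algebraMap A K a → case3) ∧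
      (∀ (n : ℕ) (a : A), 0 < n → p ∣ n → (∀ r : A, IsLocalRing.residue A a ≠ IsLocalRing.residue A r ^ p) →
          ξ * algebraMap A K π ^ n = algebraMap A K a → case4) := by
  classical
  haveI := Fact.mk hp
  intro g case1 case2 case3 case4
  have hπi : Irreducible π := (IsDiscreteValuationRing.irreducible_iff_uniformizer π).2 hπ
  haveI : CharP L p := charP_of_injective_algebraMap (algebraMap K L).injective p
  let f : K[X] := X ^ p - (X + C ξ)
  have hlt : (X + C ξ : K[X]).degree < (p : WithBot ℕ) := (degree_X_add_C ξ).trans_lt (by exact_mod_cast hp.one_lt)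
  have hfm : f.Monic := monic_X_pow_sub hlt
  have hfn : f.natDegree = p := natDegree_eq_of_degree_eq_some (by
    rw [degree_sub_eq_left_of_degree_lt (by rwa [degree_X_pow]), degree_X_pow])
  have hfs : f.Separable := ⟨0, C (-1), by simp [f, derivative_X_pow, CharP.cast_eq_zero]⟩
  have hfz : ∀ i : ℕ, aeval (z + (i : L)) f = 0 := fun i => by
    simp only [f, map_sub, map_add, map_pow, aeval_X, aeval_C]
    rw [add_pow_char, ← hz, show ((i : L)) ^ p = (i : L) from by rw [← frobenius_def, map_natCast]]
    ring
  have hint : IsIntegral K z := ⟨f, hfm, by simpa [← aeval_def] using hfz 0⟩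
  haveI : FiniteDimensional K L := by
    haveI := IntermediateField.adjoin.finiteDimensional hint
    exact ((IntermediateField.equivOfEq hgen).trans IntermediateField.topEquiv).toLinearEquiv.finiteDimensional
  have hspan : ∀ (w : L) (η : K), w ^ p - w = algebraMap K L η → (∃ y : K, z = w + algebraMap K L y) →
      ∀ v : L, ∃ u : Fin p → K, v = ∑ i, algebraMap K L (u i) * w ^ (i : ℕ) := by
    rintro w η hw ⟨y, rfl⟩ v
    have h : v ∈ (IntermediateField.adjoin K {w + algebraMap K L y}).toSubalgebra := by rw [hgen]; trivial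
    rw [IntermediateField.adjoin_simple_toSubalgebra_of_isAlgebraic (Algebra.IsAlgebraic.isAlgebraic _),
      Algebra.adjoin_singleton_eq_range_aeval] at h
    obtain ⟨P, rfl⟩ := h
    have hlt' : (X + C η : K[X]).degree < (p : WithBot ℕ) := (degree_X_add_C η).trans_lt (by exact_mod_cast hp.one_lt)
    obtain ⟨u, hu⟩ := exists_coeff_fin (algebraMap K L) (X ^ p - (X + C η)) (monic_X_pow_sub hlt') p hp.pos
      (natDegree_eq_of_degree_eq_some (by rw [degree_sub_eq_left_of_degree_lt (by rwa [degree_X_pow]), degree_X_pow]))
      w (by rw [eval₂_sub, eval₂_X_pow, eval₂_add, eval₂_X, eval₂_C]; linear_combination hw) (P.comp (X + C y))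
    refine ⟨u, ?_⟩
    rw [← hu, eval₂_comp, eval₂_add, eval₂_X, eval₂_C]
    rfl
  have hfr : Module.finrank K L = (minpoly K z).natDegree := by
    rw [← IntermediateField.adjoin.finrank hint, hgen, IntermediateField.finrank_top']
  have hdim : Module.finrank K L ≤ p := by
    rw [hfr]
    exact (natDegree_le_natDegree (minpoly.min K z hfm (by simpa using hfz 0))).trans_eq hfn
  have h01 : Module.finrank K L = 1 ∨ Module.finrank K L = p := by
    by_cases h : ∀ e : K, e ^ p - e ≠ ξ
    · right
      have hirr : Irreducible f := by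
        simp only [f]; rw [← sub_sub]; exact irreducible_X_pow_sub_X_sub_C h
      rw [hfr, ← minpoly.eq_of_irreducible_of_monic hirr (by simpa using hfz 0) hfm, hfn]
    · left
      push Not at h
      obtain ⟨e, he⟩ := h
      have hfix : (z - algebraMap K L e) ^ p = z - algebraMap K L e := by
        rw [sub_pow_char, ← map_pow, ← sub_eq_zero]
        rw [← he, map_sub] at hz
        linear_combination hz
      obtain ⟨t, ht⟩ : z - algebraMap K L e ∈ (algebraMap K L).fieldRange :=
        (bot_le : (⊥ : Subfield L) ≤ _) ((Subfield.mem_bot_iff_pow_eq_self L p).2 hfix)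
      rw [hfr, minpoly.natDegree_eq_one_iff]
      exact ⟨t + e, by rw [map_add, ht, sub_add_cancel]⟩
  have hA : ∀ (η : K) (w : L), w ^ p - w = algebraMap K L η → (∃ y : K, z = w + algebraMap K L y) →
      (∃ a : A, algebraMap A K a = η) → case1 ∨ case2 := fun η w hw hy ⟨a, ha⟩ =>
    h01.imp id fun h => ⟨unramified_case hπi hw (hspan w η hw hy) hdim a ha h, h⟩
  have hz0 : ∃ y : K, z = z + algebraMap K L y := ⟨0, by rw [map_zero, add_zero]⟩
  refine ⟨?_, ?_, fun h => hA ξ z hz hz0 h,
    fun n a hn hpn ha => totallyRamified_case hπi hz hdim n a hn hpn ha,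
    fun n a hn hpn hr ha => inseparable_case hπi hz hdim n a hn hpn hr ha⟩
  · haveI : Polynomial.IsSplittingField K L f := by
      refine ⟨?_, ?_⟩
      · rw [splits_iff_card_roots, hfm.natDegree_map, hfn]
        refine le_antisymm ((card_roots' _).trans_eq (by rw [hfm.natDegree_map, hfn])) ?_
        have hnd : ((Multiset.range p).map fun i : ℕ => z + (i : L)).Nodup :=
          Multiset.Nodup.map_on (fun i hi j hj h => CharP.natCast_injOn_Iio L p
            (Multiset.mem_range.1 hi) (Multiset.mem_range.1 hj) (add_left_cancel h)) (Multiset.nodup_range p)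
        have hsub : ((Multiset.range p).map fun i : ℕ => z + (i : L)) ≤ (f.map (algebraMap K L)).roots := by
          refine (Multiset.le_iff_subset hnd).2 fun x hx => ?_
          obtain ⟨i, -, rfl⟩ := Multiset.mem_map.1 hx
          rw [mem_roots (hfm.map _).ne_zero, IsRoot.def, eval_map, ← aeval_def]
          exact hfz i
        simpa using Multiset.card_le_card hsub
      · have htop : Algebra.adjoin K {z} = ⊤ := by
          rw [← IntermediateField.adjoin_simple_toSubalgebra_of_isAlgebraic (Algebra.IsAlgebraic.isAlgebraic z), hgen]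
          rfl
        refine top_le_iff.1 (htop ▸ Algebra.adjoin_mono (Set.singleton_subset_iff.2 ?_))
        rw [mem_rootSet_of_ne hfm.ne_zero]
        simpa using hfz 0
    exact IsGalois.of_separable_splitting_field hfs
  · obtain ⟨y, ξ', hξ, hcases⟩ := exists_reduced_base (p := p) hπi ξ
    have hw : (z - algebraMap K L y) ^ p - (z - algebraMap K L y) = algebraMap K L ξ' := by
      rw [sub_pow_char, ← map_pow]
      have h := hz
      rw [hξ, map_add, map_sub] at h
      linear_combination h
    rcases hcases with hc | ⟨n, a, hn, hpn, ha⟩ | ⟨n, a, hn, hpn, hr, ha⟩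
    · exact (hA ξ' _ hw ⟨y, (sub_add_cancel z _).symm⟩ hc).imp id Or.inl
    · exact Or.inr (Or.inr (Or.inl (totallyRamified_case hπi hw hdim n a hn hpn ha)))
    · exact Or.inr (Or.inr (Or.inr (inseparable_case hπi hw hdim n a hn hpn hr ha)))

end Groth.Agent.EtSol
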