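import Mathlib
import Groth.Agent.S7150

/-!
# A normal form for Artin–Schreier constants over a weakly unramified extension
-/

set_option autoImplicit false
set_option linter.all false
set_option maxHeartbeats 800000

universe u

open IsLocalRing Polynomial

noncomputable section

namespace Groth.Agent.EtSol

variable {A B : Type u} [CommRing A] [IsDomain A] [IsDiscreteValuationRing A] [CommRing B] [IsDomain B]
  [IsDiscreteValuationRing B] [Algebra A B] [IsLocalHom (algebraMap A B)] {p : ℕ}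

/-- The residue field of the smaller ring is perfect if it is the set of infinitely `p`-divisible elements. -/
theorem exists_root_residue (hp : p.Prime) [CharP (ResidueField B) p]
    (hk : ∀ x : ResidueField B, (∀ n : ℕ, ∃ y : ResidueField B, y ^ (p ^ n) = x) ↔
      x ∈ Set.range (algebraMap (ResidueField A) (ResidueField B))) (a : A) : ∃ r : A, a - r ^ p ∈ maximalIdeal A := by
  haveI := Fact.mk hp
  have hall := (hk (algebraMap (ResidueField A) (ResidueField B) (residue A a))).2 ⟨_, rfl⟩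
  obtain ⟨z, hz⟩ := hall 1
  rw [pow_one] at hz
  obtain ⟨r', hr'⟩ := (hk z).1 fun n => by
    obtain ⟨y, hy⟩ := hall (n + 1)
    refine ⟨y, frobenius_inj (ResidueField B) p ?_⟩
    show (y ^ p ^ n) ^ p = z ^ p
    rw [← pow_mul, ← pow_succ, hy, hz]
  obtain ⟨r, rfl⟩ := residue_surjective r'
  refine ⟨r, ?_⟩
  rw [← residue_eq_zero_iff, map_sub, map_pow, sub_eq_zero]
  refine (algebraMap (ResidueField A) (ResidueField B)).injective ?_
  rw [map_pow, hr', hz]

variable {K L : Type u} [Field K] [Field L] [Algebra A K] [Algebra B L] [IsFractionRing B L] [Algebra K L]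
  [Algebra A L] [IsScalarTower A K L] [IsScalarTower A B L]

theorem exists_normalForm (hp : p.Prime) [CharP B p] {π : A} (hπ : Irreducible (algebraMap A B π))
    (hk : ∀ x : ResidueField B, (∀ n : ℕ, ∃ y : ResidueField B, y ^ (p ^ n) = x) ↔
      x ∈ Set.range (algebraMap (ResidueField A) (ResidueField B))) (ξ : L) :
    ∃ (n : ℕ) (y : L) (a : A) (b : B) (J : Finset ℕ) (g : ℕ → B) (h : ℕ → ℕ),
      ξ = y ^ p - y + algebraMap K L (algebraMap A K a / algebraMap A K π ^ n) + algebraMap B L b +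
        ∑ j ∈ J, algebraMap B L (g j) ^ p ^ h j / algebraMap A L π ^ j ∧
      (∀ j ∈ J, 1 ≤ j ∧ j ≤ n ∧ ∀ e : B, g j - e ^ p ∉ maximalIdeal B) ∧
      ∀ j ∈ J, ∀ j' ∈ J, j * p ^ h j' = j' * p ^ h j → j = j' := by
  classical
  haveI := Fact.mk hp
  haveI : CharP (ResidueField B) p := (CharP.charP_iff_prime_eq_zero hp).2 (by
    rw [← map_natCast (residue B), CharP.cast_eq_zero, map_zero])
  set P := algebraMap A B π with hPdef
  have hPL : algebraMap A L π = algebraMap B L P := IsScalarTower.algebraMap_apply A B L π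
  have hP0 : algebraMap B L P ≠ 0 := (map_ne_zero_iff _ (IsFractionRing.injective B L)).2 hπ.ne_zero
  clear_value P
  obtain ⟨n, x, hn, hx⟩ : ∃ (n : ℕ) (x : B), 1 ≤ n ∧ ξ = algebraMap B L x / algebraMap B L P ^ n := by
    obtain ⟨a, b, hb, rfl⟩ := IsFractionRing.div_surjective (A := B) ξ
    obtain ⟨t, u, hu⟩ := IsDiscreteValuationRing.eq_unit_mul_pow_irreducible (nonZeroDivisors.ne_zero hb) hπ
    refine ⟨t + 1, a * ↑u⁻¹ * P, Nat.le_add_left 1 t, ?_⟩
    have hu0 : algebraMap B L (u : B) ≠ 0 := (u.isUnit.map (algebraMap B L)).ne_zero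
    rw [hu, map_mul, map_mul, map_mul, map_pow, map_units_inv, pow_succ]
    field_simp
  -- a multiplicative and additive section modulo `P ^ n`
  let I : Ideal B := maximalIdeal B ^ n
  have hImem : ∀ b : B, b ∈ I ↔ P ^ n ∣ b := fun b => by
    show b ∈ maximalIdeal B ^ n ↔ _
    rw [hπ.maximalIdeal_eq, Ideal.span_singleton_pow, Ideal.mem_span_singleton]
  have hItop : I ≠ ⊤ := fun htop => (maximalIdeal.isMaximal B).ne_top
    (top_le_iff.1 (htop ▸ Ideal.pow_le_self (by omega)))
  haveI : Nontrivial (B ⧸ I) := Ideal.Quotient.nontrivial_iff.2 hItop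
  haveI : IsLocalRing (B ⧸ I) := IsLocalRing.of_surjective' (Ideal.Quotient.mk I) Ideal.Quotient.mk_surjective
  haveI : IsLocalHom (Ideal.Quotient.mk I) := IsLocalHom.of_surjective _ Ideal.Quotient.mk_surjective
  haveI : CharP (B ⧸ I) p := (CharP.charP_iff_prime_eq_zero hp).2 (by
    rw [← map_natCast (Ideal.Quotient.mk I), CharP.cast_eq_zero, map_zero])
  obtain ⟨⟨σ, hσ⟩, -⟩ := S7150.result p hp (B ⧸ I) ⟨n, by
    rw [← IsLocalRing.map_maximalIdeal_of_surjective (Ideal.Quotient.mk I) Ideal.Quotient.mk_surjective,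
      ← Ideal.map_pow, Ideal.map_quotient_self]⟩
  let ρ : ResidueField B →+* ResidueField (B ⧸ I) := ResidueField.map (Ideal.Quotient.mk I)
  choose s hs using fun β : ResidueField B => Ideal.Quotient.mk_surjective (σ (ρ β))
  have hsres : ∀ β, residue B (s β) = β := fun β => ρ.injective (by
    show ρ (residue B (s β)) = _
    rw [ResidueField.map_residue, hs]
    exact RingHom.congr_fun hσ (ρ β))
  have hI : ∀ a b : B, Ideal.Quotient.mk I a = Ideal.Quotient.mk I b →
      ∃ e, a = b + P ^ n * e := fun a b hab => by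
    obtain ⟨e, he⟩ := (hImem _).1 (Ideal.Quotient.eq.1 hab)
    exact ⟨e, by linear_combination he⟩
  -- digits
  have hdig : ∀ k, ∃ (b : ℕ → ResidueField B) (r : B), x = (∑ l ∈ Finset.range k, s (b l) * P ^ l) + P ^ k * r := by
    intro k
    induction k with
    | zero => exact ⟨fun _ => 0, x, by simp⟩
    | succ k ih =>
      obtain ⟨b, r, hr⟩ := ih
      have hmem : r - s (residue B r) ∈ maximalIdeal B := by
        rw [← residue_eq_zero_iff, map_sub, hsres, sub_self]
      rw [hπ.maximalIdeal_eq, Ideal.mem_span_singleton] at hmem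
      obtain ⟨r', hr'⟩ := hmem
      refine ⟨Function.update b k (residue B r), r', ?_⟩
      rw [Finset.sum_range_succ, Function.update_self,
        Finset.sum_congr rfl fun l hl => by rw [Function.update_of_ne (Finset.mem_range.1 hl).ne]]
      rw [hr]
      linear_combination P ^ k * hr'
  let term : ResidueField B → ℕ → L := fun β i => algebraMap B L (s β) / algebraMap B L P ^ i
  -- moving the digits up
  have hint : ∀ (e : B) (i : ℕ), i ≤ n → ∃ e' : B, algebraMap B L (P ^ n * e) / algebraMap B L P ^ i = algebraMap B L e' :=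
    fun e i hi => ⟨P ^ (n - i) * e, by
      rw [div_eq_iff (pow_ne_zero _ hP0), ← map_pow, ← map_mul, show P ^ n = P ^ (n - i) * P ^ i by
        rw [← pow_add, Nat.sub_add_cancel hi]]
      congr 1
      ring⟩
  have hrep : ∀ k, ∃ (y : L) (b : B) (β : ℕ → ResidueField B),
      ξ = y ^ p - y + algebraMap B L b + ∑ i ∈ Finset.Icc 1 n, term (β i) i ∧
      ∀ i, β i ≠ 0 → k < i ∨ n < p * i := by
    intro k
    induction k with
    | zero =>
      obtain ⟨b, r, hr⟩ := hdig n
      refine ⟨0, r, fun i => if i = 0 then 0 else b (n - i), ?_, fun i hi => Or.inl (Nat.pos_of_ne_zero fun h0 => hi (if_pos h0))⟩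
      rw [zero_pow hp.ne_zero, sub_zero, zero_add, hx, hr, map_add, map_mul, map_pow, add_div, mul_div_assoc,
        mul_comm (algebraMap B L P ^ n), div_mul_cancel₀ _ (pow_ne_zero _ hP0), add_comm, map_sum, Finset.sum_div]
      congr 1
      refine Finset.sum_bij' (fun l _ => n - l) (fun i _ => n - i) ?_ ?_ ?_ ?_ ?_
      · intro l hl; rw [Finset.mem_range] at hl; rw [Finset.mem_Icc]; omega
      · intro i hi; rw [Finset.mem_Icc] at hi; rw [Finset.mem_range]; omega
      · intro l hl; rw [Finset.mem_range] at hl; omega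
      · intro i hi; rw [Finset.mem_Icc] at hi; omega
      · intro l hl
        rw [Finset.mem_range] at hl
        show _ = term (if n - l = 0 then 0 else b (n - (n - l))) (n - l)
        rw [if_neg (by omega), show n - (n - l) = l by omega]
        simp only [term]
        rw [map_mul, map_pow, div_eq_div_iff (pow_ne_zero _ hP0) (pow_ne_zero _ hP0),
          show algebraMap B L P ^ n = algebraMap B L P ^ l * algebraMap B L P ^ (n - l) by
            rw [← pow_add, Nat.add_sub_cancel' hl.le]]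
        ring
    | succ k ih =>
      obtain ⟨y, b, β, hξ, hsupp⟩ := ih
      by_cases hcase : p * (k + 1) ≤ n
      swap
      · refine ⟨y, b, β, hξ, fun i hi => ?_⟩
        rcases hsupp i hi with h | h
        · rcases (Nat.succ_le_iff.2 h).eq_or_lt with h' | h'
          · right; rw [← h']; simp only [Nat.succ_eq_add_one]; omega
          · exact Or.inl h'
        · exact Or.inr h
      set i₀ := k + 1
      have hi₀ : i₀ < p * i₀ := lt_mul_of_one_lt_left (by omega) hp.one_lt
      obtain ⟨e₁, he₁⟩ := hI (s (β (p * i₀) + β i₀ ^ p)) (s (β (p * i₀)) + s (β i₀) ^ p) (by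
        simp only [map_add, map_pow, hs])
      obtain ⟨e₂, he₂⟩ := hI (s 0) 0 (by rw [hs, map_zero, map_zero, map_zero])
      obtain ⟨e₁', he₁'⟩ := hint e₁ (p * i₀) hcase
      obtain ⟨e₂', he₂'⟩ := hint e₂ i₀ (by omega)
      let β' := Function.update (Function.update β (p * i₀) (β (p * i₀) + β i₀ ^ p)) i₀ 0
      refine ⟨y - term (β i₀) i₀, b - e₁' - e₂', β', ?_, fun i hi => ?_⟩
      · rw [hξ]
        have hmem1 : i₀ ∈ Finset.Icc 1 n := Finset.mem_Icc.2 ⟨by omega, by omega⟩
        have hmem2 : p * i₀ ∈ (Finset.Icc 1 n).erase i₀ :=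
          Finset.mem_erase.2 ⟨hi₀.ne', Finset.mem_Icc.2 ⟨by omega, hcase⟩⟩
        haveI : CharP L p := charP_of_injective_ringHom (IsFractionRing.injective B L) p
        have hsum : ∀ β : ℕ → ResidueField B, ∑ i ∈ Finset.Icc 1 n, term (β i) i =
            term (β i₀) i₀ + term (β (p * i₀)) (p * i₀) +
              ∑ i ∈ ((Finset.Icc 1 n).erase i₀).erase (p * i₀), term (β i) i := fun β => by
          rw [← Finset.add_sum_erase _ _ hmem1, ← Finset.add_sum_erase _ _ hmem2]; ring
        rw [hsum, hsum β', Finset.sum_congr rfl (g := fun i => term (β i) i) (fun i hi => by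
          simp only [Finset.mem_erase] at hi
          simp only [β']
          rw [Function.update_of_ne hi.2.1, Function.update_of_ne hi.1] :
            ∀ i ∈ ((Finset.Icc 1 n).erase i₀).erase (p * i₀), term (β' i) i = term (β i) i)]
        simp only [β', Function.update_self, Function.update_of_ne hi₀.ne']
        simp only [term]
        rw [he₁, he₂, zero_add, sub_pow_char, map_sub, map_sub, ← he₁', ← he₂', div_pow, ← pow_mul, mul_comm i₀ p]
        simp only [map_add, map_mul, map_pow]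
        field_simp
        ring
      · simp only [β', Function.update_apply] at hi
        split_ifs at hi with h1 h2
        · exact absurd rfl hi
        · left; omega
        · rcases hsupp i hi with h | h
          · left; omega
          · exact Or.inr h
  obtain ⟨y, b, β, hξ, hsupp⟩ := hrep n
  -- the residues of the base
  let InA : ResidueField B → Prop := fun β => ∀ t : ℕ, ∃ z : ResidueField B, z ^ p ^ t = β
  have hA : ∀ β, InA β → ∃ a : A, ∃ e : B, s β = algebraMap A B a + P ^ n * e := by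
    intro β hβ
    obtain ⟨z, hz⟩ := hβ n
    obtain ⟨z', hz'⟩ := (hk z).1 fun t => by
      obtain ⟨w, hw⟩ := hβ (t + n)
      refine ⟨w, iterateFrobenius_inj (ResidueField B) p n ?_⟩
      rw [iterateFrobenius_def, iterateFrobenius_def, ← pow_mul, ← pow_add, hw, hz]
    obtain ⟨a₀, rfl⟩ := residue_surjective z'
    have hmem : s z - algebraMap A B a₀ ∈ maximalIdeal B := by
      rw [← residue_eq_zero_iff, map_sub, hsres, ← hz']
      exact sub_self _
    rw [hπ.maximalIdeal_eq, Ideal.mem_span_singleton] at hmem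
    obtain ⟨d, hd⟩ := hmem
    refine ⟨a₀ ^ p ^ n, ?_⟩
    obtain ⟨e, he⟩ := hI (s β) (algebraMap A B (a₀ ^ p ^ n)) (by
      rw [hs, ← hz, map_pow, map_pow, ← hs, ← map_pow, Ideal.Quotient.eq, hImem, map_pow,
        ← sub_pow_char_pow, hd, mul_pow]
      exact Dvd.dvd.mul_right (pow_dvd_pow P (Nat.lt_pow_self hp.one_lt).le) _)
    exact ⟨e, he⟩
  have hH : ∀ β, ¬ InA β → ∃ (h : ℕ) (g : B) (e : B), s β = g ^ p ^ h + P ^ n * e ∧
      ∀ e : B, g - e ^ p ∉ maximalIdeal B := by
    intro β hβ
    have hex : ∃ t : ℕ, ¬ ∃ z : ResidueField B, z ^ p ^ t = β := by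
      by_contra hne; push Not at hne; exact hβ hne
    obtain ⟨h, hh⟩ : ∃ h, Nat.find hex = h + 1 := ⟨Nat.find hex - 1, by
      have : Nat.find hex ≠ 0 := fun h0 => (Nat.find_spec hex) (by rw [h0]; exact ⟨β, by simp⟩)
      omega⟩
    obtain ⟨z, hz⟩ := not_not.1 (Nat.find_min hex (show h < Nat.find hex by omega))
    obtain ⟨e, he⟩ := hI (s β) (s z ^ p ^ h) (by rw [hs, map_pow, hs, ← hz, map_pow, map_pow])
    refine ⟨h, s z, e, he, fun e hee => ?_⟩
    rw [← residue_eq_zero_iff, map_sub, hsres, map_pow, sub_eq_zero] at hee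
    refine Nat.find_spec hex ⟨residue B e, ?_⟩
    rw [hh, pow_succ', pow_mul, ← hee, hz]
  choose! aβ eA haβ using hA
  choose! hh gg eH hgg hnp using hH
  let J₀ := (Finset.Icc 1 n).filter fun i => n < p * i
  let J := J₀.filter fun i => ¬ InA (β i)
  let JA := J₀.filter fun i => InA (β i)
  have hJ₀ : ∀ i ∈ J₀, 1 ≤ i ∧ i ≤ n ∧ n < p * i := fun i hi => by
    obtain ⟨h1, h2⟩ := Finset.mem_filter.1 hi
    exact ⟨(Finset.mem_Icc.1 h1).1, (Finset.mem_Icc.1 h1).2, h2⟩
  have hnotmem : ∀ i ∈ Finset.Icc 1 n, i ∉ J₀ → β i = 0 := fun i hi hiJ => by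
    by_contra h0
    rcases hsupp i h0 with h | h
    · exact absurd (Finset.mem_Icc.1 hi).2 (by omega)
    · exact hiJ (Finset.mem_filter.2 ⟨hi, h⟩)
  -- integral errors
  let IntL : L → Prop := fun v => ∃ e : B, algebraMap B L e = v
  have IntL_sum : ∀ (S : Finset ℕ) (f : ℕ → L), (∀ i ∈ S, IntL (f i)) → IntL (∑ i ∈ S, f i) := fun S f hf => by
    choose! ef hef using hf
    exact ⟨∑ i ∈ S, ef i, by rw [map_sum]; exact Finset.sum_congr rfl hef⟩
  have hz0 : IntL (∑ i ∈ Finset.Icc 1 n \ J₀, term (β i) i) := IntL_sum _ _ fun i hi => by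
    obtain ⟨hi, hiJ⟩ := Finset.mem_sdiff.1 hi
    obtain ⟨e, he⟩ := hI (s 0) 0 (by rw [hs, map_zero, map_zero, map_zero])
    obtain ⟨e', he'⟩ := hint e i (Finset.mem_Icc.1 hi).2
    exact ⟨e', by simp only [term]; rw [hnotmem i hi hiJ, he, zero_add, he']⟩
  have hzA : IntL (∑ i ∈ JA, (term (β i) i - algebraMap A L (aβ (β i)) / algebraMap A L π ^ i)) :=
    IntL_sum _ _ fun i hi => by
      obtain ⟨hi, hiA⟩ := Finset.mem_filter.1 hi
      obtain ⟨e', he'⟩ := hint (eA (β i)) i (hJ₀ i hi).2.1
      refine ⟨e', ?_⟩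
      simp only [term]
      rw [haβ (β i) hiA, map_add, hPL, ← IsScalarTower.algebraMap_apply A B L, add_div, add_sub_cancel_left, he']
  have hzJ : IntL (∑ i ∈ J, (term (β i) i - algebraMap B L (gg (β i)) ^ p ^ hh (β i) / algebraMap A L π ^ i)) :=
    IntL_sum _ _ fun i hi => by
      obtain ⟨hi, hiA⟩ := Finset.mem_filter.1 hi
      obtain ⟨e', he'⟩ := hint (eH (β i)) i (hJ₀ i hi).2.1
      refine ⟨e', ?_⟩
      simp only [term]
      rw [hgg (β i) hiA, map_add, hPL, map_pow, add_div, add_sub_cancel_left, he']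
  obtain ⟨b₀, hb₀⟩ := hz0
  obtain ⟨bA, hbA⟩ := hzA
  obtain ⟨bJ, hbJ⟩ := hzJ
  refine ⟨n, y, ∑ i ∈ JA, aβ (β i) * π ^ (n - i), b + b₀ + bA + bJ, J, fun i => gg (β i), fun i => hh (β i),
    ?_, fun i hi => ?_, fun i hi i' hi' he => ?_⟩
  · have hc : algebraMap K L (algebraMap A K (∑ i ∈ JA, aβ (β i) * π ^ (n - i)) / algebraMap A K π ^ n) =
        ∑ i ∈ JA, algebraMap A L (aβ (β i)) / algebraMap A L π ^ i := by
      rw [map_div₀, map_pow, ← IsScalarTower.algebraMap_apply, ← IsScalarTower.algebraMap_apply, map_sum, Finset.sum_div]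
      refine Finset.sum_congr rfl fun i hi => ?_
      have hπL : algebraMap A L π ≠ 0 := by rw [hPL]; exact hP0
      rw [map_mul, map_pow, div_eq_div_iff (pow_ne_zero _ hπL) (pow_ne_zero _ hπL), mul_assoc, ← pow_add,
        Nat.sub_add_cancel (hJ₀ i (Finset.mem_filter.1 hi).1).2.1]
    have hsplit : ∑ i ∈ Finset.Icc 1 n, term (β i) i =
        (∑ i ∈ Finset.Icc 1 n \ J₀, term (β i) i) + ((∑ i ∈ JA, term (β i) i) + ∑ i ∈ J, term (β i) i) := by
      rw [Finset.sum_filter_add_sum_filter_not, Finset.sum_sdiff (Finset.filter_subset _ _)]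
    rw [Finset.sum_sub_distrib] at hbA hbJ
    rw [hξ, hsplit, hc, map_add, map_add, map_add, hb₀, hbA, hbJ]
    ring
  · obtain ⟨hi, hiA⟩ := Finset.mem_filter.1 hi
    exact ⟨(hJ₀ i hi).1, (hJ₀ i hi).2.1, hnp (β i) hiA⟩
  · obtain ⟨h1, h2, h3⟩ := hJ₀ i (Finset.mem_filter.1 hi).1
    obtain ⟨h1', h2', h3'⟩ := hJ₀ i' (Finset.mem_filter.1 hi').1
    change i * p ^ hh (β i') = i' * p ^ hh (β i) at he
    rcases lt_trichotomy (hh (β i)) (hh (β i')) with h | h | h
    · obtain ⟨d, hd⟩ := Nat.exists_eq_add_of_lt h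
      rw [hd, show hh (β i) + d + 1 = (d + 1) + hh (β i) by omega, pow_add, ← mul_assoc] at he
      have he' := mul_right_cancel₀ (pow_ne_zero _ hp.ne_zero) he
      have : p * i ≤ i * p ^ (d + 1) := by
        rw [mul_comm p]; exact Nat.mul_le_mul_left i (Nat.le_self_pow (by omega) p)
      omega
    · rw [h] at he; exact mul_right_cancel₀ (pow_ne_zero _ hp.ne_zero) he
    · obtain ⟨d, hd⟩ := Nat.exists_eq_add_of_lt h
      rw [hd, show hh (β i') + d + 1 = (d + 1) + hh (β i') by omega, pow_add, ← mul_assoc] at he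
      have he' := mul_right_cancel₀ (pow_ne_zero _ hp.ne_zero) he
      have : p * i' ≤ i' * p ^ (d + 1) := by
        rw [mul_comm p]; exact Nat.mul_le_mul_left i' (Nat.le_self_pow (by omega) p)
      omega

end Groth.Agent.EtSol
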