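import Mathlib
import Groth.Prelude.Def_EtRam
import Groth.Agent.EtSol.ASExtension
import Groth.Agent.EtSol.ASValue
import Groth.Agent.EtSol.NormalForm
import Groth.Agent.EtSol.PInsepSolution
import Groth.Agent.TameAbh.Compositum

/-!
# Totally ramified weak solutions for Galois steps of degree `p` in characteristic `p`
-/

set_option autoImplicit false
set_option linter.all false
set_option maxHeartbeats 1000000

universe u

open IsLocalRing Polynomial
open scoped TensorProduct

noncomputable section

namespace Groth.Agent.EtSol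

/-- Artin–Schreier generators. -/
theorem exists_as_generator {L M : Type u} [Field L] [Field M] [Algebra L M] [IsGalois L M] (p : ℕ)
    [hp : Fact p.Prime] [CharP M p] (hdeg : Module.finrank L M = p) :
    ∃ (z : M) (ξ : L), z ^ p - z = algebraMap L M ξ ∧ ∀ y : M, ∃ P : L[X], P.eval₂ (algebraMap L M) z = y := by
  classical
  haveI : FiniteDimensional L M := FiniteDimensional.of_finrank_pos (hdeg ▸ hp.out.pos)
  have hcard : Nat.card (M ≃ₐ[L] M) = p := by rw [IsGalois.card_aut_eq_finrank, hdeg]
  obtain ⟨σ, hσ⟩ : ∃ σ : M ≃ₐ[L] M, σ ≠ 1 := by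
    haveI : Nontrivial (M ≃ₐ[L] M) := Finite.one_lt_card_iff_nontrivial.1 (hcard ▸ hp.out.one_lt)
    exact exists_ne 1
  have hord : orderOf σ = p := by
    rcases (Nat.dvd_prime hp.out).1 (hcard ▸ orderOf_dvd_natCard σ) with h | h
    · exact absurd (orderOf_eq_one_iff.1 h) hσ
    · exact h
  have hbij : Function.Bijective fun i : Fin p => σ ^ (i : ℕ) := by
    refine (Fintype.bijective_iff_injective_and_card _).2 ⟨fun i j h => Fin.ext ?_, by
      rw [Fintype.card_fin, ← Nat.card_eq_fintype_card, hcard]⟩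
    exact pow_injOn_Iio_orderOf (by rw [Set.mem_Iio, hord]; exact i.2) (by rw [Set.mem_Iio, hord]; exact j.2) h
  obtain ⟨θ, hθ⟩ := Algebra.trace_surjective L M 1
  let g : ℕ → M := fun i => (σ ^ i) θ
  have hsum : ∑ i ∈ Finset.range p, g i = 1 := by
    rw [Finset.sum_range]
    have h1 := trace_eq_sum_automorphisms (K := L) θ
    rw [hθ, map_one] at h1
    rw [h1]
    exact Fintype.sum_bijective (fun i : Fin p => σ ^ (i : ℕ)) hbij (fun i : Fin p => g i) (fun τ => τ θ) fun i => rfl
  have hgσ : ∀ i, σ (g i) = g (i + 1) := fun i => by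
    simp only [g]
    rw [pow_succ' σ i, AlgEquiv.mul_apply]
  have hgp : g p = g 0 := by
    simp only [g]
    rw [← hord, pow_orderOf_eq_one, pow_zero]
  let z : M := -∑ i ∈ Finset.range p, (i : M) * g i
  have hσz : σ z = z + 1 := by
    have h1 : ∑ i ∈ Finset.range p, ((i + 1 : ℕ) : M) * g (i + 1) = ∑ i ∈ Finset.range p, (i : M) * g i := by
      have h2 := Finset.sum_range_succ (fun i => (i : M) * g i) p
      rw [Finset.sum_range_succ' (fun i => (i : M) * g i) p] at h2
      simpa [CharP.cast_eq_zero M p] using h2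
    have h3 : ∑ i ∈ Finset.range p, g (i + 1) = 1 := by
      have h2 := Finset.sum_range_succ g p
      rw [Finset.sum_range_succ' g p, hgp] at h2
      rw [← hsum]
      exact add_right_cancel h2
    simp only [z, map_neg, map_sum, map_mul, map_natCast, hgσ]
    have h4 : ∑ i ∈ Finset.range p, ((i + 1 : ℕ) : M) * g (i + 1) =
        ∑ i ∈ Finset.range p, (i : M) * g (i + 1) + ∑ i ∈ Finset.range p, g (i + 1) := by
      rw [← Finset.sum_add_distrib]; exact Finset.sum_congr rfl fun i _ => by push_cast; ring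
    rw [h1, h3] at h4
    linear_combination h4
  have hpow : ∀ (i : ℕ), (σ ^ i) (z ^ p - z) = z ^ p - z := fun i => by
    induction i with
    | zero => rw [pow_zero, AlgEquiv.one_apply]
    | succ i ih => rw [pow_succ, AlgEquiv.mul_apply, map_sub σ, map_pow σ, hσz, add_pow_char, one_pow,
        add_sub_add_right_eq_sub, ih]
  obtain ⟨ξ, hξ⟩ := IntermediateField.mem_bot.1 ((IsGalois.mem_bot_iff_fixed (F := L) (z ^ p - z)).2 fun τ => by
    obtain ⟨i, rfl⟩ := hbij.2 τ
    exact hpow i)
  refine ⟨z, ξ, hξ.symm, fun y => ?_⟩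
  haveI := IntermediateField.isSimpleOrder_of_finrank_prime L M (by rw [hdeg]; exact hp.out)
  have htop : IntermediateField.adjoin L {z} = ⊤ := (eq_bot_or_eq_top _).resolve_left fun h => by
    obtain ⟨l, hl⟩ := IntermediateField.mem_bot.1 (h ▸ IntermediateField.mem_adjoin_simple_self L z)
    rw [← hl, σ.commutes] at hσz
    exact one_ne_zero (α := M) (by linear_combination -hσz)
  have h : y ∈ (IntermediateField.adjoin L {z}).toSubalgebra := by rw [htop]; trivial
  rw [IntermediateField.adjoin_simple_toSubalgebra_of_isAlgebraic (Algebra.IsAlgebraic.isAlgebraic z),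
    Algebra.adjoin_singleton_eq_range_aeval] at h
  exact h

/-- Telescoping. -/
theorem pow_sub_self_sum {N : Type u} [CommRing N] (p : ℕ) [Fact p.Prime] [CharP N p] (t : N) (h : ℕ) :
    (∑ i ∈ Finset.range h, t ^ p ^ i) ^ p - ∑ i ∈ Finset.range h, t ^ p ^ i = t ^ p ^ h - t := by
  induction h with
  | zero => simp [zero_pow (Fact.out : p.Prime).ne_zero]
  | succ h ih =>
    rw [Finset.sum_range_succ, add_pow_char, ← pow_mul, ← pow_succ]
    linear_combination ih

theorem exists_weakSolution_charP (p : ℕ) (hp : p.Prime) (A B C K L M : Type u) [CommRing A] [IsDomain A]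
    [IsDiscreteValuationRing A] [CommRing B] [IsDomain B] [IsDiscreteValuationRing B] [CommRing C] [IsDomain C]
    [IsDiscreteValuationRing C] [Algebra A B] [Algebra B C] [Algebra A C] [IsScalarTower A B C]
    (hAB : Function.Injective (algebraMap A B)) (hBC : Function.Injective (algebraMap B C))
    [IsLocalHom (algebraMap A B)] [IsLocalHom (algebraMap B C)] [Field K] [Field L] [Field M]
    [Algebra A K] [IsFractionRing A K] [Algebra B L] [IsFractionRing B L] [Algebra C M] [IsFractionRing C M]
    [Algebra K L] [Algebra L M] [Algebra K M] [IsScalarTower K L M] [Algebra A L] [IsScalarTower A K L]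
    [IsScalarTower A B L] [Algebra B M] [IsScalarTower B L M] [IsScalarTower B C M] [Algebra A M]
    [IsScalarTower A K M] [IsScalarTower A C M] (hw : EtRam.IsWeaklyUnramified A B) [CharP K p] [IsGalois L M]
    (hdeg : Module.finrank L M = p)
    (hk : ∀ x : IsLocalRing.ResidueField B, (∀ n : ℕ, ∃ y : IsLocalRing.ResidueField B, y ^ (p ^ n) = x) ↔
      x ∈ Set.range (algebraMap (IsLocalRing.ResidueField A) (IsLocalRing.ResidueField B))) :
    ∃ (K₁ : Type u) (_ : Field K₁) (_ : Algebra K K₁), FiniteDimensional K K₁ ∧ Algebra.IsSeparable K K₁ ∧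
      EtRam.IsTotallyRamified A ((algebraMap K K₁).comp (algebraMap A K)) ∧ EtRam.IsWeakSolution C K M K₁ := by
  classical
  haveI := Fact.mk hp
  haveI : CharP L p := charP_of_injective_algebraMap (algebraMap K L).injective p
  haveI : CharP M p := charP_of_injective_algebraMap (algebraMap L M).injective p
  haveI : CharP B p := (RingHom.charP_iff (algebraMap B L) (IsFractionRing.injective B L) p).2 inferInstance
  haveI : CharP (ResidueField B) p := (CharP.charP_iff_prime_eq_zero hp).2 (by
    rw [← map_natCast (residue B), CharP.cast_eq_zero, map_zero])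
  haveI : FiniteDimensional L M := FiniteDimensional.of_finrank_pos (hdeg ▸ hp.pos)
  obtain ⟨π, hπ⟩ := IsDiscreteValuationRing.exists_irreducible A
  have hπB : Irreducible (algebraMap A B π) := by
    rw [IsDiscreteValuationRing.irreducible_iff_uniformizer, ← hw, hπ.maximalIdeal_eq, Ideal.map_span,
      Set.image_singleton]
  obtain ⟨z, ξ, hz, hzgen⟩ := exists_as_generator (L := L) (M := M) p hdeg
  obtain ⟨n, y₀, a, b, J, g, h, hξ, hJ, hdist⟩ := exists_normalForm (K := K) hp hπB hk ξ
  let N₀ := J.sup h + 1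
  have hhN : ∀ j ∈ J, h j + 1 ≤ N₀ := fun j hj => Nat.succ_le_succ (Finset.le_sup hj)
  obtain ⟨K₁, _, _, _, _, hfin, hsep, Q, ω, x, y₁, hQ, hdim, hloc⟩ :=
    exists_extension (K := K) hπ (exists_root_residue (A := A) (B := B) hp hk) N₀ n a
  haveI := hfin
  obtain ⟨htr, -, hspan⟩ := totallyRamified_of_root (K := K) hπ hQ hdim fun V hV => (hloc V hV).1
  refine ⟨K₁, inferInstance, inferInstance, hfin, hsep, by rwa [← IsScalarTower.algebraMap_eq], ?_⟩
  intro N _ _ _ _ _ _ hgen U hU
  -- the intermediate field generated by `L` and `K₁`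
  letI : Algebra L N := ((algebraMap M N).comp (algebraMap L M)).toAlgebra
  haveI : IsScalarTower L M N := IsScalarTower.of_algebraMap_eq fun _ => rfl
  haveI : IsScalarTower K L N := IsScalarTower.of_algebraMap_eq fun r => by
    rw [IsScalarTower.algebraMap_apply L M N, ← IsScalarTower.algebraMap_apply K L M,
      ← IsScalarTower.algebraMap_apply K M N]
  letI : Algebra B N := ((algebraMap L N).comp (algebraMap B L)).toAlgebra
  haveI : IsScalarTower B L N := IsScalarTower.of_algebraMap_eq fun _ => rfl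
  haveI : CharP N p := charP_of_injective_algebraMap (algebraMap M N).injective p
  haveI : FiniteDimensional L N := by
    let φ : M ⊗[K] K₁ →ₐ[M] N := Algebra.TensorProduct.lift (Algebra.ofId M N) (IsScalarTower.toAlgHom K K₁ N)
      fun _ _ => mul_comm _ _
    have hsj : Function.Surjective φ := by
      rw [← AlgHom.range_eq_top, eq_top_iff, ← hgen, Algebra.adjoin_le_iff]
      rintro _ ⟨t, rfl⟩
      exact ⟨1 ⊗ₜ t, (Algebra.TensorProduct.lift_tmul _ _ _ _ _).trans (by rw [map_one, one_mul]; rfl)⟩
    haveI : FiniteDimensional M N := Module.Finite.of_surjective φ.toLinearMap hsj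
    exact Module.Finite.trans M N
  let ι := algebraMap K₁ N
  have hUB : EtRam.Dominates B (algebraMap B N) U := by
    have h1 : ∀ t, algebraMap B N t = ((algebraMap M N).comp (algebraMap C M)) (algebraMap B C t) := fun t => by
      show algebraMap M N (algebraMap L M (algebraMap B L t)) = _
      rw [← IsScalarTower.algebraMap_apply B L M, RingHom.comp_apply, ← IsScalarTower.algebraMap_apply B C M]
    exact ⟨fun t => h1 t ▸ hU.1 _, fun t ht => h1 t ▸ hU.2 _ (map_nonunit _ t ht)⟩
  have hιA : ∀ r : A, ι (algebraMap A K₁ r) = algebraMap B N (algebraMap A B r) := fun r => by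
    show algebraMap K₁ N _ = algebraMap L N (algebraMap B L (algebraMap A B r))
    rw [← IsScalarTower.algebraMap_apply A B L, IsScalarTower.algebraMap_apply A K L,
      ← IsScalarTower.algebraMap_apply K L N, IsScalarTower.algebraMap_apply A K K₁,
      ← IsScalarTower.algebraMap_apply K K₁ N]
  have hV : EtRam.Dominates A (algebraMap A K₁) (U.comap ι) := by
    refine dominates_comap' U ι _ ?_
    rw [show ι.comp (algebraMap A K₁) = (algebraMap B N).comp (algebraMap A B) from RingHom.ext hιA]
    exact ⟨fun r => hUB.1 _, fun r hr => hUB.2 _ (map_nonunit _ r hr)⟩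
  obtain ⟨hω, hxq, hxj, hy₁⟩ := hloc _ hV
  set P := algebraMap B N (algebraMap A B π) with hPdef
  have hP : ι (algebraMap A K₁ π) = P := hιA π
  have hωN : U.valuation (ι ω) ^ Q = U.valuation P := by
    have := valuation_eq_of_comap U ι (a := ω ^ Q) (b := algebraMap A K₁ π) (by rw [map_pow]; exact hω)
    rwa [map_pow, map_pow, hP] at this
  have hinjB : Function.Injective (algebraMap B N) := by
    rw [IsScalarTower.algebraMap_eq B L N]
    exact (algebraMap L N).injective.comp (IsFractionRing.injective B L)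
  have hω0 : U.valuation (ι ω) ≠ 0 := root_val_ne_zero hπB hUB hQ hωN hinjB
  have hω1 : U.valuation (ι ω) < 1 := root_lt_one hπB hUB hQ hωN
  set q := p ^ N₀ with hq
  set X' := ι x with hX'
  have hXq : U.valuation X' ^ q = U.valuation P := by
    have := valuation_eq_of_comap U ι (a := x ^ q) (b := algebraMap A K₁ π) (by rw [map_pow]; exact hxq)
    rwa [map_pow, map_pow, hP] at this
  have hX0 : U.valuation X' ≠ 0 := root_val_ne_zero hπB hUB (pow_pos hp.pos _) hXq hinjB
  have hX1 : U.valuation X' < 1 := root_lt_one hπB hUB (pow_pos hp.pos _) hXq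
  have hX0' : X' ≠ 0 := fun h0 => hX0 (by rw [h0, map_zero])
  have hXj : ∀ j ≤ n, U.valuation (1 / P ^ j - 1 / (X' ^ q) ^ j) ≤ 1 := fun j hj => by
    have := valuation_le_of_comap U ι (a := 1 / algebraMap A K₁ π ^ j - 1 / (x ^ q) ^ j) (b := 1)
      (by rw [map_one]; exact hxj j hj)
    rwa [map_one, map_one, map_sub, map_div₀, map_div₀, map_one, map_pow, map_pow, map_pow, hP] at this
  have hy₁' : U.valuation (algebraMap B N (algebraMap A B a) / P ^ n - (ι y₁ ^ p - ι y₁)) ≤ 1 := by
    have := valuation_le_of_comap U ι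
      (a := algebraMap A K₁ a / algebraMap A K₁ π ^ n - (y₁ ^ p - y₁)) (b := 1) (by rw [map_one]; exact hy₁)
    simp only [map_one, map_sub ι, map_div₀ ι, map_pow ι, hP, hιA] at this
    exact this
  -- the field
  let F : IntermediateField L N := IntermediateField.adjoin L (Set.range ι)
  have hιF : ∀ t, ι t ∈ F := fun t => IntermediateField.subset_adjoin L _ ⟨t, rfl⟩
  have hBF : ∀ t : B, algebraMap B N t ∈ F := fun t => F.algebraMap_mem (algebraMap B L t)
  have hFspan : ∀ f : F, ∃ r : Fin Q → L, (f : N) = ∑ i, r i • ι ω ^ (i : ℕ) := by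
    intro f
    have hf : (f : N) ∈ (IntermediateField.adjoin L (Set.range ι)).toSubalgebra := f.2
    rw [IntermediateField.adjoin_toSubalgebra] at hf
    have hf' : (f : N) ∈ Subalgebra.toSubmodule (Algebra.adjoin L (Set.range ι)) := hf
    rw [Algebra.adjoin_eq_span] at hf'
    have hle : Submodule.span L (Submonoid.closure (Set.range ι) : Set N) ≤
        Submodule.span L (Set.range fun i : Fin Q => ι ω ^ (i : ℕ)) := by
      refine Submodule.span_le.2 fun t ht => ?_
      obtain ⟨t, rfl⟩ : t ∈ MonoidHom.mrange ι.toMonoidHom := by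
        refine (Submonoid.closure_le.2 ?_) ht
        rintro _ ⟨s, rfl⟩
        exact ⟨s, rfl⟩
      obtain ⟨r, rfl⟩ := hspan t
      show ι (∑ i, r i • ω ^ (i : ℕ)) ∈ _
      rw [map_sum]
      refine Submodule.sum_mem _ fun i _ => ?_
      rw [Algebra.smul_def, map_mul, map_pow, ← IsScalarTower.algebraMap_apply K K₁ N,
        IsScalarTower.algebraMap_apply K L N, ← Algebra.smul_def]
      exact Submodule.smul_mem _ _ (Submodule.subset_span ⟨i, rfl⟩)
    obtain ⟨r, hr⟩ := (Submodule.mem_span_range_iff_exists_fun L).1 (hle hf')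
    exact ⟨r, hr.symm⟩
  haveI : CharP F p := (RingHom.charP_iff (algebraMap F N) (algebraMap F N).injective p).2 inferInstance
  -- the Artin–Schreier element over `F`
  let r : ℕ → ℕ := fun j => j * p ^ (N₀ - h j)
  let t : ℕ → N := fun j => algebraMap B N (g j) / X' ^ r j
  let tele : ℕ → N := fun j => ∑ i ∈ Finset.range (h j), t j ^ p ^ i
  let w : N := algebraMap M N z - (algebraMap L N y₀ + ι y₁ + ∑ j ∈ J, tele j)
  let ξ₁ : N := (algebraMap B N (algebraMap A B a) / P ^ n - (ι y₁ ^ p - ι y₁)) + algebraMap B N b +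
    ∑ j ∈ J, (algebraMap B N (g j) ^ p ^ h j * (1 / P ^ j - 1 / (X' ^ q) ^ j) + t j)
  have hrpow : ∀ j ∈ J, t j ^ p ^ h j = algebraMap B N (g j) ^ p ^ h j / (X' ^ q) ^ j := fun j hj => by
    simp only [t, r]
    rw [div_pow, ← pow_mul, ← pow_mul, hq, mul_assoc, ← pow_add,
      Nat.sub_add_cancel ((Nat.le_succ _).trans (hhN j hj)), mul_comm]
  have hw : w ^ p - w = ξ₁ := by
    have hLN : ∀ t : A, algebraMap L N (algebraMap K L (algebraMap A K t)) = algebraMap B N (algebraMap A B t) := fun t => by
      rw [← IsScalarTower.algebraMap_apply A K L, IsScalarTower.algebraMap_apply A B L]; rfl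
    have hπN : algebraMap L N (algebraMap A L π) = P := by
      rw [IsScalarTower.algebraMap_apply A B L]; rfl
    have hzN : algebraMap M N z ^ p - algebraMap M N z = algebraMap L N y₀ ^ p - algebraMap L N y₀ +
        algebraMap B N (algebraMap A B a) / P ^ n + algebraMap B N b +
        ∑ j ∈ J, algebraMap B N (g j) ^ p ^ h j / P ^ j := by
      rw [← map_pow, ← map_sub, hz, ← IsScalarTower.algebraMap_apply L M N, hξ, map_div₀, map_pow]
      simp only [map_add, map_sub, map_sum, map_div₀, map_pow, hLN, hπN]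
      rfl
    have htele : ∀ j ∈ J, tele j ^ p - tele j = algebraMap B N (g j) ^ p ^ h j / (X' ^ q) ^ j - t j := fun j hj => by
      rw [← hrpow j hj]; exact pow_sub_self_sum p (t j) (h j)
    simp only [w, ξ₁]
    rw [sub_pow_char, add_pow_char, add_pow_char, sum_pow_char]
    have h2 := Finset.sum_congr rfl htele
    rw [Finset.sum_sub_distrib, Finset.sum_sub_distrib] at h2
    simp only [mul_sub, mul_one_div, Finset.sum_add_distrib, Finset.sum_sub_distrib]
    linear_combination hzN - h2
  have hxF : X' ∈ F := hιF x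
  have htF : ∀ j, t j ∈ F := fun j => div_mem (hBF _) (pow_mem hxF _)
  have hsubF : algebraMap L N y₀ + ι y₁ + ∑ j ∈ J, tele j ∈ F :=
    add_mem (add_mem (F.algebraMap_mem y₀) (hιF y₁)) (sum_mem fun j _ => sum_mem fun i _ => pow_mem (htF j) _)
  have hξF : ξ₁ ∈ F := by
    have hPF : P ∈ F := hBF _
    exact add_mem (add_mem (sub_mem (div_mem (hBF _) (pow_mem hPF _)) (sub_mem (pow_mem (hιF y₁) _) (hιF y₁))) (hBF b))
      (sum_mem fun j _ => add_mem (mul_mem (pow_mem (hBF _) _) (sub_mem (div_mem (one_mem F) (pow_mem hPF _))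
        (div_mem (one_mem F) (pow_mem (pow_mem hxF _) _)))) (htF j))
  let ξF : F := ⟨ξ₁, hξF⟩
  have hwF : w ^ p - w = algebraMap F N ξF := hw
  have hgenN : ∀ v : N, ∃ u : Fin p → F, v = ∑ i, algebraMap F N (u i) * w ^ (i : ℕ) := by
    intro v
    have hev : ∃ R : F[X], R.eval₂ (algebraMap F N) w = v := by
      have hv : v ∈ Algebra.adjoin M (Set.range ι) := hgen ▸ Algebra.mem_top
      induction hv using Algebra.adjoin_induction with
      | mem v hv => exact ⟨Polynomial.C ⟨v, by obtain ⟨s, rfl⟩ := hv; exact hιF s⟩, eval₂_C _ _⟩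
      | algebraMap m =>
        obtain ⟨R, rfl⟩ := hzgen m
        refine ⟨(R.map (algebraMap L F)).comp (X + Polynomial.C ⟨_, hsubF⟩), ?_⟩
        rw [eval₂_comp, eval₂_map, hom_eval₂, ← IsScalarTower.algebraMap_eq L F N,
          ← IsScalarTower.algebraMap_eq L M N, eval₂_add, eval₂_X, eval₂_C]
        congr 1
        show w + (algebraMap L N y₀ + ι y₁ + ∑ j ∈ J, tele j) = algebraMap M N z
        simp only [w]; ring
      | add _ _ _ _ h h' =>
        obtain ⟨R, h⟩ := h; obtain ⟨R', h'⟩ := h'
        exact ⟨R + R', by rw [eval₂_add, h, h']⟩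
      | mul _ _ _ _ h h' =>
        obtain ⟨R, h⟩ := h; obtain ⟨R', h'⟩ := h'
        exact ⟨R * R', by rw [eval₂_mul, h, h']⟩
    obtain ⟨R, rfl⟩ := hev
    have hlt : (X + Polynomial.C ξF : F[X]).degree < (p : WithBot ℕ) :=
      (degree_X_add_C _).trans_lt (by exact_mod_cast hp.one_lt)
    exact exists_coeff_fin (algebraMap F N) (X ^ p - (X + Polynomial.C ξF)) (monic_X_pow_sub hlt) p hp.pos
      (natDegree_eq_of_degree_eq_some (by rw [degree_sub_eq_left_of_degree_lt (by rwa [degree_X_pow]), degree_X_pow]))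
      w (by rw [eval₂_sub, eval₂_X_pow, eval₂_add, eval₂_X, eval₂_C]; linear_combination hwF) R
  -- integral pieces
  have hBle : ∀ t : B, U.valuation (algebraMap B N t) ≤ 1 := fun t => (U.valuation_le_one_iff _).2 (hUB.1 t)
  have hbase : ∀ S : Finset ℕ, S ⊆ J → U.valuation ((algebraMap B N (algebraMap A B a) / P ^ n - (ι y₁ ^ p - ι y₁)) +
      algebraMap B N b + ∑ j ∈ S, algebraMap B N (g j) ^ p ^ h j * (1 / P ^ j - 1 / (X' ^ q) ^ j)) ≤ 1 := fun S hS =>
    (U.valuation.map_add _ _).trans (max_le ((U.valuation.map_add _ _).trans (max_le hy₁' (hBle b)))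
      (U.valuation.map_sum_le fun j hj => by
        rw [map_mul, map_pow]
        exact mul_le_one₀ (pow_le_one₀ zero_le (hBle _)) zero_le (hXj j (hJ j (hS hj)).2.1)))
  have hsplit : ξ₁ = ((algebraMap B N (algebraMap A B a) / P ^ n - (ι y₁ ^ p - ι y₁)) + algebraMap B N b +
      ∑ j ∈ J, algebraMap B N (g j) ^ p ^ h j * (1 / P ^ j - 1 / (X' ^ q) ^ j)) + ∑ j ∈ J, t j := by
    simp only [ξ₁, Finset.sum_add_distrib]; ring
  have hU' : EtRam.Dominates B ((algebraMap L N).comp (algebraMap B L)) U := hUB
  haveI : IsDiscreteValuationRing U := TameAbh.isDVR_of_dominates (A := B) (K := L) U hU'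
  have hsame : SameValues (F := F) U := by
    rcases J.eq_empty_or_nonempty with hJe | hJne
    · refine sameValues_of_integral hwF hgenN (fun v δ hv hδ => ?_) ?_
      · obtain ⟨ρ, hρ⟩ := IsDiscreteValuationRing.exists_irreducible U
        obtain ⟨c, d, hd, rfl⟩ := IsFractionRing.div_surjective (A := U) v
        have hc0 : c ≠ 0 := fun h => hv (by rw [h, map_zero, zero_div])
        obtain ⟨k, u, rfl⟩ := IsDiscreteValuationRing.eq_unit_mul_pow_irreducible hc0 hρ
        refine ⟨k + 1, ?_⟩
        have hδρ : U.valuation δ ≤ U.valuation (ρ : N) := by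
          let δU : U := ⟨δ, (U.valuation_le_one_iff δ).1 hδ.le⟩
          have hmem : δU ∈ maximalIdeal U := (U.valuation_lt_one_iff δU).2 hδ
          rw [hρ.maximalIdeal_eq, Ideal.mem_span_singleton] at hmem
          obtain ⟨e, he⟩ := hmem
          rw [show δ = (ρ : N) * (e : N) from congrArg Subtype.val he, map_mul]
          exact mul_le_of_le_one_right zero_le ((U.valuation_le_one_iff _).2 e.2)
        have hρ0 : (0 : U.ValueGroup) < U.valuation (ρ : N) :=
          zero_lt_iff.2 ((_root_.map_ne_zero _).2 fun h => hρ.ne_zero (Subtype.ext h))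
        have hρ1 : U.valuation (ρ : N) < 1 := (U.valuation_lt_one_iff ρ).1 hρ.not_isUnit
        refine (pow_le_pow_left₀ zero_le hδρ _).trans_lt ((pow_lt_pow_right_of_lt_one₀ hρ0 hρ1 k.lt_succ_self).trans_le ?_)
        rw [map_div₀]
        show _ ≤ U.valuation (((u : U) * ρ ^ k : U) : N) / U.valuation (d : N)
        rw [MulMemClass.coe_mul, SubmonoidClass.coe_pow, map_mul, map_pow, (U.valuation_eq_one_iff _).1 u.isUnit, one_mul,
          le_div_iff₀ (zero_lt_iff.2 ((_root_.map_ne_zero _).2 fun h => nonZeroDivisors.ne_zero hd (Subtype.ext h)))]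
        exact mul_le_of_le_one_right zero_le ((U.valuation_le_one_iff _).2 d.2)
      · show U.valuation ξ₁ ≤ 1
        rw [hsplit, hJe, Finset.sum_empty (f := t), add_zero]
        exact hbase _ (Finset.empty_subset _)
    · obtain ⟨j₀, hj₀, hmax⟩ := J.exists_max_image r hJne
      have hr0 : 0 < r j₀ := Nat.mul_pos (hJ j₀ hj₀).1 (pow_pos hp.pos _)
      obtain ⟨e, he⟩ : p ∣ r j₀ := Dvd.dvd.mul_left (dvd_pow_self p (by have := hhN j₀ hj₀; omega)) _
      have he0 : 0 < e := Nat.pos_of_ne_zero fun h => by rw [h, mul_zero] at he; omega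
      let T : F := ⟨1 / X' ^ e, div_mem (one_mem F) (pow_mem hxF _)⟩
      let γ : F := ⟨algebraMap B N (g j₀), hBF _⟩
      refine sameValues_of_leading hwF hgenN T γ ?_ (hBle _) (fun d => ?_) ?_
      · show 1 < U.valuation (1 / X' ^ e)
        rw [map_div₀, map_one, map_pow, one_div, one_lt_inv₀ (pow_pos (zero_lt_iff.2 hX0) e)]
        exact pow_lt_one₀ zero_le hX1 he0.ne'
      · by_contra hlt
        push Not at hlt
        change U.valuation (algebraMap B N (g j₀) - (d : N) ^ p) < 1 at hlt
        have hd : U.valuation (d : N) ≤ 1 := by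
          by_contra hd
          push Not at hd
          refine hlt.not_ge ?_
          rw [U.valuation.map_sub_eq_of_lt_right (by rw [map_pow]; exact (hBle _).trans_lt (one_lt_pow₀ hd hp.ne_zero)), map_pow]
          exact one_le_pow₀ hd.le
        obtain ⟨rr, hrr⟩ := hFspan d
        obtain ⟨b', hb'⟩ := exists_residue (K := L) hπB hUB hQ hωN rr (hrr ▸ (U.valuation_le_one_iff _).1 hd)
        rw [← hrr] at hb'
        have hmem : U.valuation (algebraMap B N (g j₀ - b' ^ p)) < 1 := by
          rw [map_sub, map_pow, show algebraMap B N (g j₀) - algebraMap B N b' ^ p =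
            (algebraMap B N (g j₀) - (d : N) ^ p) + ((d : N) - algebraMap B N b') ^ p by rw [sub_pow_char]; ring]
          exact (U.valuation.map_add _ _).trans_lt (max_lt hlt (by rw [map_pow]; exact pow_lt_one₀ zero_le hb' hp.ne_zero))
        exact hmem.ne (TotRam.valuation_unit U hUB (notMem_maximalIdeal.1 ((hJ j₀ hj₀).2.2 b')))
      · show U.valuation (ξ₁ / (1 / X' ^ e) ^ p - algebraMap B N (g j₀)) < 1
        rw [div_pow, one_pow, ← pow_mul, mul_comm e p, ← he, div_div_eq_mul_div, div_one, hsplit,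
          ← Finset.add_sum_erase J t hj₀]
        simp only [t]
        rw [show ∀ u v : N, (u + (algebraMap B N (g j₀) / X' ^ r j₀ + v)) * X' ^ r j₀ - algebraMap B N (g j₀) =
          u * X' ^ r j₀ + v * X' ^ r j₀ from fun u v => by field_simp; ring, Finset.sum_mul]
        refine (U.valuation.map_add _ _).trans_lt (max_lt ?_ (U.valuation.map_sum_lt one_ne_zero fun j hj => ?_))
        · rw [map_mul, map_pow]
          exact mul_lt_one_of_nonneg_of_lt_one_right (hbase J Finset.Subset.rfl) zero_le (pow_lt_one₀ zero_le hX1 hr0.ne')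
        · obtain ⟨hne, hjJ⟩ := Finset.mem_erase.1 hj
          have hlt : r j < r j₀ := (hmax j hjJ).lt_of_ne fun heq => hne (hdist j hjJ j₀ hj₀ (by
            refine mul_right_cancel₀ (pow_ne_zero N₀ hp.ne_zero) ?_
            calc j * p ^ h j₀ * p ^ N₀ = r j * (p ^ h j * p ^ h j₀) := by
                  simp only [r]
                  rw [show p ^ N₀ = p ^ (N₀ - h j) * p ^ h j by
                    rw [← pow_add, Nat.sub_add_cancel ((Nat.le_succ _).trans (hhN j hjJ))]]
                  ring
              _ = r j₀ * (p ^ h j * p ^ h j₀) := by rw [heq]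
              _ = j₀ * p ^ h j * p ^ N₀ := by
                  simp only [r]
                  rw [show p ^ N₀ = p ^ (N₀ - h j₀) * p ^ h j₀ by
                    rw [← pow_add, Nat.sub_add_cancel ((Nat.le_succ _).trans (hhN j₀ hj₀))]]
                  ring))
          obtain ⟨d, hd⟩ := Nat.exists_eq_add_of_lt hlt
          rw [hd, show algebraMap B N (g j) / X' ^ r j * X' ^ (r j + d + 1) = algebraMap B N (g j) * X' ^ (d + 1) by
            rw [add_assoc, pow_add]; field_simp, map_mul, map_pow]
          exact mul_lt_one_of_nonneg_of_lt_one_right (hBle _) zero_le (pow_lt_one₀ zero_le hX1 d.succ_ne_zero)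
  -- weakly unramified
  letI : Algebra (U.comap ι) U := (EtRam.inclOfComap U ι).toAlgebra
  show (maximalIdeal (U.comap ι)).map (EtRam.inclOfComap U ι) = maximalIdeal U
  refine le_antisymm (Ideal.map_le_iff_le_comap.2 fun v hv => map_nonunit (EtRam.inclOfComap U ι) v hv) fun v hv => ?_
  rcases eq_or_ne v 0 with rfl | hv0
  · exact zero_mem _
  obtain ⟨f, hf⟩ := hsame (v : N) fun h => hv0 (Subtype.ext h)
  have hf0 : f ≠ 0 := fun h => hv0 (Subtype.ext (by
    rw [h, map_zero, map_zero, eq_comm, map_eq_zero] at hf; exact hf))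
  obtain ⟨rr, hrr⟩ := hFspan f
  obtain ⟨l, hl⟩ := exists_valuation_sum hπB hUB hQ hωN rr (by
    by_contra hall
    push Not at hall
    exact hf0 (Subtype.ext (hrr.trans (Finset.sum_eq_zero fun i _ => by rw [hall i, zero_smul]))))
  have hval : U.valuation (v : N) = U.valuation (ι (ω ^ l)) := by
    rw [← hf, show algebraMap F N f = (f : N) from rfl, hrr, hl, map_zpow₀, map_zpow₀]
  have hvlt := valuation_lt_one_of_mem hv
  have hmemV : ω ^ l ∈ U.comap ι := (U.valuation_le_one_iff _).1 (hval ▸ hvlt.le)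
  have hne : ι (ω ^ l) ≠ 0 := fun h => by
    rw [h, map_zero, map_eq_zero] at hval
    exact hv0 (Subtype.ext hval)
  have hqU : (v : N) / ι (ω ^ l) ∈ U := (U.valuation_le_one_iff _).1 (by
    rw [map_div₀, hval, div_self ((_root_.map_ne_zero _).2 hne)])
  rw [show v = (⟨_, hqU⟩ : U) * EtRam.inclOfComap U ι ⟨ω ^ l, hmemV⟩ from Subtype.ext (div_mul_cancel₀ _ hne).symm]
  exact Ideal.mul_mem_left _ _ (Ideal.mem_map_of_mem _
    ((mem_maximalIdeal_comap U ι ⟨ω ^ l, hmemV⟩).2 (hval ▸ hvlt)))

end Groth.Agent.EtSol
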