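import Mathlib
import Groth.Prelude.Def_EtRam
import Groth.Agent.EtSol.ASCases

/-!
# Degree `p` extensions by roots of residually Artin–Schreier polynomials
-/

set_option autoImplicit false
set_option linter.all false
set_option maxHeartbeats 1000000

universe u

open IsLocalRing Polynomial

noncomputable section

namespace Groth.Agent.EtSol

variable {A K L : Type u} [CommRing A] [IsDomain A] [IsDiscreteValuationRing A] [Field K] [Algebra A K]
  [IsFractionRing A K] [Field L] [Algebra K L] [Algebra A L] [IsScalarTower A K L] {p : ℕ} [hp : Fact p.Prime]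
  [FiniteDimensional K L] {π : A} (hπ : Irreducible π) (hdim : Module.finrank K L ≤ p)

include hπ hdim in
/-- A `p`-th root of an element of valuation prime to `p` gives total ramification. -/
theorem totallyRamified_of_pow (y : L) (M : ℕ) (hM : ¬ p ∣ M)
    (hy : ∀ W : ValuationSubring L, EtRam.Dominates A (algebraMap A L) W →
      W.valuation y ^ p = W.valuation (algebraMap A L π) ^ M) :
    EtRam.IsTotallyRamified A (algebraMap A L) ∧ Module.finrank K L = p := by
  obtain ⟨w, -, hw⟩ : ∃ w < p, M * w % p = 1 :=
    Nat.exists_mul_mod_eq_one_of_coprime ((hp.out.coprime_iff_not_dvd.2 hM).symm) hp.out.one_lt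
  obtain ⟨htr, hfr, -⟩ := totallyRamified_of_root (K := K) hπ hp.out.pos hdim
    (ω := y ^ w / algebraMap A L π ^ (M * w / p)) fun W hW => by
    have hπ0 : algebraMap A L π ≠ 0 := by
      rw [IsScalarTower.algebraMap_apply A K L]
      exact (_root_.map_ne_zero _).2 ((map_ne_zero_iff _ (IsFractionRing.injective A K)).2 hπ.ne_zero)
    have hdiv := Nat.mod_add_div (M * w) p
    rw [hw] at hdiv
    rw [map_div₀, map_pow, map_pow, div_pow, ← pow_mul, ← pow_mul, mul_comm w p, pow_mul, hy W hW, ← pow_mul,
      div_eq_iff (pow_ne_zero _ ((_root_.map_ne_zero _).2 hπ0)), ← pow_succ']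
    congr 1
    rw [mul_comm (M * w / p) p]; omega
  exact ⟨htr, hfr⟩

include hπ hdim in
/-- An element with `p`-th power congruent to a non `p`-th power residue gives an inseparable residue extension. -/
theorem inseparable_of_pow [CharP (ResidueField A) p] (s₀ : L) (a : A) (ha : ∀ r : A, residue A a ≠ residue A r ^ p)
    (hsa : ∀ V : ValuationSubring L, EtRam.Dominates A (algebraMap A L) V → V.valuation (algebraMap A L a - s₀ ^ p) < 1) :
    (∃ V : ValuationSubring L, EtRam.Dominates A (algebraMap A L) V) ∧
      (∀ V V' : ValuationSubring L, EtRam.Dominates A (algebraMap A L) V → EtRam.Dominates A (algebraMap A L) V' → V = V') ∧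
      ∀ (V : ValuationSubring L) (h : EtRam.Dominates A (algebraMap A L) V),
        letI : Algebra A V := (RingHom.codRestrict (algebraMap A L) V h.1).toAlgebra
        ∀ [IsLocalHom (algebraMap A V)],
          EtRam.IsWeaklyUnramified A V ∧ IsPurelyInseparable (ResidueField A) (ResidueField V) ∧
            Module.finrank (ResidueField A) (ResidueField V) = p := by
  classical
  have hinj : Function.Injective (algebraMap A L) := by
    rw [IsScalarTower.algebraMap_eq A K L]; exact (algebraMap K L).injective.comp (IsFractionRing.injective A K)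
  have key : ∀ V : ValuationSubring L, EtRam.Dominates A (algebraMap A L) V →
      ∃ (hsV : s₀ ∈ V) (g : (ResidueField (V.comap (algebraMap K L)))[X]), Irreducible g ∧ g.Monic ∧ g.natDegree = p ∧
        g.eval₂ (ResidueField.map (EtRam.inclOfComap V (algebraMap K L))) (residue V ⟨s₀, hsV⟩) = 0 := by
    intro V hV
    have hs1 : V.valuation s₀ ≤ 1 := by
      by_contra hgt
      push Not at hgt
      refine (hsa V hV).not_ge ?_
      rw [V.valuation.map_sub_eq_of_lt_right (by
        rw [map_pow]; exact ((V.valuation_le_one_iff _).2 (hV.1 a)).trans_lt (one_lt_pow₀ hgt hp.out.ne_zero)), map_pow]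
      exact one_le_pow₀ hgt.le
    have hsV : s₀ ∈ V := (V.valuation_le_one_iff _).1 hs1
    let O := V.comap (algebraMap K L)
    have haO : algebraMap A K a ∈ O := by
      show algebraMap K L (algebraMap A K a) ∈ V
      rw [← IsScalarTower.algebraMap_apply]; exact hV.1 a
    refine ⟨hsV, X ^ p - C (residue O ⟨_, haO⟩), X_pow_sub_C_irreducible_of_prime hp.out fun b hb => ?_,
      monic_X_pow_sub_C _ hp.out.ne_zero, natDegree_X_pow_sub_C, ?_⟩
    · obtain ⟨⟨b, hbO⟩, rfl⟩ := residue_surjective b
      obtain ⟨b', rfl⟩ := TotRam.exists_of_valuation_le hV b ((V.valuation_le_one_iff _).2 hbO)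
      rw [← map_pow, ← sub_eq_zero, ← map_sub, residue_eq_zero_iff] at hb
      have h1 := (V.valuation_lt_one_iff _).1 (map_nonunit (EtRam.inclOfComap V (algebraMap K L)) _ hb)
      refine ha b' ?_
      rw [← map_pow, eq_comm, ← sub_eq_zero, ← map_sub, residue_eq_zero_iff]
      by_contra hu
      refine h1.ne ?_
      rw [← TotRam.valuation_unit V hV (notMem_maximalIdeal.1 hu)]
      show V.valuation (algebraMap K L (algebraMap A K b' ^ p - algebraMap A K a)) =
        V.valuation (algebraMap A L (b' ^ p - a))
      rw [IsScalarTower.algebraMap_apply A K L, map_sub (algebraMap A K), map_pow (algebraMap A K)]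
    · rw [eval₂_sub, eval₂_X_pow, eval₂_C, sub_eq_zero, eq_comm, ← map_pow, residue_map_eq_iff]
      show V.valuation (algebraMap K L (algebraMap A K a) - s₀ ^ p) < 1
      rw [← IsScalarTower.algebraMap_apply]; exact hsa V hV
  refine ⟨TotRam.exists_dominates A L _ hinj, fun V V' hV hV' => ?_, fun V hV => ?_⟩
  · obtain ⟨hsV, g, hg, hgm, hgd, hs⟩ := key V hV
    obtain ⟨hsV', g', hg', hgm', hgd', hs'⟩ := key V' hV'
    obtain ⟨-, hmem, -⟩ := inertial_structure hπ hdim hV ⟨s₀, hsV⟩ g hg hgm hgd hs
    obtain ⟨-, hmem', -⟩ := inertial_structure hπ hdim hV' ⟨s₀, hsV'⟩ g' hg' hgm' hgd' hs'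
    exact SetLike.ext fun y => (hmem y).trans (hmem' y).symm
  · letI : Algebra A V := (RingHom.codRestrict (algebraMap A L) V hV.1).toAlgebra
    intro _
    obtain ⟨hsV, g, hg, hgm, hgd, hs⟩ := key V hV
    obtain ⟨-, -, hstr⟩ := inertial_structure hπ hdim hV ⟨s₀, hsV⟩ g hg hgm hgd hs
    obtain ⟨hwu, hfr, hres⟩ := hstr
    haveI : CharP (ResidueField V) p :=
      charP_of_injective_algebraMap (algebraMap (ResidueField A) (ResidueField V)).injective p
    refine ⟨hwu, (isPurelyInseparable_iff_pow_mem (ResidueField A) p).2 fun x => ⟨1, ?_⟩, hfr⟩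
    rw [pow_one]
    obtain ⟨c, rfl⟩ := hres x
    rw [sum_pow_char]
    refine sum_mem fun l _ => ?_
    rw [mul_pow, ← map_pow, ← pow_mul, mul_comm (l : ℕ), pow_mul]
    refine mul_mem ⟨_, rfl⟩ (pow_mem (show residue V ⟨s₀, hsV⟩ ^ p ∈
      (algebraMap (ResidueField A) (ResidueField V)).range from ⟨residue A a, ?_⟩) _)
    rw [← map_pow, show algebraMap (ResidueField A) (ResidueField V) (residue A a) = residue V (algebraMap A V a) from rfl,
      ← sub_eq_zero, ← map_sub, residue_eq_zero_iff]
    exact (V.valuation_lt_one_iff _).2 (hsa V hV)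

variable {P : A[X]} (hPm : P.Monic) (hPd : P.natDegree = p) (hPr : P.map (residue A) = X ^ p - X)
  {ξ : K} {z : L} (hz : aeval z P = algebraMap K L ξ)

include hPm hPd in
/-- The leading power dominates. -/
theorem valuation_aeval_sub_pow {V : ValuationSubring L} (hV : EtRam.Dominates A (algebraMap A L) V) (v : L) :
    (1 ≤ V.valuation v → V.valuation (aeval v P - v ^ p) ≤ V.valuation v ^ (p - 1)) ∧
    (V.valuation v ≤ 1 → V.valuation (aeval v P - v ^ p) ≤ 1) := by
  have h : aeval v P - v ^ p = ∑ i ∈ Finset.range p, algebraMap A L (P.coeff i) * v ^ i := by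
    rw [aeval_eq_sum_range, hPd, Finset.sum_range_succ, show P.coeff p = 1 from hPd ▸ hPm.coeff_natDegree, one_smul,
      add_sub_cancel_right]
    simp only [Algebra.smul_def]
  rw [h]
  refine ⟨fun h1 => V.valuation.map_sum_le fun i hi => ?_, fun h1 => V.valuation.map_sum_le fun i _ => ?_⟩ <;>
    rw [map_mul, map_pow]
  · exact (mul_le_of_le_one_left zero_le ((V.valuation_le_one_iff _).2 (hV.1 _))).trans
      (pow_le_pow_right₀ h1 (by rw [Finset.mem_range] at hi; omega))
  · exact mul_le_one₀ ((V.valuation_le_one_iff _).2 (hV.1 _)) zero_le (pow_le_one₀ zero_le h1)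

include hPm hPd hz in
theorem valuation_polyRoot {V : ValuationSubring L} (hV : EtRam.Dominates A (algebraMap A L) V) :
    (V.valuation (algebraMap K L ξ) ≤ 1 → V.valuation z ≤ 1) ∧
    (1 < V.valuation (algebraMap K L ξ) → 1 < V.valuation z ∧ V.valuation z ^ p = V.valuation (algebraMap K L ξ)) := by
  have hbig : 1 < V.valuation z → V.valuation (algebraMap K L ξ) = V.valuation z ^ p := fun h => by
    rw [← hz, show aeval z P = z ^ p + (aeval z P - z ^ p) by ring, V.valuation.map_add_eq_of_lt_left, map_pow]
    rw [map_pow]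
    exact ((valuation_aeval_sub_pow hPm hPd hV z).1 h.le).trans_lt (pow_lt_pow_right₀ h (by have := hp.out.pos; omega))
  have hsmall : V.valuation z ≤ 1 → V.valuation (algebraMap K L ξ) ≤ 1 := fun h => by
    rw [← hz, show aeval z P = z ^ p + (aeval z P - z ^ p) by ring]
    exact (V.valuation.map_add _ _).trans (max_le (by rw [map_pow]; exact pow_le_one₀ zero_le h)
      ((valuation_aeval_sub_pow hPm hPd hV z).2 h))
  refine ⟨fun h => ?_, fun h => ?_⟩
  · by_contra hgt
    push Not at hgt
    exact (hbig hgt ▸ h).not_gt (one_lt_pow₀ hgt hp.out.ne_zero)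
  · have hgt : 1 < V.valuation z := by
      by_contra hle
      push Not at hle
      exact (hsmall hle).not_gt h
    exact ⟨hgt, (hbig hgt).symm⟩

include hπ hdim hPm hPd hz in
theorem poly_totallyRamified_case (n : ℕ) (a : Aˣ) (hn : 0 < n) (hpn : ¬ p ∣ n)
    (hξ : ξ * algebraMap A K π ^ n = algebraMap A K a) :
    EtRam.IsTotallyRamified A (algebraMap A L) ∧ Module.finrank K L = p := by
  refine totallyRamified_of_pow hπ hdim z⁻¹ n hpn fun W hW => ?_
  have hT1 : W.valuation (algebraMap A L π) < 1 := hW.2 π hπ.not_isUnit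
  have hξv : W.valuation (algebraMap K L ξ) * W.valuation (algebraMap A L π) ^ n = 1 := by
    rw [← map_pow, ← map_mul, IsScalarTower.algebraMap_apply A K L, ← map_pow, ← map_mul, hξ,
      ← IsScalarTower.algebraMap_apply, TotRam.valuation_unit W hW a.isUnit]
  have h1 : 1 < W.valuation (algebraMap K L ξ) := by
    by_contra hle
    push Not at hle
    exact (mul_lt_one_of_nonneg_of_lt_one_right hle zero_le (pow_lt_one₀ zero_le hT1 hn.ne')).ne hξv
  rw [map_inv₀, inv_pow, ((valuation_polyRoot hPm hPd hz hW).2 h1).2]
  exact inv_eq_of_mul_eq_one_right hξv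

include hπ hdim hPm hPd hz in
theorem poly_inseparable_case [CharP (ResidueField A) p] (n : ℕ) (a : A) (hn : 0 < n) (hpn : p ∣ n)
    (ha : ∀ r : A, residue A a ≠ residue A r ^ p) (hξ : ξ * algebraMap A K π ^ n = algebraMap A K a) :
    (∃ V : ValuationSubring L, EtRam.Dominates A (algebraMap A L) V) ∧
      (∀ V V' : ValuationSubring L, EtRam.Dominates A (algebraMap A L) V → EtRam.Dominates A (algebraMap A L) V' → V = V') ∧
      ∀ (V : ValuationSubring L) (h : EtRam.Dominates A (algebraMap A L) V),
        letI : Algebra A V := (RingHom.codRestrict (algebraMap A L) V h.1).toAlgebra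
        ∀ [IsLocalHom (algebraMap A V)],
          EtRam.IsWeaklyUnramified A V ∧ IsPurelyInseparable (ResidueField A) (ResidueField V) ∧
            Module.finrank (ResidueField A) (ResidueField V) = p := by
  obtain ⟨e, rfl⟩ := hpn
  have he : 0 < e := Nat.pos_of_mul_pos_left hn
  refine inseparable_of_pow hπ hdim (z * algebraMap A L π ^ e) a ha fun V hV => ?_
  set T := V.valuation (algebraMap A L π) with hT
  have hT1 : T < 1 := hV.2 π hπ.not_isUnit
  have ha1 : V.valuation (algebraMap A L a) = 1 := TotRam.valuation_unit V hV (notMem_maximalIdeal.1 fun hm =>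
    ha 0 (by rw [map_zero, zero_pow hp.out.ne_zero, (residue_eq_zero_iff a).2 hm]))
  have hξL : algebraMap K L ξ * algebraMap A L π ^ (p * e) = algebraMap A L a := by
    rw [IsScalarTower.algebraMap_apply A K L, ← map_pow, ← map_mul, hξ, ← IsScalarTower.algebraMap_apply]
  have hξv : V.valuation (algebraMap K L ξ) * T ^ (p * e) = 1 := by
    have h := congrArg V.valuation hξL
    rwa [map_mul, map_pow, ha1] at h
  have h1 : 1 < V.valuation (algebraMap K L ξ) := by
    by_contra hle
    push Not at hle
    exact (mul_lt_one_of_nonneg_of_lt_one_right hle zero_le (pow_lt_one₀ zero_le hT1 hn.ne')).ne hξv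
  obtain ⟨hz1, hzp⟩ := (valuation_polyRoot hPm hPd hz hV).2 h1
  rw [show algebraMap A L a - (z * algebraMap A L π ^ e) ^ p = algebraMap A L π ^ (p * e) * (aeval z P - z ^ p) by
    rw [← hξL, hz, mul_pow, ← pow_mul, mul_comm e p]; ring, map_mul, map_pow, ← hT]
  refine (mul_le_mul' le_rfl ((valuation_aeval_sub_pow hPm hPd hV z).1 hz1.le)).trans_lt ?_
  have hTpos : (0 : V.ValueGroup) < T ^ (p * e) := zero_lt_iff.2 fun h => by rw [h, mul_zero] at hξv; exact zero_ne_one hξv
  calc T ^ (p * e) * V.valuation z ^ (p - 1) < T ^ (p * e) * V.valuation z ^ p :=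
        mul_lt_mul_of_pos_left (pow_lt_pow_right₀ hz1 (by have := hp.out.pos; omega)) hTpos
    _ = 1 := by rw [hzp, mul_comm, hξv]

variable [CharP (ResidueField A) p]

include hπ hdim hPm hPd hPr hz in
theorem poly_unramified_case (hgen : ∀ y : L, ∃ u : Fin p → K, y = ∑ i, algebraMap K L (u i) * z ^ (i : ℕ))
    (a : A) (hξ : algebraMap A K a = ξ) : EtRam.IsUnramifiedExt A (algebraMap A L) := by
  classical
  intro V hV
  letI : Algebra A V := (RingHom.codRestrict (algebraMap A L) V hV.1).toAlgebra
  intro _
  have hV' : EtRam.Dominates A ((algebraMap K L).comp (algebraMap A K)) V := by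
    rwa [← IsScalarTower.algebraMap_eq]
  haveI := TameAbh.isDVR_of_dominates (A := A) (K := K) V hV'
  let O := V.comap (algebraMap K L)
  let ι := EtRam.inclOfComap V (algebraMap K L)
  have hξ1 : V.valuation (algebraMap K L ξ) ≤ 1 := by
    rw [← hξ, ← IsScalarTower.algebraMap_apply]; exact (V.valuation_le_one_iff _).2 (hV.1 a)
  have hz1 := (valuation_polyRoot hPm hPd hz hV).1 hξ1
  let zV : V := ⟨z, (V.valuation_le_one_iff _).1 hz1⟩
  let ξO : O := ⟨ξ, (V.valuation_le_one_iff _).1 hξ1⟩
  haveI : CharP (ResidueField V) p :=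
    charP_of_injective_algebraMap (algebraMap (ResidueField A) (ResidueField V)).injective p
  haveI : CharP (ResidueField O) p :=
    (RingHom.charP_iff (ResidueField.map ι) (RingHom.injective _) p).2 inferInstance
  have hevV : aeval zV P = algebraMap A V a := Subtype.ext (by
    show V.subtype (aeval zV P) = algebraMap A L a
    rw [aeval_def, hom_eval₂]
    show eval₂ (algebraMap A L) z P = algebraMap A L a
    rw [← aeval_def, hz, ← hξ, ← IsScalarTower.algebraMap_apply])
  have hevR : ∀ v : V, residue V (aeval v P) = residue V v ^ p - residue V v := fun v => by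
    have h1 : residue V (aeval v P) = eval₂ (algebraMap (ResidueField A) (ResidueField V)) (residue V v) (P.map (residue A)) := by
      rw [eval₂_map, aeval_def, hom_eval₂]; rfl
    rw [h1, hPr, eval₂_sub, eval₂_X_pow, eval₂_X]
  have hzbar : residue V zV ^ p - residue V zV = ResidueField.map ι (residue O ξO) := by
    rw [← hevR, hevV, ResidueField.map_residue]
    congr 1
    exact Subtype.ext (by show algebraMap A L a = algebraMap K L ξ; rw [← hξ, ← IsScalarTower.algebraMap_apply])
  by_cases hroot : ∀ b : ResidueField O, b ^ p - b ≠ residue O ξO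
  · have hlt : (X + C (residue O ξO) : (ResidueField O)[X]).degree < (p : WithBot ℕ) :=
      (degree_X_add_C _).trans_lt (by exact_mod_cast hp.out.one_lt)
    obtain ⟨-, -, hstr⟩ := inertial_structure hπ hdim hV zV _ (irreducible_X_pow_sub_X_sub_C hroot)
      (by rw [sub_sub]; exact monic_X_pow_sub hlt)
      (natDegree_eq_of_degree_eq_some (by
        rw [sub_sub, degree_sub_eq_left_of_degree_lt (by rwa [degree_X_pow]), degree_X_pow]))
      (by rw [eval₂_sub, eval₂_sub, eval₂_X_pow, eval₂_X, eval₂_C, hzbar, sub_self])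
    obtain ⟨hwu, -, hres⟩ := hstr
    refine ⟨hwu, ?_⟩
    have hsep : IsSeparable (ResidueField A) (residue V zV) := by
      refine (show (X ^ p - (X + C (residue A a)) : (ResidueField A)[X]).Separable from ⟨0, C (-1), by
        simp [derivative_X_pow, CharP.cast_eq_zero]⟩).of_dvd (minpoly.dvd _ _ ?_)
      simp only [map_sub, map_add, map_pow, aeval_X, aeval_C]
      have h2 : residue V (algebraMap A V a) = residue V zV ^ p - residue V zV := by rw [← hevV, hevR]
      rw [show algebraMap (ResidueField A) (ResidueField V) (residue A a) = residue V (algebraMap A V a) from rfl, h2]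
      ring
    rw [← separableClosure.eq_top_iff, eq_top_iff]
    intro x _
    obtain ⟨c, rfl⟩ := hres x
    exact sum_mem fun l _ => mul_mem (IntermediateField.algebraMap_mem _ _)
      (pow_mem (mem_separableClosure_iff.2 hsep) _)
  · push Not at hroot
    obtain ⟨b, hb⟩ := hroot
    -- a first approximation
    obtain ⟨f₀, hf₀⟩ : ∃ f : A, residue V (algebraMap A V f) = residue V zV := by
      have hfix : (residue V zV - ResidueField.map ι b) ^ p = residue V zV - ResidueField.map ι b := by
        rw [sub_pow_char]
        rw [← hb, map_sub, map_pow] at hzbar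
        linear_combination hzbar
      obtain ⟨t, ht⟩ : residue V zV - ResidueField.map ι b ∈ (ResidueField.map ι).fieldRange :=
        (bot_le : (⊥ : Subfield (ResidueField V)) ≤ _) ((Subfield.mem_bot_iff_pow_eq_self _ p).2 hfix)
      obtain ⟨⟨f, hf⟩, hfe⟩ := residue_surjective (t + b)
      obtain ⟨f', rfl⟩ := TotRam.exists_of_valuation_le hV f ((V.valuation_le_one_iff _).2 hf)
      refine ⟨f', ?_⟩
      rw [show residue V zV = ResidueField.map ι (residue O ⟨algebraMap A K f', hf⟩) by
        rw [hfe, map_add, ht, sub_add_cancel], ResidueField.map_residue]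
      congr 1
      exact Subtype.ext (by
        show algebraMap A L f' = algebraMap K L (algebraMap A K f'); rw [← IsScalarTower.algebraMap_apply])
    obtain ⟨ρ, hρ⟩ := IsDiscreteValuationRing.exists_irreducible V
    -- Newton approximation
    have happ : ∀ k : ℕ, ∃ f : A, ρ ^ (k + 1) ∣ zV - algebraMap A V f := fun k => by
      induction k with
      | zero =>
        refine ⟨f₀, ?_⟩
        rw [pow_one, ← Ideal.mem_span_singleton, ← hρ.maximalIdeal_eq, ← residue_eq_zero_iff, map_sub, hf₀, sub_self]
      | succ k ih =>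
        obtain ⟨f, hf⟩ := ih
        refine ⟨f + (P.eval f - a), ?_⟩
        set d := algebraMap A V f - zV with hd
        obtain ⟨c, hc⟩ := Polynomial.binomExpansion (P.map (algebraMap A V)) zV d
        have h1 : algebraMap A V (P.eval f) = algebraMap A V a + (derivative (P.map (algebraMap A V))).eval zV * d + c * d ^ 2 := by
          rw [← hevV, ← Polynomial.eval_map_algebraMap, ← hc, hd, add_sub_cancel, Polynomial.eval_map_apply]
        have h2 : zV - algebraMap A V (f + (P.eval f - a)) =
            -d * (1 + (derivative (P.map (algebraMap A V))).eval zV + c * d) := by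
          rw [map_add, map_sub, h1, hd]; ring
        have hdρ : ρ ^ (k + 1) ∣ d := by rw [hd, ← neg_sub]; exact hf.neg_right
        rw [h2, pow_succ]
        refine mul_dvd_mul hdρ.neg_right ?_
        rw [← Ideal.mem_span_singleton, ← hρ.maximalIdeal_eq, ← residue_eq_zero_iff, map_add, map_add, map_mul, map_one]
        have hd0 : residue V d = 0 :=
          (residue_eq_zero_iff d).2 (by
            rw [hρ.maximalIdeal_eq, Ideal.mem_span_singleton]; exact (dvd_pow_self ρ (Nat.succ_ne_zero k)).trans hdρ)
        have hder : residue V ((derivative (P.map (algebraMap A V))).eval zV) = -1 := by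
          rw [derivative_map, eval_map, hom_eval₂, show (residue V).comp (algebraMap A V) =
            (algebraMap (ResidueField A) (ResidueField V)).comp (residue A) from rfl, ← eval₂_map, ← derivative_map, hPr]
          simp [derivative_X_pow, CharP.cast_eq_zero]
        rw [hder, hd0, mul_zero, add_zero, add_neg_cancel]
    have hclose : ∀ y : L, y ≠ 0 → V.valuation y ≤ 1 → ∃ r : A, V.valuation (algebraMap A L r - y) < V.valuation y := by
      intro y hy hy1
      obtain ⟨u, hu⟩ := hgen y
      obtain ⟨i₀, hi₀⟩ : ∃ i, u i ≠ 0 := by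
        by_contra h
        push Not at h
        exact hy (hu.trans (Finset.sum_eq_zero fun l _ => by rw [h l, map_zero, zero_mul]))
      obtain ⟨i, -, hmax⟩ := Finset.exists_max_image (Finset.univ : Finset (Fin p))
        (fun l => V.valuation (algebraMap K L (u l))) ⟨i₀, Finset.mem_univ _⟩
      have hM : (0 : V.ValueGroup) < V.valuation (algebraMap K L (u i)) :=
        (zero_lt_iff.2 ((_root_.map_ne_zero _).2 ((_root_.map_ne_zero _).2 hi₀))).trans_le (hmax i₀ (Finset.mem_univ _))
      obtain ⟨k, hk⟩ := arch_of_dvr (W := V) (y / algebraMap K L (u i)) (ρ : L)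
        (div_ne_zero hy fun h => by rw [h, map_zero] at hM; exact lt_irrefl _ hM) ((V.valuation_lt_one_iff ρ).1 hρ.not_isUnit)
      obtain ⟨f, ⟨c, hc⟩⟩ := happ k
      set g := algebraMap A L f
      have hρ1 : V.valuation (ρ : L) ≤ 1 := (V.valuation_le_one_iff _).2 ρ.2
      have hzg : V.valuation (z - g) ≤ V.valuation (ρ : L) ^ k := by
        rw [show z - g = ((ρ ^ (k + 1) * c : V) : L) from congrArg Subtype.val hc]
        push_cast
        rw [map_mul, map_pow]
        exact (mul_le_of_le_one_right zero_le ((V.valuation_le_one_iff _).2 c.2)).trans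
          (pow_le_pow_of_le_one zero_le hρ1 k.le_succ)
      rw [map_div₀, lt_div_iff₀ hM] at hk
      have hg1 : V.valuation g ≤ 1 := (V.valuation_le_one_iff _).2 (hV.1 f)
      let f' := ∑ l, u l * algebraMap A K f ^ (l : ℕ)
      have hlt : V.valuation (algebraMap K L f' - y) < V.valuation y := by
        simp only [f', map_sum, map_mul, map_pow, ← IsScalarTower.algebraMap_apply]
        conv_lhs => rw [hu, ← Finset.sum_sub_distrib]
        refine V.valuation.map_sum_lt ((_root_.map_ne_zero _).2 hy) fun l _ => lt_of_le_of_lt ?_ hk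
        rw [← mul_sub, map_mul, mul_comm (V.valuation (ρ : L) ^ k)]
        refine mul_le_mul' (hmax l (Finset.mem_univ _)) (le_trans ?_ hzg)
        rw [V.valuation.map_sub_swap z, ← (Commute.all g z).geom_sum₂_mul, map_mul]
        refine mul_le_of_le_one_left zero_le (V.valuation.map_sum_le fun m _ => ?_)
        rw [map_mul, map_pow, map_pow]
        exact mul_le_one₀ (pow_le_one₀ zero_le hg1) zero_le (pow_le_one₀ zero_le hz1)
      have hfv : V.valuation (algebraMap K L f') = V.valuation y := by
        rw [show algebraMap K L f' = y + (algebraMap K L f' - y) by ring, V.valuation.map_add_eq_of_lt_left hlt]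
      obtain ⟨r, hr⟩ := TotRam.exists_of_valuation_le hV f' (hfv.trans_le hy1)
      exact ⟨r, by rwa [IsScalarTower.algebraMap_apply A K L, hr]⟩
    refine ⟨?_, ?_⟩
    · show (maximalIdeal A).map (algebraMap A V) = maximalIdeal V
      refine le_antisymm (Ideal.map_le_iff_le_comap.2 fun r hr => map_nonunit _ r hr) fun y hy => ?_
      rcases eq_or_ne y 0 with rfl | hy0
      · exact zero_mem _
      have hy1 := (V.valuation_lt_one_iff y).1 hy
      obtain ⟨r, hr⟩ := hclose y (fun h => hy0 (Subtype.ext h)) hy1.le
      have hrv : V.valuation (algebraMap A L r) = V.valuation (y : L) := by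
        rw [show algebraMap A L r = (y : L) + (algebraMap A L r - y) by ring, V.valuation.map_add_eq_of_lt_left hr]
      have hrm : r ∈ maximalIdeal A := by
        by_contra hu
        exact hy1.ne (hrv ▸ TotRam.valuation_unit V hV (notMem_maximalIdeal.1 hu))
      have hr0 : algebraMap A L r ≠ 0 := fun h => hy0 (Subtype.ext (by
        rw [h, map_zero, eq_comm, map_eq_zero] at hrv; exact hrv))
      have hq : (y : L) / algebraMap A L r ∈ V := (V.valuation_le_one_iff _).1 (by
        rw [map_div₀, hrv, div_self ((_root_.map_ne_zero _).2 fun h => hy0 (Subtype.ext h))])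
      rw [show y = (⟨_, hq⟩ : V) * algebraMap A V r from Subtype.ext (div_mul_cancel₀ _ hr0).symm]
      exact Ideal.mul_mem_left _ _ (Ideal.mem_map_of_mem _ hrm)
    · refine ⟨fun x => ?_⟩
      obtain ⟨y, rfl⟩ := residue_surjective x
      by_cases hy0 : y = 0
      · rw [hy0, map_zero]; exact (map_zero (algebraMap (ResidueField A) (ResidueField V))) ▸ isSeparable_algebraMap _
      obtain ⟨r, hr⟩ := hclose y (fun h => hy0 (Subtype.ext h)) ((V.valuation_le_one_iff _).2 y.2)
      rw [show residue V y = algebraMap (ResidueField A) (ResidueField V) (residue A r) from by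
        rw [show algebraMap (ResidueField A) (ResidueField V) (residue A r) = residue V (algebraMap A V r) from rfl,
          eq_comm, ← sub_eq_zero, ← map_sub, residue_eq_zero_iff]
        exact (V.valuation_lt_one_iff _).2 (hr.trans_le ((V.valuation_le_one_iff _).2 y.2))]
      exact isSeparable_algebraMap _

end Groth.Agent.EtSol
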