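import Mathlib
import Groth.Prelude.Def_EtRam
import Groth.Agent.EtSol.KumPoly

/-!
# The Kummer trichotomy
-/

set_option autoImplicit false
set_option linter.all false
set_option maxHeartbeats 1000000

universe u

open IsLocalRing Polynomial

noncomputable section

namespace Groth.Agent.EtSol

theorem coeff_one_add_C_mul_X_pow {R : Type u} [CommRing R] (c : R) (n i : ℕ) :
    ((1 + C c * X) ^ n).coeff i = (n.choose i : R) * c ^ i := by
  rw [show (1 + C c * X : R[X]) = (1 + X : R[X]).comp (C c * X) by simp, ← pow_comp, comp_C_mul_X_coeff,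
    coeff_one_add_X_pow]

theorem residue_zeta {A : Type u} [CommRing A] [IsLocalRing A] {p : ℕ} [hp : Fact p.Prime]
    [CharP (ResidueField A) p] {ζ : A} (hζ : ζ ^ p = 1) : residue A ζ = 1 := by
  refine frobenius_inj (ResidueField A) p ?_
  show residue A ζ ^ p = 1 ^ p
  rw [← map_pow, hζ, map_one, one_pow]

theorem kummer_poly {A : Type u} [CommRing A] [IsDomain A] [IsLocalRing A] {p : ℕ} [hp : Fact p.Prime]
    [CharP (ResidueField A) p] [CharZero A] {ζ : A} (hζ : IsPrimitiveRoot ζ p) {P : A[X]}
    (hP : C ((1 - ζ) ^ p) * P = (1 + C (1 - ζ) * X) ^ p - 1) :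
    P.Monic ∧ P.natDegree = p ∧ P.map (residue A) = X ^ p - X := by
  classical
  have hw0 : (1 - ζ) ≠ 0 := fun h => hζ.ne_one hp.out.one_lt (sub_eq_zero.1 h).symm
  have hco : ∀ i, (1 - ζ) ^ p * P.coeff i = (p.choose i : A) * (1 - ζ) ^ i - if i = 0 then 1 else 0 := fun i => by
    rw [← coeff_C_mul, hP, coeff_sub, coeff_one_add_C_mul_X_pow, coeff_one]
  have hres : residue A ζ = 1 := residue_zeta hζ.pow_eq_one
  have hwm : residue A (1 - ζ) = 0 := by rw [map_sub, map_one, hres, sub_self]
  have hPp : P.coeff p = 1 := by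
    have h := hco p
    rw [Nat.choose_self, Nat.cast_one, one_mul, if_neg hp.out.ne_zero, sub_zero] at h
    exact mul_left_cancel₀ (pow_ne_zero p hw0) (h.trans (mul_one _).symm)
  have hPgt : ∀ i, p < i → P.coeff i = 0 := fun i hi => by
    have h := hco i
    rw [Nat.choose_eq_zero_of_lt hi, Nat.cast_zero, zero_mul, if_neg (by omega), sub_zero] at h
    exact (mul_eq_zero.1 h).resolve_left (pow_ne_zero p hw0)
  have hP0 : P.coeff 0 = 0 := by
    have h := hco 0
    rw [Nat.choose_zero_right, Nat.cast_one, one_mul, pow_zero, if_pos rfl, sub_self] at h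
    exact (mul_eq_zero.1 h).resolve_left (pow_ne_zero p hw0)
  have hdeg : P.natDegree = p :=
    le_antisymm (natDegree_le_iff_coeff_eq_zero.2 hPgt) (le_natDegree_of_ne_zero (by rw [hPp]; exact one_ne_zero))
  -- the linear coefficient
  obtain ⟨m, hm⟩ : ∃ m, p = m + 1 := ⟨p - 1, (Nat.sub_add_cancel hp.out.one_le).symm⟩
  let S : ℕ → A := fun i => ∑ l ∈ Finset.range i, ζ ^ l
  have hprod : (p : A) = (1 - ζ) ^ m * ∏ i ∈ Finset.range m, S (i + 1) := by
    have h1 : (X : A[X]) ^ p - C 1 = ∏ i ∈ Finset.range p, (X - C (ζ ^ i * 1)) :=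
      X_pow_sub_C_eq_prod hζ hp.out.pos (one_pow p)
    simp only [mul_one, map_one] at h1
    have h2 : (∑ i ∈ Finset.range p, (X : A[X]) ^ i) = ∏ i ∈ Finset.range m, (X - C (ζ ^ (i + 1))) := by
      refine mul_right_cancel₀ (b := (X - 1 : A[X])) (monic_X_sub_C (1 : A) |>.ne_zero |> fun h => by simpa using h) ?_
      rw [geom_sum_mul, h1, hm, Finset.prod_range_succ' (fun i => X - C (ζ ^ i)), pow_zero, map_one]
    have h3 := congrArg (eval 1) h2
    simp only [eval_finset_sum, eval_pow, eval_X, one_pow, Finset.sum_const, Finset.card_range, nsmul_eq_mul, mul_one,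
      eval_prod, eval_sub, eval_C] at h3
    rw [h3, Finset.prod_congr rfl fun i _ => (mul_neg_geom_sum ζ (i + 1)).symm, Finset.prod_mul_distrib,
      Finset.prod_const, Finset.card_range]
  have hP1 : P.coeff 1 = ∏ i ∈ Finset.range m, S (i + 1) := by
    have h := hco 1
    rw [Nat.choose_one_right, pow_one, if_neg one_ne_zero, sub_zero, hprod,
      show (1 - ζ) ^ p = (1 - ζ) ^ m * (1 - ζ) by rw [hm, pow_succ]] at h
    refine mul_left_cancel₀ (mul_ne_zero (pow_ne_zero m hw0) hw0) ?_
    linear_combination h
  have hP1r : residue A (P.coeff 1) = -1 := by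
    rw [hP1, map_prod, Finset.prod_congr rfl fun i _ => show residue A (S (i + 1)) = ((i + 1 : ℕ) : ResidueField A) by
      simp only [S]; rw [map_sum]; simp [map_pow, hres], ← Nat.cast_prod,
      Finset.prod_range_add_one_eq_factorial, show m = p - 1 by omega]
    have h := congrArg (ZMod.castHom (dvd_refl p) (ResidueField A)) (ZMod.wilsons_lemma p)
    rwa [map_natCast, map_neg, map_one] at h
  refine ⟨?_, hdeg, Polynomial.ext fun i => ?_⟩
  · rw [Monic, leadingCoeff, hdeg, hPp]
  rw [coeff_map, coeff_sub, coeff_X_pow, coeff_X]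
  rcases lt_trichotomy i p with hi | rfl | hi
  · rw [if_neg hi.ne]
    rcases Nat.lt_or_ge i 2 with h2 | h2
    · rcases Nat.lt_or_ge i 1 with h1 | h1
      · rw [show i = 0 by omega, hP0, map_zero, if_neg (by omega), sub_zero]
      · rw [show i = 1 by omega, hP1r, if_pos rfl, zero_sub]
    · rw [if_neg (by omega), sub_zero]
      obtain ⟨k, hk⟩ := hp.out.dvd_choose_self (by omega : i ≠ 0) hi
      have h := hco i
      rw [if_neg (by omega), sub_zero, hk, Nat.cast_mul, hprod] at h
      have hPi : P.coeff i = (k : A) * P.coeff 1 * (1 - ζ) ^ (i - 1) := by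
        refine mul_left_cancel₀ (pow_ne_zero p hw0) (h.trans ?_)
        obtain ⟨d, rfl⟩ : ∃ d, i = d + 1 := ⟨i - 1, by omega⟩
        rw [hP1, Nat.add_sub_cancel, show (1 - ζ) ^ p = (1 - ζ) ^ m * (1 - ζ) by rw [hm, pow_succ]]
        ring
      rw [hPi, map_mul, map_pow, hwm, zero_pow (by omega), mul_zero]
  · rw [if_pos rfl, if_neg hp.out.one_lt.ne, hPp, map_one, sub_zero]
  · rw [if_neg hi.ne', hPgt i hi, map_zero, if_neg (by have := hp.out.one_lt; omega), sub_zero]

theorem kummer_cases (p : ℕ) (hp : p.Prime) (A K L : Type u) [CommRing A] [IsDomain A]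
    [IsDiscreteValuationRing A] [Field K] [Algebra A K] [IsFractionRing A K] [Field L] [Algebra K L] [Algebra A L]
    [IsScalarTower A K L] [CharZero K] [CharP (IsLocalRing.ResidueField A) p] (ζ : A)
    (hζ : aeval ζ (cyclotomic p ℤ) = 0) (P : A[X]) (hP : C ((1 - ζ) ^ p) * P = (1 + C (1 - ζ) * X) ^ p - 1) (π : A) (hπ : IsLocalRing.maximalIdeal A = Ideal.span {π})
    (ξ : K) (z : L) (hz : aeval z P = algebraMap K L ξ) (hgen : IntermediateField.adjoin K {z} = ⊤) :
    let g : A →+* L := algebraMap A L
    let case1 : Prop := Module.finrank K L = 1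
    let case2 : Prop := EtRam.IsUnramifiedExt A g ∧ Module.finrank K L = p
    let case3 : Prop := EtRam.IsTotallyRamified A g ∧ Module.finrank K L = p
    let case4 : Prop := (∃ V : ValuationSubring L, EtRam.Dominates A g V) ∧
      (∀ V V' : ValuationSubring L, EtRam.Dominates A g V → EtRam.Dominates A g V' → V = V') ∧
      ∀ (V : ValuationSubring L) (h : EtRam.Dominates A g V),
        letI : Algebra A V := (RingHom.codRestrict g V h.1).toAlgebra
        ∀ [IsLocalHom (algebraMap A V)],
          EtRam.IsWeaklyUnramified A V ∧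
            IsPurelyInseparable (IsLocalRing.ResidueField A) (IsLocalRing.ResidueField V) ∧
            Module.finrank (IsLocalRing.ResidueField A) (IsLocalRing.ResidueField V) = p
    IsGalois K L ∧ (case1 ∨ case2 ∨ case3 ∨ case4) ∧
      ((∃ a : A, algebraMap A K a = ξ) → case1 ∨ case2) ∧
      (∀ (n : ℕ) (a : Aˣ), 0 < n → ¬ p ∣ n → ξ * algebraMap A K π ^ n = algebraMap A K a → case3) ∧
      (∀ (n : ℕ) (a : A), 0 < n → p ∣ n → (∀ r : A, IsLocalRing.residue A a ≠ IsLocalRing.residue A r ^ p) →
          ξ * algebraMap A K π ^ n = algebraMap A K a → case4) := by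
  classical
  haveI := Fact.mk hp
  intro g case1 case2 case3 case4
  have hπi : Irreducible π := (IsDiscreteValuationRing.irreducible_iff_uniformizer π).2 hπ
  haveI : CharZero A := (RingHom.charZero_iff (IsFractionRing.injective A K)).2 inferInstance
  haveI : CharZero L := charZero_of_injective_algebraMap (algebraMap K L).injective
  haveI : NeZero (p : A) := ⟨Nat.cast_ne_zero.2 hp.ne_zero⟩
  have hζA : IsPrimitiveRoot ζ p := by
    refine (isRoot_cyclotomic_iff (n := p) (R := A)).1 ?_
    rw [IsRoot.def, ← map_cyclotomic p (algebraMap ℤ A), eval_map, ← aeval_def, hζ]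
  have hinjA : Function.Injective (algebraMap A K) := IsFractionRing.injective A K
  have hinjL : Function.Injective (algebraMap A L) := by
    rw [IsScalarTower.algebraMap_eq A K L]; exact (algebraMap K L).injective.comp hinjA
  obtain ⟨hPm, hPd, hPr⟩ := kummer_poly hζA hP
  obtain ⟨w, hwdef⟩ : ∃ w, w = 1 - ζ := ⟨_, rfl⟩
  rw [← hwdef] at hP
  have hw0 : w ≠ 0 := fun h => hζA.ne_one hp.one_lt (sub_eq_zero.1 (hwdef ▸ h)).symm
  have hwm : w ∈ maximalIdeal A := by
    rw [← residue_eq_zero_iff, hwdef, map_sub, map_one, residue_zeta hζA.pow_eq_one, sub_self]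
  have hyK : ∀ y : K, algebraMap A K w ^ p * aeval y P = (1 + algebraMap A K w * y) ^ p - 1 := fun y => by
    have h := congrArg (aeval y) hP
    simpa [map_mul, map_sub, map_add, map_pow] using h
  have hyL : ∀ v : L, algebraMap A L w ^ p * aeval v P = (1 + algebraMap A L w * v) ^ p - 1 := fun v => by
    have h := congrArg (aeval v) hP
    simpa [map_mul, map_sub, map_add, map_pow] using h
  have hwK : algebraMap A K w ≠ 0 := (map_ne_zero_iff _ hinjA).2 hw0
  have hwL : algebraMap A L w ≠ 0 := (map_ne_zero_iff _ hinjL).2 hw0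
  let η : K := 1 + algebraMap A K w ^ p * ξ
  let y : L := 1 + algebraMap A L w * z
  have hy : y ^ p = algebraMap K L η := by
    simp only [η, y]
    rw [map_add, map_one, map_mul, map_pow, ← IsScalarTower.algebraMap_apply, ← hz]
    linear_combination -hyL z
  let f : K[X] := P.map (algebraMap A K) - C ξ
  have hlt : (C ξ : K[X]).degree < (P.map (algebraMap A K)).degree := by
    rw [hPm.degree_map, degree_eq_natDegree hPm.ne_zero, hPd]
    exact degree_C_le.trans_lt (by exact_mod_cast hp.pos)
  have hfm : f.Monic := (hPm.map _).sub_of_left hlt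
  have hfn : f.natDegree = p := by
    rw [natDegree_sub_C, hPm.natDegree_map, hPd]
  have hfz : aeval z f = 0 := by
    simp only [f, map_sub, aeval_map_algebraMap, aeval_C, hz, sub_self]
  have hint : IsIntegral K z := ⟨f, hfm, by rwa [← aeval_def]⟩
  haveI : FiniteDimensional K L := by
    haveI := IntermediateField.adjoin.finiteDimensional hint
    exact ((IntermediateField.equivOfEq hgen).trans IntermediateField.topEquiv).toLinearEquiv.finiteDimensional
  have hdim : Module.finrank K L ≤ p := by
    rw [← IntermediateField.finrank_top' (F := K) (E := L), ← hgen, IntermediateField.adjoin.finrank hint]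
    exact (natDegree_le_natDegree (minpoly.min K z hfm hfz)).trans_eq hfn
  have hmem : ∀ v : L, ∃ Q : K[X], aeval z Q = v := fun v => by
    have h : v ∈ (IntermediateField.adjoin K {z}).toSubalgebra := by rw [hgen]; trivial
    rw [IntermediateField.adjoin_simple_toSubalgebra_of_isAlgebraic (Algebra.IsAlgebraic.isAlgebraic _),
      Algebra.adjoin_singleton_eq_range_aeval] at h
    exact h
  -- degree one or p
  have hK1 : (∃ r : K, algebraMap K L r = y) → case1 := by
    rintro ⟨r, hr⟩
    have hzr : z = algebraMap K L ((r - 1) / algebraMap A K w) := by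
      rw [map_div₀, map_sub, map_one, hr, ← IsScalarTower.algebraMap_apply]
      simp only [y]; field_simp; ring
    show Module.finrank K L = 1
    rw [← IntermediateField.finrank_top' (F := K) (E := L), ← hgen, IntermediateField.adjoin.finrank hint,
      minpoly.natDegree_eq_one_iff]
    exact ⟨_, hzr.symm⟩
  have hy0 : η = 0 → case1 := fun h => hK1 ⟨0, by rw [h, map_zero] at hy; rw [map_zero, eq_zero_of_pow_eq_zero hy]⟩
  have hgen_y : IntermediateField.adjoin K {y} = ⊤ := by
    refine top_le_iff.1 (hgen ▸ IntermediateField.adjoin_simple_le_iff.2 ?_)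
    have h := IntermediateField.mem_adjoin_simple_self K y
    rw [show z = (y - 1) / algebraMap K L (algebraMap A K w) by
      rw [← IsScalarTower.algebraMap_apply]; simp only [y]; field_simp; ring]
    exact div_mem (sub_mem h (one_mem _)) (IntermediateField.algebraMap_mem _ _)
  have hyint : IsIntegral K y := Algebra.IsIntegral.isIntegral y
  let ζK := algebraMap A K ζ
  have hζK : IsPrimitiveRoot ζK p := hζA.map_of_injective hinjA
  have h01 : case1 ∨ (Module.finrank K L = p ∧ Irreducible (X ^ p - C η : K[X])) := by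
    by_cases h : ∀ r : K, r ^ p ≠ η
    · right
      have hirr := X_pow_sub_C_irreducible_of_prime hp h
      refine ⟨?_, hirr⟩
      rw [← IntermediateField.finrank_top' (F := K) (E := L), ← hgen_y, IntermediateField.adjoin.finrank hyint,
        ← minpoly.eq_of_irreducible_of_monic hirr (by simp [hy]) (monic_X_pow_sub_C _ hp.ne_zero),
        natDegree_X_pow_sub_C]
    · left
      push Not at h
      obtain ⟨r, hr⟩ := h
      rcases eq_or_ne r 0 with rfl | hr0
      · exact hy0 (by rw [← hr, zero_pow hp.ne_zero])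
      obtain ⟨i, -, hi⟩ := (hζK.map_of_injective (algebraMap K L).injective).eq_pow_of_pow_eq_one
        (show (y / algebraMap K L r) ^ p = 1 by
          rw [div_pow, hy, ← map_pow, hr, div_self]
          rw [← hr]; exact (_root_.map_ne_zero _).2 (pow_ne_zero _ hr0))
      exact hK1 ⟨ζK ^ i * r, by rw [map_mul, map_pow, hi, div_mul_cancel₀ _ (by simpa using hr0)]⟩
  have hsubst : ∀ (z' : L) (ξ' : K), aeval z' P = algebraMap K L ξ' → (∃ u v : K, z = algebraMap K L u + algebraMap K L v * z') →
      (∃ a : A, algebraMap A K a = ξ') → case1 ∨ case2 := by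
    rintro z' ξ' hz' ⟨u, v, huv⟩ ⟨a, ha⟩
    refine h01.imp id fun h => ⟨poly_unramified_case hπi hdim hPm hPd hPr hz' (fun x => ?_) a ha, h.1⟩
    obtain ⟨Q, rfl⟩ := hmem x
    have hlt' : (C ξ' : K[X]).degree < (P.map (algebraMap A K)).degree := by
      rw [hPm.degree_map, degree_eq_natDegree hPm.ne_zero, hPd]
      exact degree_C_le.trans_lt (by exact_mod_cast hp.pos)
    obtain ⟨c, hc⟩ := exists_coeff_fin (algebraMap K L) (P.map (algebraMap A K) - C ξ') ((hPm.map _).sub_of_left hlt')
      p hp.pos (by rw [natDegree_sub_C, hPm.natDegree_map, hPd]) z'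
      (by rw [← aeval_def]; simp only [map_sub, aeval_map_algebraMap, aeval_C, hz', sub_self]) (Q.comp (C u + C v * X))
    refine ⟨c, ?_⟩
    rw [← hc, eval₂_comp, eval₂_add, eval₂_mul, eval₂_X, eval₂_C, eval₂_C, ← huv]
    rfl
  have hid : ∃ u v : K, z = algebraMap K L u + algebraMap K L v * z := ⟨0, 1, by rw [map_zero, map_one, zero_add, one_mul]⟩
  refine ⟨?_, ?_, fun h => hsubst z ξ hz hid h,
    fun n a hn hpn ha => poly_totallyRamified_case hπi hdim hPm hPd hz n a hn hpn ha,
    fun n a hn hpn hr ha => poly_inseparable_case hπi hdim hPm hPd hz n a hn hpn hr ha⟩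
  · rcases h01 with h1 | ⟨hfr, hirr⟩
    · have hb : Function.Bijective (Algebra.ofId K L) := by
        have : (⊥ : Subalgebra K L) = ⊤ := Subalgebra.bot_eq_top_of_finrank_eq_one h1
        exact ⟨(algebraMap K L).injective, fun x => Algebra.mem_bot.1 (this ▸ Algebra.mem_top)⟩
      exact IsGalois.of_algEquiv (AlgEquiv.ofBijective (Algebra.ofId K L) hb)
    · have hne : (primitiveRoots p K).Nonempty := ⟨ζK, (mem_primitiveRoots hp.pos).2 hζK⟩
      rw [← hfr] at hne hirr hy
      haveI := isSplittingField_X_pow_sub_C_of_root_adjoin_eq_top hne hy hgen_y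
      exact isGalois_of_isSplittingField_X_pow_sub_C hne hirr L
  · obtain ⟨vw, uw, huw⟩ := IsDiscreteValuationRing.eq_unit_mul_pow_irreducible hw0 hπi
    have hvw : 0 < vw := Nat.pos_of_ne_zero fun h => (IsLocalRing.mem_maximalIdeal w).1 hwm (by
      rw [huw, h, pow_zero, mul_one]; exact uw.isUnit)
    have hπK : algebraMap A K π ≠ 0 := (map_ne_zero_iff _ hinjA).2 hπi.ne_zero
    have reduce : ∀ n, n < p * vw → ∀ (ξ' : K) (z' : L) (a : A), aeval z' P = algebraMap K L ξ' →
        (∃ u v : K, z = algebraMap K L u + algebraMap K L v * z') →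
        ξ' * algebraMap A K π ^ n = algebraMap A K a → case1 ∨ case2 ∨ case3 ∨ case4 := by
      intro n
      induction n using Nat.strong_induction_on with
      | _ n ih =>
      intro hn ξ' z' a hz' hsub ha
      rcases n with _ | n
      · exact (hsubst z' ξ' hz' hsub ⟨a, by rw [← ha, pow_zero, mul_one]⟩).imp id Or.inl
      have hdown : ∀ (ξ : K) (d : A), ξ * algebraMap A K π ^ (n + 1) = algebraMap A K (π * d) →
          ξ * algebraMap A K π ^ n = algebraMap A K d := fun ξ d h => mul_right_cancel₀ hπK (by
        rw [mul_assoc, ← pow_succ, h, map_mul, mul_comm])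
      by_cases hu : IsUnit a
      swap
      · have hm : a ∈ maximalIdeal A := hu
        rw [hπi.maximalIdeal_eq, Ideal.mem_span_singleton] at hm
        obtain ⟨d, rfl⟩ := hm
        exact ih n n.lt_succ_self (by omega) ξ' z' d hz' hsub (hdown ξ' d ha)
      by_cases hdvd : p ∣ n + 1
      swap
      · exact Or.inr (Or.inr (Or.inl (poly_totallyRamified_case hπi hdim hPm hPd hz' (n + 1) hu.unit n.succ_pos hdvd ha)))
      by_cases hr : ∀ r : A, residue A a ≠ residue A r ^ p
      · exact Or.inr (Or.inr (Or.inr (poly_inseparable_case hπi hdim hPm hPd hz' (n + 1) a n.succ_pos hdvd hr ha)))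
      push Not at hr
      obtain ⟨r, hr⟩ := hr
      obtain ⟨e, he⟩ := hdvd
      have hevw : e < vw := Nat.lt_of_mul_lt_mul_left (a := p) (by omega)
      let y₀ : K := algebraMap A K r / algebraMap A K π ^ e
      let t : A := (uw : A) * r * π ^ (vw - e)
      have hu1 : IsUnit (1 + t) := by
        refine notMem_maximalIdeal.1 fun h => ?_
        rw [← residue_eq_zero_iff, map_add, map_one, map_mul, map_pow,
          (residue_eq_zero_iff π).2 hπi.not_isUnit, zero_pow (by omega), mul_zero, add_zero] at h
        exact one_ne_zero h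
      have hwy : 1 + algebraMap A K w * y₀ = algebraMap A K (1 + t) := by
        simp only [y₀, t]
        rw [huw, map_add, map_one, map_mul, map_mul, map_mul, map_pow, map_pow,
          show algebraMap A K π ^ vw = algebraMap A K π ^ (vw - e) * algebraMap A K π ^ e by
            rw [← pow_add, Nat.sub_add_cancel hevw.le]]
        field_simp
      have hu1K : algebraMap A K (1 + t) ≠ 0 := (hu1.map (algebraMap A K)).ne_zero
      have hu1L : algebraMap A L (1 + t) ≠ 0 := (hu1.map (algebraMap A L)).ne_zero
      let z'' : L := (z' - algebraMap K L y₀) / algebraMap A L (1 + t)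
      let ξ'' : K := (ξ' - aeval y₀ P) / algebraMap A K (1 + t) ^ p
      have hz'' : aeval z'' P = algebraMap K L ξ'' := by
        refine mul_left_cancel₀ (pow_ne_zero p hwL) ?_
        have h1 : 1 + algebraMap A L w * z'' = (1 + algebraMap A L w * z') / algebraMap A L (1 + t) := by
          simp only [z'']
          have hwy' := congrArg (algebraMap K L) hwy
          rw [map_add, map_one, map_mul, ← IsScalarTower.algebraMap_apply, ← IsScalarTower.algebraMap_apply] at hwy'
          field_simp
          linear_combination -hwy'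
        have h2 : algebraMap A L w ^ p * algebraMap K L (aeval y₀ P) = algebraMap A L (1 + t) ^ p - 1 := by
          rw [IsScalarTower.algebraMap_apply A K L, IsScalarTower.algebraMap_apply A K L (1 + t), ← map_pow,
            ← map_mul, hyK, hwy, map_sub, map_pow, map_one]
        rw [hyL, h1, div_pow, map_div₀, map_sub, map_pow, ← IsScalarTower.algebraMap_apply, ← hz']
        field_simp
        linear_combination h2 - hyL z'
      obtain ⟨d, hd⟩ : ∃ d : A, (ξ' - aeval y₀ P) * algebraMap A K π ^ (n + 1) = algebraMap A K (π * d) := by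
        rw [← map_pow (residue A), ← sub_eq_zero, ← map_sub, residue_eq_zero_iff, hπi.maximalIdeal_eq,
          Ideal.mem_span_singleton] at hr
        obtain ⟨d₀, hd₀⟩ := hr
        have hterm : ∀ i ∈ Finset.range p, algebraMap A K (P.coeff i) * y₀ ^ i * algebraMap A K π ^ (n + 1) =
            algebraMap A K (π * (P.coeff i * r ^ i * π ^ (n - e * i))) := fun i hi => by
          rw [Finset.mem_range] at hi
          have hle : e * i + 1 ≤ n + 1 := by
            have h1 : 0 < e := Nat.pos_of_ne_zero fun h => by rw [h, mul_zero] at he; omega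
            have h2 : e * i + e ≤ e * p := by rw [← Nat.mul_succ]; exact Nat.mul_le_mul_left e hi
            rw [mul_comm p e] at he; omega
          simp only [y₀]
          rw [show algebraMap A K π ^ (n + 1) = algebraMap A K π * algebraMap A K π ^ (n - e * i) *
              algebraMap A K π ^ (e * i) by rw [← pow_succ', ← pow_add]; congr 1; omega,
            map_mul, map_mul, map_mul, map_pow, map_pow, div_pow, ← pow_mul]
          field_simp
        refine ⟨d₀ - ∑ i ∈ Finset.range p, P.coeff i * r ^ i * π ^ (n - e * i), ?_⟩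
        rw [mul_sub π, Finset.mul_sum, map_sub, map_sum, ← Finset.sum_congr rfl hterm, ← Finset.sum_mul,
          ← hd₀, map_sub, ← ha]
        rw [aeval_eq_sum_range, hPd, Finset.sum_range_succ, show P.coeff p = 1 from hPd ▸ hPm.coeff_natDegree, one_smul]
        simp only [Algebra.smul_def, y₀]
        rw [div_pow (algebraMap A K r), ← pow_mul, mul_comm e p, ← he, map_pow]
        field_simp
        ring
      refine ih n n.lt_succ_self (by omega) ξ'' z'' (d * ↑(hu1.unit⁻¹) ^ p) hz'' ?_ ?_
      · obtain ⟨u, v, huv⟩ := hsub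
        refine ⟨u + v * y₀, v * algebraMap A K (1 + t), ?_⟩
        simp only [z'']
        rw [huv, map_add, map_mul, map_mul, ← IsScalarTower.algebraMap_apply]
        field_simp
        ring
      · simp only [ξ'']
        rw [div_mul_eq_mul_div, hdown _ d hd, map_mul, map_pow, map_units_inv, IsUnit.unit_spec]
        field_simp
        rw [one_div, inv_pow, mul_inv_cancel_right₀ (pow_ne_zero _ hu1K)]
    -- the first step, on `1 + w ^ p ξ`
    by_cases hη : η = 0
    · exact Or.inl (hy0 hη)
    obtain ⟨a, b, hb, hab⟩ := IsFractionRing.div_surjective (A := A) η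
    have hb0 : b ≠ 0 := nonZeroDivisors.ne_zero hb
    have ha0 : a ≠ 0 := fun h => hη (by rw [← hab, h, map_zero, zero_div])
    obtain ⟨m, ua, hua⟩ := IsDiscreteValuationRing.eq_unit_mul_pow_irreducible ha0 hπi
    obtain ⟨k, ub, hub⟩ := IsDiscreteValuationRing.eq_unit_mul_pow_irreducible hb0 hπi
    let M := m + k * (p - 1)
    let u : A := (ua : A) * ↑ub⁻¹
    have hu : IsUnit u := ua.isUnit.mul ub⁻¹.isUnit
    let y₁ : L := y * algebraMap A L π ^ k
    have hy₁ : y₁ ^ p = algebraMap A L u * algebraMap A L π ^ M := by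
      have hηk : η * algebraMap A K π ^ (k * p) = algebraMap A K (u * π ^ M) := by
        rw [← hab, hua, hub]
        simp only [u, M]
        have hub0 : algebraMap A K (ub : A) ≠ 0 := (ub.isUnit.map (algebraMap A K)).ne_zero
        rw [map_mul, map_mul, map_mul, map_mul, map_pow, map_pow, map_pow, map_units_inv,
          show algebraMap A K π ^ (k * p) = algebraMap A K π ^ (k * (p - 1)) * algebraMap A K π ^ k by
            rw [← pow_add, ← Nat.mul_succ, Nat.succ_eq_add_one, Nat.sub_add_cancel hp.one_le], pow_add]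
        field_simp
      simp only [y₁]
      rw [mul_pow, hy, ← pow_mul, IsScalarTower.algebraMap_apply A K L π, ← map_pow, ← map_mul, hηk,
        ← IsScalarTower.algebraMap_apply, map_mul, map_pow, IsScalarTower.algebraMap_apply A K L π]
    by_cases hMp : p ∣ M
    swap
    · refine Or.inr (Or.inr (Or.inl (totallyRamified_of_pow hπi hdim y₁ M hMp fun W hW => ?_)))
      rw [← map_pow, hy₁, map_mul, map_pow, TotRam.valuation_unit W hW hu, one_mul]
    obtain ⟨e, he⟩ := hMp
    have hπL : algebraMap A L π ≠ 0 := (map_ne_zero_iff _ hinjL).2 hπi.ne_zero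
    let y₂ : L := y₁ / algebraMap A L π ^ e
    have hy₂ : y₂ ^ p = algebraMap A L u := by
      simp only [y₂]
      rw [div_pow, hy₁, ← pow_mul, mul_comm e p, ← he, mul_div_cancel_right₀ _ (pow_ne_zero _ hπL)]
    by_cases hr : ∀ r : A, residue A u ≠ residue A r ^ p
    · refine Or.inr (Or.inr (Or.inr (inseparable_of_pow hπi hdim y₂ u hr fun V hV => ?_)))
      rw [hy₂, sub_self, map_zero]; exact zero_lt_one
    push Not at hr
    obtain ⟨r, hr⟩ := hr
    have hru : IsUnit r := notMem_maximalIdeal.1 fun h => by
      rw [(residue_eq_zero_iff r).2 h, zero_pow hp.ne_zero, residue_eq_zero_iff] at hr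
      exact (IsLocalRing.mem_maximalIdeal u).1 hr hu
    rw [← map_pow (residue A), ← sub_eq_zero, ← map_sub, residue_eq_zero_iff, hπi.maximalIdeal_eq,
      Ideal.mem_span_singleton] at hr
    obtain ⟨d, hd⟩ := hr
    have hrL : algebraMap A L r ≠ 0 := (hru.map (algebraMap A L)).ne_zero
    let ri : A := ↑(hru.unit⁻¹)
    have hri : r * ri = 1 := hru.mul_val_inv
    let uwi : A := ↑(uw⁻¹)
    let z₃ : L := (y₂ * algebraMap A L ri - 1) / algebraMap A L w
    let ξ₃ : K := algebraMap A K (d * π * ri ^ p) / algebraMap A K w ^ p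
    have hz₃ : aeval z₃ P = algebraMap K L ξ₃ := by
      refine mul_left_cancel₀ (pow_ne_zero p hwL) ?_
      have h1 : 1 + algebraMap A L w * z₃ = y₂ * algebraMap A L ri := by simp only [z₃]; field_simp; ring
      have h2 : u * ri ^ p - 1 = d * π * ri ^ p := by
        have h3 : r ^ p * ri ^ p = 1 := by rw [← mul_pow, hri, one_pow]
        linear_combination ri ^ p * hd + h3
      rw [hyL, h1, mul_pow, hy₂, map_div₀, map_pow, ← IsScalarTower.algebraMap_apply, ← IsScalarTower.algebraMap_apply,
        mul_div_cancel₀ _ (pow_ne_zero p hwL), ← h2]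
      simp only [map_sub, map_mul, map_pow, map_one, u]
    refine reduce (p * vw - 1) (by have := Nat.mul_pos hp.pos hvw; omega) ξ₃ z₃ (d * ri ^ p * uwi ^ p) hz₃ ?_ ?_
    · refine ⟨(algebraMap A K r * algebraMap A K π ^ e / algebraMap A K π ^ k - 1) / algebraMap A K w,
        algebraMap A K r * algebraMap A K π ^ e / algebraMap A K π ^ k, ?_⟩
      simp only [map_div₀, map_sub, map_one, map_mul, map_pow, ← IsScalarTower.algebraMap_apply]
      have h1 : algebraMap A L w * z₃ = y₂ * algebraMap A L ri - 1 := by simp only [z₃]; field_simp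
      have hri' : algebraMap A L r * algebraMap A L ri = 1 := by rw [← map_mul, hri, map_one]
      have h4 : y₂ * algebraMap A L π ^ e = (1 + algebraMap A L w * z) * algebraMap A L π ^ k := by
        simp only [y₂, y₁, y]; field_simp
      field_simp
      linear_combination -h4 - algebraMap A L r * algebraMap A L π ^ e * h1 -
        algebraMap A L π ^ e * y₂ * hri'
    · simp only [ξ₃]
      have huwi : algebraMap A K (uw : A) * algebraMap A K uwi = 1 := by
        rw [← map_mul, Units.mul_inv, map_one]
      rw [huw, map_mul, map_mul, map_mul, map_mul, map_mul, map_pow, map_pow, map_pow, mul_pow, ← pow_mul,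
        mul_comm vw p, show algebraMap A K π ^ (p * vw) = algebraMap A K π * algebraMap A K π ^ (p * vw - 1) by
          rw [← pow_succ']; congr 1; have := Nat.mul_pos hp.pos hvw; omega]
      have huw0 : algebraMap A K (uw : A) ≠ 0 := left_ne_zero_of_mul_eq_one huwi
      rw [eq_inv_of_mul_eq_one_right huwi]
      field_simp
      rw [one_div, inv_pow, mul_inv_cancel_right₀ (pow_ne_zero _ huw0)]

end Groth.Agent.EtSol
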