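import Mathlib
import Groth.Prelude.Def_EtRam
import Groth.Agent.EtSol.PInsepSolution
import Groth.Agent.GeomProp.NormalSep

/-!
# A solution can be replaced by a separable solution
-/

set_option autoImplicit false
set_option linter.all false
set_option maxHeartbeats 800000

universe u

open IsLocalRing Polynomial
open scoped TensorProduct

noncomputable section

namespace Groth.Agent.EtSol

/-- A proper subextension over which a finite extension is purely inseparable of prime degree. -/
theorem exists_step {K K₂ : Type u} [Field K] [Field K₂] [Algebra K K₂] [FiniteDimensional K K₂] (p : ℕ)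
    [hp : Fact p.Prime] [CharP K p] (h : separableClosure K K₂ ≠ ⊤) :
    ∃ E : IntermediateField K K₂, IsPurelyInseparable E K₂ ∧ Module.finrank E K₂ = p := by
  classical
  haveI : CharP K₂ p := charP_of_injective_algebraMap (algebraMap K K₂).injective p
  obtain ⟨-, ⟨E, hSE, hE, rfl⟩, hmax⟩ := set_has_maximal_iff_noetherian.2 inferInstance
    {V : Submodule K K₂ | ∃ E : IntermediateField K K₂, separableClosure K K₂ ≤ E ∧ E ≠ ⊤ ∧
      E.toSubalgebra.toSubmodule = V} ⟨_, separableClosure K K₂, le_rfl, h, rfl⟩
  haveI : IsPurelyInseparable E K₂ := by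
    letI := (IntermediateField.inclusion hSE).toRingHom.toAlgebra
    haveI : IsScalarTower (separableClosure K K₂) E K₂ := IsScalarTower.of_algebraMap_eq fun _ => rfl
    exact IsPurelyInseparable.tower_top (separableClosure K K₂) E K₂
  haveI : CharP E p := charP_of_injective_algebraMap (algebraMap K E).injective p
  obtain ⟨x, hx⟩ : ∃ x, x ∉ E := by
    by_contra hall
    push Not at hall
    exact hE (eq_top_iff.2 fun x _ => hall x)
  obtain ⟨n, hn⟩ := IsPurelyInseparable.pow_mem E p x
  have hex : ∃ n, x ^ p ^ n ∈ E := ⟨n, by obtain ⟨e, he⟩ := hn; exact he ▸ e.2⟩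
  obtain ⟨m, hm⟩ : ∃ m, Nat.find hex = m + 1 := ⟨Nat.find hex - 1, (Nat.sub_add_cancel (Nat.one_le_iff_ne_zero.2
    fun h0 => hx (by have := Nat.find_spec hex; rwa [h0, pow_zero, pow_one] at this))).symm⟩
  let y := x ^ p ^ m
  have hy : y ∉ E := Nat.find_min hex (by omega)
  have hyp : y ^ p ∈ E := by
    have := Nat.find_spec hex
    rwa [hm, pow_succ, pow_mul] at this
  refine ⟨E, inferInstance, ?_⟩
  let E' : IntermediateField E K₂ := IntermediateField.adjoin E {y}
  have htop : E' = ⊤ := by
    have hle : E ≤ E'.restrictScalars K := fun e he => E'.algebraMap_mem ⟨e, he⟩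
    have hlt : E.toSubalgebra.toSubmodule < (E'.restrictScalars K).toSubalgebra.toSubmodule :=
      lt_of_le_of_ne hle fun heq => hy (by
        have : y ∈ (E'.restrictScalars K).toSubalgebra.toSubmodule := IntermediateField.mem_adjoin_simple_self E y
        rwa [← heq] at this)
    by_contra hne
    refine hmax _ ⟨E'.restrictScalars K, hSE.trans hle, fun heq => hne ?_, rfl⟩ hlt
    exact IntermediateField.restrictScalars_injective K (heq.trans IntermediateField.restrictScalars_top.symm)
  have hmin : minpoly E y = X ^ p - C ⟨y ^ p, hyp⟩ :=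
    (minpoly.eq_of_irreducible_of_monic (X_pow_sub_C_irreducible_of_prime hp.out fun e he => hy (by
        have : (e : K₂) = y := frobenius_inj K₂ p (congrArg Subtype.val he)
        exact this ▸ e.2))
      (by simp only [map_sub, map_pow, aeval_X, aeval_C]; exact sub_self _)
      (monic_X_pow_sub_C _ hp.out.ne_zero)).symm
  have h1 := IntermediateField.adjoin.finrank (K := E) (Algebra.IsIntegral.isIntegral y)
  rw [hmin, natDegree_X_pow_sub_C] at h1
  change Module.finrank E E' = p at h1
  rwa [htop, IntermediateField.finrank_top'] at h1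

theorem exists_separable_solution_of_solution (A B K L : Type u) [CommRing A] [IsDomain A]
    [IsDiscreteValuationRing A] [CommRing B] [IsDomain B] [IsDiscreteValuationRing B] [Algebra A B]
    [IsLocalHom (algebraMap A B)] (hinj : Function.Injective (algebraMap A B))
    [Field K] [Field L] [Algebra A K] [IsFractionRing A K] [Algebra B L] [IsFractionRing B L]
    [Algebra K L] [Algebra A L] [IsScalarTower A K L] [IsScalarTower A B L] [Algebra.IsGeometricallyReduced K L]
    (hB : CAlg.IsNagata B) (K₂ : Type u) [Field K₂] [Algebra K K₂] [FiniteDimensional K K₂]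
    (h₂ : EtRam.IsSolution B K L K₂) :
    ∃ (K₃ : Type u) (_ : Field K₃) (_ : Algebra K K₃) (_ : FiniteDimensional K K₃)
      (_ : Algebra.IsSeparable K K₃), EtRam.IsSolution B K L K₃ := by
  classical
  obtain ⟨q, hq⟩ := ExpChar.exists K
  induction hn : Field.finInsepDegree K K₂ using Nat.strong_induction_on generalizing K₂ with
  | _ n ih =>
  subst hn
  by_cases hS : separableClosure K K₂ = ⊤
  · haveI : Algebra.IsSeparable K K₂ := (separableClosure.eq_top_iff K K₂).1 hS
    exact ⟨K₂, inferInstance, inferInstance, inferInstance, inferInstance, h₂⟩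
  rcases hq with _ | hqp
  · haveI : PerfectField K := PerfectField.ofCharZero
    exact absurd ((separableClosure.eq_top_iff K K₂).2 inferInstance) hS
  rename_i _ hchar
  haveI := Fact.mk hqp
  obtain ⟨E, hE, hEd⟩ := exists_step q hS
  haveI := hE
  obtain ⟨K₃, _, _, _, _, hfin, hsep, hsol⟩ := exists_separable_solution q hqp A B K L hinj hB E K₂ h₂ hEd
  haveI := hfin
  haveI := hsep
  haveI : FiniteDimensional K K₃ := Module.Finite.trans E K₃
  refine ih (Field.finInsepDegree K K₃) ?_ K₃ hsol rfl
  rw [← Field.finInsepDegree_mul_finInsepDegree_of_isAlgebraic K E K₃,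
    ← Field.finInsepDegree_mul_finInsepDegree_of_isAlgebraic K E K₂, Algebra.IsSeparable.finInsepDegree_eq E K₃,
    IsPurelyInseparable.finInsepDegree_eq E K₂, hEd, mul_one]
  exact lt_mul_of_one_lt_right (NeZero.pos _) hqp.one_lt

end Groth.Agent.EtSol
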